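import Cfsg.Agent.Lib.NDDeg.Beis

/-!
# The linear algebra of the first three or four layers

`c` is the commutator `A × A → U`, `B` the commutator `U × A → V` and `T`, `φ` describe a
functional on the next layer. The main result is that there is no next layer.
-/

set_option autoImplicit false
set_option linter.unusedSectionVars false

namespace CfsgLib.NDDeg

open Module

variable {q : ℕ} [Fact q.Prime]

/-- The commutator maps between the layers. -/
structure Alg (q : ℕ) [Fact q.Prime] (A U V : Type*) [AddCommGroup A] [Module (ZMod q) A]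
    [AddCommGroup U] [Module (ZMod q) U] [AddCommGroup V] [Module (ZMod q) V] where
  c : A →ₗ[ZMod q] A →ₗ[ZMod q] U
  B : A →ₗ[ZMod q] U →ₗ[ZMod q] V
  calt : ∀ a, c a a = 0
  jac : ∀ x y z, B x (c y z) + B y (c z x) + B z (c x y) = 0
  c_surj : ∀ a, a ≠ 0 → Function.Surjective (c a)
  B_surj : ∀ u, u ≠ 0 → Function.Surjective fun a => B a u
  reach : ∀ a, a ≠ 0 → finrank (ZMod q) V + 1 ≤
    finrank (ZMod q) (LinearMap.range (B a)) + finrank (ZMod q) (LinearMap.ker (c a))

namespace Alg

variable {A U V : Type*} [AddCommGroup A] [Module (ZMod q) A] [FiniteDimensional (ZMod q) A]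
  [AddCommGroup U] [Module (ZMod q) U] [FiniteDimensional (ZMod q) U]
  [AddCommGroup V] [Module (ZMod q) V] [FiniteDimensional (ZMod q) V]
  (S : Alg q A U V)

theorem c_swap (a b : A) : S.c a b = - S.c b a :=
  (LinearMap.IsAlt.neg (B := S.c) S.calt b a).symm

theorem finrank_ker_c {a : A} (ha : a ≠ 0) :
    finrank (ZMod q) U + finrank (ZMod q) (LinearMap.ker (S.c a)) = finrank (ZMod q) A := by
  rw [← (S.c a).finrank_range_add_finrank_ker,
    LinearMap.range_eq_top.mpr (S.c_surj a ha), finrank_top]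

/-- The elements killed by a functional on the third layer. -/
def ker₃ (ν : Dual (ZMod q) V) : Submodule (ZMod q) A := LinearMap.ker (S.B.compr₂ ν)

theorem mem_ker₃ {ν : Dual (ZMod q) V} {a : A} : a ∈ S.ker₃ ν ↔ ∀ u, ν (S.B a u) = 0 := by
  simp [ker₃, LinearMap.ext_iff]

theorem form_surj {ν : Dual (ZMod q) V} (hν : ν ≠ 0) :
    Function.Surjective (S.B.compr₂ ν) := by
  have hinj : Function.Injective (S.B.compr₂ ν).flip := by
    rw [← LinearMap.ker_eq_bot, Submodule.eq_bot_iff]
    intro u hu
    by_contra hne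
    refine hν (LinearMap.ext fun v => ?_)
    obtain ⟨a, rfl⟩ := S.B_surj u hne v
    have := LinearMap.congr_fun (LinearMap.mem_ker.mp hu) a
    simpa using this
  have h := LinearMap.dualMap_surjective_iff.mpr hinj
  intro μ
  obtain ⟨ev, hev⟩ := h μ
  obtain ⟨a, rfl⟩ := (Module.evalEquiv (ZMod q) A).surjective ev
  refine ⟨a, ?_⟩
  rw [← hev]
  ext u
  simp

theorem ker₃_isotropic (ν : Dual (ZMod q) V) (hν : ν ≠ 0) :
    ∀ a ∈ S.ker₃ ν, ∀ b ∈ S.ker₃ ν, S.c a b = 0 := by
  intro a ha b hb
  by_contra hne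
  refine hν (LinearMap.ext fun v => ?_)
  obtain ⟨x, rfl⟩ := S.B_surj _ hne v
  have h := congrArg ν (S.jac x a b)
  rw [map_add, map_add, S.mem_ker₃.mp ha, S.mem_ker₃.mp hb, map_zero, add_zero, add_zero] at h
  simpa using h

theorem finrank_ker₃ {ν : Dual (ZMod q) V} (hν : ν ≠ 0) :
    finrank (ZMod q) U + finrank (ZMod q) (S.ker₃ ν) = finrank (ZMod q) A := by
  rw [← (S.B.compr₂ ν).finrank_range_add_finrank_ker,
    LinearMap.range_eq_top.mpr (S.form_surj hν), finrank_top, Subspace.dual_finrank_eq]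
  rfl

include S in
theorem finrank_A [Nontrivial A] [Nontrivial U] [Nontrivial V] :
    finrank (ZMod q) A = finrank (ZMod q) U + finrank (ZMod q) U := by
  have h1 := two_mul_finrank_le S.c S.calt S.c_surj
  obtain ⟨ν, hν⟩ : ∃ ν : Dual (ZMod q) V, ν ≠ 0 := exists_ne 0
  have h2 := S.finrank_ker₃ hν
  obtain ⟨μ, hμ⟩ : ∃ μ : Dual (ZMod q) U, μ ≠ 0 := exists_ne 0
  have hn := nondegenerate_comp S.c S.calt S.c_surj hμ
  have hle : S.ker₃ ν ≤ LinearMap.BilinForm.orthogonal (S.c.compr₂ μ) (S.ker₃ ν) := fun x hx y hy => by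
    show μ (S.c y x) = 0
    rw [S.ker₃_isotropic ν hν y hy x hx, map_zero]
  have h3 := Submodule.finrank_mono hle
  rw [LinearMap.BilinForm.finrank_orthogonal hn] at h3
  have h4 := (S.ker₃ ν).finrank_le
  omega

variable [Nontrivial A] [Nontrivial U] [Nontrivial V]

theorem ker₃_eq_ker_c {ν : Dual (ZMod q) V} (hν : ν ≠ 0) {a : A} (ha : a ≠ 0)
    (h : a ∈ S.ker₃ ν) : S.ker₃ ν = LinearMap.ker (S.c a) := by
  refine Submodule.eq_of_le_of_finrank_eq (fun b hb => ?_) ?_
  · exact LinearMap.mem_ker.mpr (S.ker₃_isotropic ν hν a h b hb)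
  · have := S.finrank_ker₃ hν
    have := S.finrank_ker_c ha
    omega

include S in
theorem finrank_V_lt : finrank (ZMod q) V < finrank (ZMod q) A := by
  obtain ⟨a, ha⟩ := exists_ne (0 : A)
  have h1 := S.reach a ha
  have h2 := S.finrank_ker_c ha
  have h3 := S.finrank_A
  have h4 := (S.B a).finrank_range_le
  omega

/-- The functional on the next layer is not killed on the derived part. -/
theorem phi_ne_zero (T : A →ₗ[ZMod q] Dual (ZMod q) V)
    (φ : U →ₗ[ZMod q] U →ₗ[ZMod q] ZMod q)
    (hid : ∀ x y u, T y (S.B x u) - T x (S.B y u) = φ u (S.c x y)) (hT : T ≠ 0) : φ ≠ 0 := by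
  intro hφ
  have hsym : ∀ x y u, T y (S.B x u) = T x (S.B y u) := fun x y u => by
    simpa [hφ, sub_eq_zero] using hid x y u
  have hker : LinearMap.ker T ≠ ⊥ := fun h => by
    have h1 := LinearMap.finrank_le_finrank_of_injective (LinearMap.ker_eq_bot.mp h)
    rw [Subspace.dual_finrank_eq] at h1
    have := S.finrank_V_lt
    omega
  obtain ⟨j, hjT, hj⟩ := Submodule.exists_mem_ne_zero_of_ne_bot hker
  have hjT' : T j = 0 := hjT
  obtain ⟨x, hx⟩ : ∃ x, T x ≠ 0 := by
    by_contra h
    push Not at h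
    exact hT (LinearMap.ext h)
  have hJ : LinearMap.ker T ≤ S.ker₃ (T x) := fun y hy => S.mem_ker₃.mpr fun u => by
    rw [← hsym, LinearMap.mem_ker.mp hy, LinearMap.zero_apply]
  have hle := Submodule.finrank_mono hJ
  have h1 := S.finrank_ker₃ hx
  have h2 := T.finrank_range_add_finrank_ker
  have h3 : finrank (ZMod q) (LinearMap.range T) ≤
      finrank (ZMod q) (LinearMap.range (S.B j)).dualAnnihilator := by
    refine Submodule.finrank_mono ?_
    rintro _ ⟨y, rfl⟩
    rw [Submodule.mem_dualAnnihilator]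
    rintro _ ⟨u, rfl⟩
    rw [hsym, hjT', LinearMap.zero_apply]
  have h4 := Subspace.finrank_add_finrank_dualAnnihilator_eq (LinearMap.range (S.B j))
  have h5 := S.reach j hj
  have h6 := S.finrank_ker_c hj
  have h7 := S.finrank_A
  omega

/-- Nor is it nondegenerate there. -/
theorem phi_degenerate (T : A →ₗ[ZMod q] Dual (ZMod q) V)
    (φ : U →ₗ[ZMod q] U →ₗ[ZMod q] ZMod q) (hφalt : ∀ u, φ u u = 0)
    (hid : ∀ x y u, T y (S.B x u) - T x (S.B y u) = φ u (S.c x y)) :
    ∃ u, u ≠ 0 ∧ ∀ v, φ u v = 0 := by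
  by_contra hnd
  push Not at hnd
  have hφswap : ∀ u v, φ u v = - φ v u := fun u v =>
    (LinearMap.IsAlt.neg (B := φ) hφalt v u).symm
  have hφ0 : ∀ u, (∀ v, φ u v = 0) → u = 0 := fun u h => by
    by_contra hu
    obtain ⟨v, hv⟩ := hnd u hu
    exact hv (h v)
  have hker : LinearMap.ker T ≠ ⊥ := fun h => by
    have h1 := LinearMap.finrank_le_finrank_of_injective (LinearMap.ker_eq_bot.mp h)
    rw [Subspace.dual_finrank_eq] at h1
    have := S.finrank_V_lt
    omega
  obtain ⟨j, hjT, hj⟩ := Submodule.exists_mem_ne_zero_of_ne_bot hker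
  have hjT' : T j = 0 := hjT
  have hG : ∀ x u, T x (S.B j u) = φ u (S.c j x) := fun x u => by
    have := hid x j u
    rw [hjT', LinearMap.zero_apply, zero_sub, S.c_swap x j, map_neg, neg_inj] at this
    exact this
  set Cj := S.c j with hCj
  have hBinj : Function.Injective (S.B j) := by
    rw [← LinearMap.ker_eq_bot, Submodule.eq_bot_iff]
    intro u hu
    refine hφ0 u fun v => ?_
    obtain ⟨x, rfl⟩ := S.c_surj j hj v
    rw [← hG, LinearMap.mem_ker.mp hu, map_zero]
  set N := LinearMap.ker Cj with hN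
  have hiso : ∀ a ∈ N, ∀ b ∈ N, S.c a b = 0 := by
    by_cases hall : ∀ y ∈ N, T y = 0
    · intro a ha b hb
      refine hφ0 _ fun v => ?_
      rw [hφswap, ← hid a b v, hall a ha, hall b hb]
      simp
    · push Not at hall
      obtain ⟨y, hy, hTy⟩ := hall
      have hmem : j ∈ S.ker₃ (T y) := S.mem_ker₃.mpr fun u => by
        rw [hG, show S.c j y = 0 from hy, map_zero]
      rw [hN, hCj, ← S.ker₃_eq_ker_c hTy hj hmem]
      exact S.ker₃_isotropic _ hTy
  obtain ⟨s, hs⟩ := Cj.exists_rightInverse_of_surjective (LinearMap.range_eq_top.mpr (S.c_surj j hj))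
  have hs' : ∀ u, Cj (s u) = u := fun u => LinearMap.congr_fun hs u
  let R : N →ₗ[ZMod q] Module.End (ZMod q) U :=
    { toFun := fun h => (S.c (h : A)).comp s
      map_add' := fun a b => by ext u; simp
      map_smul' := fun r a => by ext u; simp }
  have hR : ∀ (h : N) x, S.c (h : A) x = R h (Cj x) := fun h x => by
    have hm : x - s (Cj x) ∈ N := by rw [hN, LinearMap.mem_ker, map_sub, hs', sub_self]
    have := hiso _ h.2 _ hm
    rw [map_sub, sub_eq_zero] at this
    exact this
  have hBR : ∀ (h : N) u, S.B (h : A) u = S.B j (R h u) := fun h u => by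
    obtain ⟨x, rfl⟩ := S.c_surj j hj u
    rw [← hR]
    have := S.jac j h x
    rw [show S.c j (h : A) = 0 from h.2, map_zero, add_zero, S.c_swap x j, map_neg,
      ← sub_eq_add_neg, sub_eq_zero] at this
    exact this.symm
  have hcomm : ∀ h k : N, R h * R k = R k * R h := fun h k => by
    refine LinearMap.ext fun u => hBinj ?_
    obtain ⟨x, rfl⟩ := S.c_surj j hj u
    show S.B j (R h (R k (Cj x))) = S.B j (R k (R h (Cj x)))
    rw [← hR, ← hR, ← hBR, ← hBR]
    have := S.jac h k x
    rw [hiso _ h.2 _ k.2, map_zero, add_zero, S.c_swap x h, map_neg, ← sub_eq_add_neg,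
      sub_eq_zero] at this
    exact this
  have hRinj : ∀ h : N, h ≠ 0 → Function.Injective (R h) := fun h hh => by
    refine LinearMap.injective_iff_surjective.mpr fun v => ?_
    obtain ⟨x, rfl⟩ := S.c_surj (h : A) (fun e => hh (Subtype.ext e)) v
    exact ⟨Cj x, (hR h x).symm⟩
  obtain ⟨u₀, hu₀⟩ := exists_ne (0 : U)
  let ev : N →ₗ[ZMod q] U := (LinearMap.applyₗ u₀).comp R
  have hev : Function.Bijective ev := by
    have hinj : Function.Injective ev := by
      rw [← LinearMap.ker_eq_bot, Submodule.eq_bot_iff]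
      intro h hh
      by_contra hne
      exact hu₀ (hRinj h hne (by rw [map_zero]; exact hh))
    refine ⟨hinj, (LinearMap.injective_iff_surjective_of_finrank_eq_finrank ?_).mp hinj⟩
    have := S.finrank_ker_c hj
    have := S.finrank_A
    rw [hN, hCj]
    omega
  have hmul : ∀ h k : N, ∃ l : N, R l = R h * R k := fun h k => by
    obtain ⟨l, hl⟩ := hev.2 (R h (R k u₀))
    refine ⟨l, LinearMap.ext fun u => ?_⟩
    obtain ⟨m, rfl⟩ := hev.2 u
    show R l (R m u₀) = R h (R k (R m u₀))
    have e1 : R h * R k * R m = R m * (R h * R k) := by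
      rw [mul_assoc, hcomm k m, ← mul_assoc, hcomm h m, mul_assoc]
    calc R l (R m u₀) = R m (R l u₀) := LinearMap.congr_fun (hcomm l m) u₀
      _ = R m (R h (R k u₀)) := congrArg _ hl
      _ = R h (R k (R m u₀)) := (LinearMap.congr_fun e1 u₀).symm
  -- the two expansions of the symmetric map
  have hkey : ∀ (h : N) w w', φ (R h (R h w)) w' + φ w (R h (R h w')) =
      φ (R h w) (R h w') + φ (R h w) (R h w') := by
    intro h w w'
    obtain ⟨x, rfl⟩ := (show Function.Surjective Cj from S.c_surj j hj) w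
    obtain ⟨x', rfl⟩ := (show Function.Surjective Cj from S.c_surj j hj) w'
    have hP : ∀ y y', T (h : A) (S.B y (S.c (h : A) y')) =
        φ (R h (R h (Cj y'))) (Cj y) - φ (R h (Cj y')) (R h (Cj y)) := fun y y' => by
      have e := hid y h (S.c (h : A) y')
      rw [hR h y', hBR h, hG, sub_eq_iff_eq_add, S.c_swap y (h : A), map_neg, hR h y] at e
      rw [hR h y', e]
      abel
    have hzero : T (h : A) (S.B (h : A) (S.c x' x)) = 0 := by
      rw [hBR, hG, show S.c j (h : A) = 0 from h.2, map_zero]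
    have hs : T (h : A) (S.B x (S.c (h : A) x')) = T (h : A) (S.B x' (S.c (h : A) x)) := by
      have := congrArg (T (h : A)) (S.jac x h x')
      rw [map_add, map_add, map_zero, hzero, add_zero, S.c_swap x (h : A), map_neg, map_neg,
        ← sub_eq_add_neg, sub_eq_zero] at this
      exact this
    rw [hP, hP] at hs
    rw [hφswap (Cj x) (R h (R h (Cj x')))]
    rw [hφswap (R h (Cj x')) (R h (Cj x))] at hs
    linear_combination -hs
  -- an arithmetic progression
  have hq : ∀ (h : N) w w', φ ((R h ^ q) w) w' = φ w ((R h ^ q) w') := by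
    intro h w w'
    set g : ℕ → ZMod q := fun i => φ ((R h ^ i) w) ((R h ^ (q - i)) w') with hg
    have hstep : ∀ i, i + 2 ≤ q → g (i + 2) + g i = g (i + 1) + g (i + 1) := fun i hi => by
      have := hkey h ((R h ^ i) w) ((R h ^ (q - (i + 2))) w')
      simp only [hg]
      rw [show q - i = (q - (i + 2)) + 1 + 1 by omega, show q - (i + 1) = q - (i + 2) + 1 by omega]
      simp only [show i + 2 = i + 1 + 1 from rfl, pow_succ', Module.End.mul_apply] at this ⊢
      exact this
    have hlin : ∀ i, i ≤ q → g i = g 0 + (i : ZMod q) * (g 1 - g 0) := by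
      intro i
      induction i using Nat.twoStepInduction with
      | zero => intro _; simp
      | one => intro _; simp
      | more i ih1 ih2 =>
        intro hi
        have := hstep i hi
        rw [ih1 (by omega), ih2 (by omega)] at this
        push_cast at this ⊢
        linear_combination this
    have := hlin q le_rfl
    simp only [hg, ZMod.natCast_self, zero_mul, add_zero, Nat.sub_self, pow_zero,
      Module.End.one_apply, Nat.sub_zero] at this
    exact this
  -- every `R h` is a `q`-th power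
  have hpow : ∀ (n : ℕ) (h : N), ∃ l : N, R l = R h ^ (n + 1) := fun n h => by
    induction n with
    | zero => exact ⟨h, (pow_one _).symm⟩
    | succ n ih =>
      obtain ⟨l, hl⟩ := ih
      obtain ⟨l', hl'⟩ := hmul l h
      exact ⟨l', by rw [hl', hl, ← pow_succ]⟩
  have hqp : q.Prime := Fact.out
  choose F hF using fun h => hpow (q - 1) h
  have hF' : ∀ h, R (F h) = R h ^ q := fun h => by
    rw [hF, Nat.sub_add_cancel hqp.pos]
  have hRinj' : Function.Injective R := fun a b e => hev.1 (by
    show R a u₀ = R b u₀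
    rw [e])
  haveI : Finite N := Module.finite_of_finite (ZMod q)
  haveI : Nontrivial (Module.End (ZMod q) U) := inferInstance
  haveI : CharP (Module.End (ZMod q) U) q :=
    charP_of_injective_algebraMap (R := ZMod q) (algebraMap (ZMod q) _).injective q
  have hFinj : Function.Injective F := fun a b e => by
    have e1 := congrArg R e
    rw [hF', hF', ← sub_eq_zero, ← sub_pow_char_of_commute q (hcomm a b), ← map_sub] at e1
    by_contra hne
    have hi := hRinj (a - b) (sub_ne_zero.mpr hne)
    refine hu₀ ((?_ : Function.Injective ⇑(R (a - b) ^ q)) (by rw [e1]; simp))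
    rw [Module.End.coe_pow]
    exact hi.iterate q
  have hself : ∀ (h : N) w w', φ (R h w) w' = φ w (R h w') := fun h w w' => by
    obtain ⟨g, rfl⟩ := Finite.surjective_of_injective hFinj h
    rw [hF']
    exact hq g w w'
  have hzero : ∀ (h : N), φ u₀ (R h u₀) = 0 := fun h => by
    by_cases hq2 : q = 2
    · obtain ⟨g, rfl⟩ := Finite.surjective_of_injective hFinj h
      rw [(hF' g).trans (congrArg (R g ^ ·) hq2), pow_two, Module.End.mul_apply, ← hself]
      exact hφalt _
    · have h2 : (2 : ZMod q) ≠ 0 := fun e => hq2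
        ((Nat.prime_dvd_prime_iff_eq hqp Nat.prime_two).mp
          ((CharP.cast_eq_zero_iff (ZMod q) q 2).mp (by exact_mod_cast e)))
      have e := hself h u₀ u₀
      rw [hφswap (R h u₀) u₀] at e
      exact (mul_eq_zero.mp (by linear_combination (-1 : ZMod q) * e :
        (2 : ZMod q) * φ u₀ (R h u₀) = 0)).resolve_left h2
  exact hu₀ (hφ0 u₀ fun v => by
    obtain ⟨h, rfl⟩ := hev.2 v
    exact hzero h)

end Alg

end CfsgLib.NDDeg
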