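import Cfsg.Agent.Lib.NDDeg.Op

/-!
# Vanishing by twisting with linear characters
-/

set_option autoImplicit false
set_option linter.style.haveILetI false
set_option linter.unusedSectionVars false

namespace CfsgLib.NDDeg

open Cfsg CfsgLib.Char CfsgLib.NDTwoComp Function
open scoped ComplexConjugate CfsgLib.Char commutatorElement

universe u

variable {K : Type u} [Group K]

theorem sum_orbit_linear_mul [Fintype K] (N : Subgroup K) [N.Normal] (μ : N →* ℂˣ)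
    (hμ : ∀ (g : K) (n : N) (h : g * n * g⁻¹ ∈ N), μ ⟨_, h⟩ = μ n) (θ : N → ℂ) :
    ∑ φ ∈ orbit N (fun n => (μ n : ℂ) * θ n), φ =
      ∑ φ ∈ orbit N θ, fun n => (μ n : ℂ) * φ n := by
  classical
  have key : ∀ g, conjBy N (fun n => (μ n : ℂ) * θ n) g =
      fun n => (μ n : ℂ) * conjBy N θ g n := fun g => funext fun n => by
    simp only [conjBy]
    rw [hμ g n]
  symm
  refine Finset.sum_bij (fun φ _ => fun n => (μ n : ℂ) * φ n) ?_ ?_ ?_ (fun φ _ => rfl)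
  · intro φ hφ
    obtain ⟨g, rfl⟩ := (mem_orbit N).mp hφ
    exact (mem_orbit N).mpr ⟨g, key g⟩
  · exact fun a _ b _ e => funext fun m => mul_left_cancel₀ (Units.ne_zero _) (congrFun e m)
  · intro φ hφ
    obtain ⟨g, rfl⟩ := (mem_orbit N).mp hφ
    exact ⟨_, (mem_orbit N).mpr ⟨g, rfl⟩, (key g).symm⟩

/-- Twisting a restriction by an invariant linear character. -/
theorem exists_twist [Finite K] (N : Subgroup K) [N.Normal] (μ : N →* ℂˣ)
    (hμ : ∀ (g : K) (n : N) (h : g * n * g⁻¹ ∈ N), μ ⟨_, h⟩ = μ n) (ψ : IrrCharacter K) :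
    ∃ ψ' : IrrCharacter K, ∀ n : N,
      (ψ' : K → ℂ) n * (ψ : K → ℂ) 1 = (μ n : ℂ) * (ψ : K → ℂ) n * (ψ' : K → ℂ) 1 := by
  classical
  haveI := Fintype.ofFinite K
  haveI := Fintype.ofFinite N
  obtain ⟨θ, hθ⟩ := exists_constituent N (isCharacter_of_isIrr ψ.2) (irr_degree_ne_zero ψ.2)
  obtain ⟨ψ', hψ'⟩ := exists_over N ⟨_, isIrrCharacter_linear_mul θ.2 μ⟩
  refine ⟨ψ', fun n => ?_⟩
  have e1 := clifford N ψ.2 θ.2 hθ
  have e2 := clifford N ψ'.2 (isIrrCharacter_linear_mul θ.2 μ) hψ'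
  rw [sum_orbit_linear_mul N μ hμ] at e2
  have a1 := congrFun e1 n
  have a0 := congrFun e1 1
  have b1 := congrFun e2 n
  have b0 := congrFun e2 1
  simp only [Pi.smul_apply, Finset.sum_apply, smul_eq_mul, ← Finset.mul_sum, map_one,
    Units.val_one, one_mul, OneMemClass.coe_one] at a1 a0 b1 b0
  rw [a1, a0, b1, b0]
  ring

namespace Op

variable (D : Op K)

theorem isClassFunction_apply {θ : K → ℂ} (hθ : IsClassFunction K θ) (k : K) :
    θ ((D.σ ^ D.f) k) = θ k := by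
  rw [D.inner]; exact hθ k D.l

theorem apply_os (ψ : IrrCharacter K) (k : K) :
    (ψ : K → ℂ) ((D.σ ^ os D.σ (ψ : K → ℂ)) k) = (ψ : K → ℂ) k :=
  (os_dvd_iff _ _ _).mp dvd_rfl k

theorem pow_mem_of_apply_mem {N : Subgroup K} (hσN : ∀ n ∈ N, D.σ n ∈ N) (j : ℕ) :
    ∀ n ∈ N, (D.σ ^ j) n ∈ N := by
  induction j with
  | zero => exact fun n hn => by simpa using hn
  | succ j ih => exact fun n hn => by rw [pow_succ', MulAut.mul_apply]; exact hσN _ (ih n hn)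

variable [Finite K]

/-- The covering argument for invariant linear characters of a normal subgroup. -/
theorem twist_cover (N : Subgroup K) [N.Normal] (hσN : ∀ n ∈ N, D.σ n ∈ N)
    (Γ : Subgroup (N →* ℂˣ))
    (hinv : ∀ μ ∈ Γ, ∀ (g : K) (n : N) (h : g * n * g⁻¹ ∈ N), μ ⟨_, h⟩ = μ n)
    (hΓ : ∀ μ ∈ Γ, ∀ ν : N →* ℂˣ, (∀ n : N, ν n = μ ⟨D.σ n, hσN n n.2⟩) → ν ∈ Γ)
    {t : ℕ} (ht : t ∣ D.f)
    (hfpf : ∀ j, ¬ t ∣ j → ∀ μ ∈ Γ,
      (∀ n : N, μ ⟨(D.σ ^ j) n, D.pow_mem_of_apply_mem hσN j n n.2⟩ = μ n) → μ = 1)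
    (ψ : IrrCharacter K)
    (hψ : ∀ ψ' : IrrCharacter K, (∃ μ ∈ Γ, ∀ n : N,
      (ψ' : K → ℂ) n * (ψ : K → ℂ) 1 = (μ n : ℂ) * (ψ : K → ℂ) n * (ψ' : K → ℂ) 1) →
      ¬ t ∣ os D.σ (ψ' : K → ℂ)) :
    ∀ μ ∈ Γ, ∀ n : N, (μ n : ℂ) * (ψ : K → ℂ) n = (ψ : K → ℂ) n := by
  classical
  haveI : Finite (N →* ℂˣ) := Finite.of_equiv _ (linearEquiv (G := N))
  let σN : N →* N :=
    { toFun := fun n => ⟨D.σ n, hσN n n.2⟩
      map_one' := Subtype.ext (map_one D.σ)
      map_mul' := fun a b => Subtype.ext (map_mul D.σ (a : K) b) }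
  let e0 : Γ →* Γ :=
    { toFun := fun μ => ⟨(μ : N →* ℂˣ).comp σN, hΓ μ μ.2 _ fun n => rfl⟩
      map_one' := Subtype.ext (MonoidHom.ext fun n => rfl)
      map_mul' := fun a b => Subtype.ext (MonoidHom.ext fun n => rfl) }
  have hsurjN : Function.Surjective σN := Finite.surjective_of_injective
    fun a b e => Subtype.ext (D.σ.injective (congrArg Subtype.val e))
  have he0 : Function.Injective e0 := fun a b e => Subtype.ext (MonoidHom.ext fun n => by
    obtain ⟨m, rfl⟩ := hsurjN n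
    exact DFunLike.congr_fun (congrArg Subtype.val e) m)
  let E : MulAut Γ := MulEquiv.ofBijective e0 ⟨he0, Finite.surjective_of_injective he0⟩
  have hEj : ∀ (j : ℕ) (μ : Γ) (n : N), ((E ^ j) μ : N →* ℂˣ) n =
      (μ : N →* ℂˣ) ⟨(D.σ ^ j) n, D.pow_mem_of_apply_mem hσN j n n.2⟩ := by
    intro j
    induction j with
    | zero => intro μ n; rfl
    | succ j ih =>
      intro μ n
      rw [pow_succ, MulAut.mul_apply]
      refine (ih (E μ) n).trans ?_
      show (μ : N →* ℂˣ) (σN _) = _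
      congr 1
      exact Subtype.ext (show D.σ ((D.σ ^ j) (n : K)) = (D.σ ^ (j + 1)) (n : K) by
        rw [pow_succ', MulAut.mul_apply])
  let act : Γ → (N → ℂ) → (N → ℂ) := fun μ θ n => ((μ : N →* ℂˣ) n : ℂ) * θ n
  let T : (N → ℂ) → (N → ℂ) := fun θ n => θ (σN n)
  have hTj : ∀ (j : ℕ) (θ : N → ℂ) (n : N),
      (T^[j]) θ n = θ ⟨(D.σ ^ j) n, D.pow_mem_of_apply_mem hσN j n n.2⟩ := by
    intro j
    induction j with
    | zero => intro θ n; rfl
    | succ j ih =>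
      intro θ n
      rw [iterate_succ_apply, ih]
      show θ (σN _) = _
      congr 1
      exact Subtype.ext (show D.σ ((D.σ ^ j) (n : K)) = (D.σ ^ (j + 1)) (n : K) by
        rw [pow_succ', MulAut.mul_apply])
  set x : N → ℂ := fun n => (ψ : K → ℂ) n / (ψ : K → ℂ) 1 with hx
  have h0 := irr_degree_ne_zero ψ.2
  have hfix : ∀ (μ : Γ) (j : ℕ), T^[j] (act μ x) = act μ x ↔
      ∀ n : N, ((μ : N →* ℂˣ) ⟨(D.σ ^ j) n, D.pow_mem_of_apply_mem hσN j n n.2⟩ : ℂ) *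
        (ψ : K → ℂ) ((D.σ ^ j) n) = ((μ : N →* ℂˣ) n : ℂ) * (ψ : K → ℂ) n := by
    intro μ j
    simp only [funext_iff, hTj]
    refine forall_congr' fun n => ?_
    simp only [act, hx, ← mul_div_assoc]
    exact div_left_inj' h0
  have hcov := cover act (fun θ => funext fun n => one_mul _)
    (fun a b θ => funext fun n => by simp only [act, Subgroup.coe_mul, MonoidHom.mul_apply,
      Units.val_mul, mul_assoc])
    E T (fun a θ => rfl) ht D.f_pos.ne'
    (MulEquiv.ext fun μ => Subtype.ext (MonoidHom.ext fun n => by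
      rw [hEj]
      show (μ : N →* ℂˣ) _ = (μ : N →* ℂˣ) n
      have hm : D.l * (n : K) * D.l⁻¹ ∈ N := ‹N.Normal›.conj_mem _ n.2 _
      rw [← hinv μ μ.2 D.l n hm]
      congr 1
      exact Subtype.ext (D.inner _)))
    x (fun μ => (hfix μ D.f).mpr fun n => by
      rw [D.isClassFunction_apply (isClassFunction_irr ψ)]
      have hm : D.l * (n : K) * D.l⁻¹ ∈ N := ‹N.Normal›.conj_mem _ n.2 _
      rw [← hinv μ μ.2 D.l n hm]
      congr 3
      exact Subtype.ext (D.inner _))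
    (fun j hj μ hμ => Subtype.ext (hfpf j hj μ μ.2 fun n => by rw [← hEj, hμ]))
    (fun μ => by
      obtain ⟨ψ', hψ'⟩ := exists_twist N (μ : N →* ℂˣ) (hinv μ μ.2) ψ
      refine ⟨os D.σ (ψ' : K → ℂ), hψ ψ' ⟨μ, μ.2, hψ'⟩, (hfix _ _).mpr fun n => ?_⟩
      have a := hψ' ⟨_, D.pow_mem_of_apply_mem hσN (os D.σ (ψ' : K → ℂ)) n n.2⟩
      have b := hψ' n
      rw [D.apply_os ψ'] at a
      exact mul_right_cancel₀ (irr_degree_ne_zero ψ'.2) (a.symm.trans b))
  intro μ hμ n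
  have := congrFun (hcov ⟨μ, hμ⟩) n
  simp only [act, hx, ← mul_div_assoc] at this
  exact (div_left_inj' h0).mp this

/-- The nonlinear characters vanish off `Z0`. -/
theorem vanish (ψ : IrrCharacter K) (hψ : (ψ : K → ℂ) 1 ≠ 1) {x : K} (hx : x ∉ D.Z0) :
    (ψ : K → ℂ) x = 0 := by
  classical
  haveI := Fintype.ofFinite K
  let Γ : Subgroup ((⊤ : Subgroup K) →* ℂˣ) :=
    { carrier := {μ | ∀ k : (⊤ : Subgroup K), (k : K) ∈ D.Z0 → μ k = 1}
      one_mem' := fun _ _ => rfl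
      mul_mem' := fun {a b} ha hb k hk => by rw [MonoidHom.mul_apply, ha k hk, hb k hk, one_mul]
      inv_mem' := fun {a} ha k hk => by rw [MonoidHom.inv_apply, ha k hk, inv_one] }
  have hcomm : ∀ μ : (⊤ : Subgroup K) →* ℂˣ, ∀ (g : K) (n : (⊤ : Subgroup K))
      (h : g * n * g⁻¹ ∈ (⊤ : Subgroup K)), μ ⟨_, h⟩ = μ n := fun μ g n h => by
    rw [show (⟨g * n * g⁻¹, h⟩ : (⊤ : Subgroup K)) =
      ⟨g, trivial⟩ * n * ⟨g, trivial⟩⁻¹ from rfl, map_mul, map_mul, map_inv,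
      mul_comm (μ _), mul_inv_cancel_right]
  let ι : K →* (⊤ : Subgroup K) :=
    { toFun := fun k => ⟨k, trivial⟩
      map_one' := rfl
      map_mul' := fun _ _ => rfl }
  have h := D.twist_cover ⊤ (fun _ _ => trivial) Γ (fun μ _ => hcomm μ)
    (fun μ hμ ν hν k hk => (hν k).trans (hμ _ (D.apply_mem_Z0 hk))) dvd_rfl
    (fun j hj μ hμ hfix => by
      have := D.hom_eq_one (μ.comp ι)
        (fun z hz => hμ _ hz) hj (fun k => hfix ⟨k, trivial⟩)
      exact MonoidHom.ext fun k => DFunLike.congr_fun this (k : K)) ψ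
    (fun ψ' ⟨μ, _, hμ⟩ => by
      obtain ⟨a, -, ha⟩ := exists_nat_degree_irr ψ'.2
      refine D.not_f_dvd_os ψ' ha fun h1 => hψ ?_
      -- otherwise `ψ` is a multiple of a linear character
      set β := linearHom (isCharacter_of_isIrr ψ'.2) (by rw [ha, h1, Nat.cast_one])
      set ρ : K →* ℂˣ := β * (μ.comp ι)⁻¹
      have he : (ψ : K → ℂ) = (ψ : K → ℂ) 1 • fun k => (ρ k : ℂ) := funext fun k => by
        have := hμ ⟨k, trivial⟩
        rw [show (ψ' : K → ℂ) 1 = 1 by rw [ha, h1, Nat.cast_one], mul_one] at this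
        simp only [ρ, β, Pi.smul_apply, smul_eq_mul, MonoidHom.mul_apply, MonoidHom.inv_apply,
          Units.val_mul, Units.val_inv_eq_inv_val, linearHom_apply, MonoidHom.comp_apply]
        rw [← mul_assoc, eq_mul_inv_iff_mul_eq₀ (Units.ne_zero _), mul_comm ((ψ : K → ℂ) k),
          mul_comm ((ψ : K → ℂ) 1)]
        exact this.symm
      by_contra hne
      have hρ : (ψ : K → ℂ) ≠ fun k => (ρ k : ℂ) := fun e => hne (by rw [e]; simp)
      have h1 := classInner_irr ψ.2 (isIrrCharacter_monoidHom ρ)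
      rw [if_neg hρ] at h1
      nth_rewrite 1 [he] at h1
      rw [classInner_smul_left, classInner_irr_self (isIrrCharacter_monoidHom ρ), mul_one] at h1
      exact irr_degree_ne_zero ψ.2 h1)
  -- separate
  have hne : (x : K ⧸ D.Z0) ≠ 1 := fun e => hx ((QuotientGroup.eq_one_iff x).mp e)
  have hc : ∀ a b : K ⧸ D.Z0, a * b = b * a := fun a b => by
    obtain ⟨a, rfl⟩ := QuotientGroup.mk_surjective a
    obtain ⟨b, rfl⟩ := QuotientGroup.mk_surjective b
    rw [← QuotientGroup.mk_mul, ← QuotientGroup.mk_mul, QuotientGroup.eq]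
    exact D.commutator_le_Z0 (by
      rw [show (a * b)⁻¹ * (b * a) = ⁅b⁻¹, a⁻¹⁆ by simp [commutatorElement_def, mul_assoc]]
      exact Subgroup.commutator_mem_commutator (Subgroup.mem_top _) (Subgroup.mem_top _))
  letI : CommGroup (K ⧸ D.Z0) := { mul_comm := hc }
  obtain ⟨φ, hφ⟩ := CommGroup.exists_apply_ne_one_of_hasEnoughRootsOfUnity (K ⧸ D.Z0) ℂ hne
  have := h ((φ.comp (QuotientGroup.mk' D.Z0)).comp (⊤ : Subgroup K).subtype) (fun k hk => by
    simp [(QuotientGroup.eq_one_iff (k : K)).mpr hk]) ⟨x, trivial⟩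
  by_contra h0
  exact hφ (Units.ext (mul_eq_right₀ h0 |>.mp this))

/-- The class of an element outside `Z0` is a coset of the derived subgroup. -/
theorem isConj_of_notMem {x z : K} (hx : x ∉ D.Z0) (hz : z⁻¹ * x ∈ commutator K) :
    IsConj z x := by
  refine (class_of_vanish fun χ hχ => D.vanish χ hχ hx).2 z hz fun χ hχ => D.vanish χ hχ fun h => hx ?_
  have := mul_mem h (D.commutator_le_Z0 hz)
  rwa [mul_inv_cancel_left] at this

theorem card_centralizer {x : K} (hx : x ∉ D.Z0) :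
    Nat.card (Subgroup.centralizer ({x} : Set K)) = (commutator K).index :=
  (class_of_vanish fun χ hχ => D.vanish χ hχ hx).1

/-- The square of a nonlinear degree. -/
theorem degree_sq [Fintype D.Z0] (ψ : IrrCharacter K) {d : ℕ} (hd : (ψ : K → ℂ) 1 = d) (hd1 : d ≠ 1) :
    ∃ (θ : IrrCharacter D.Z0) (o a : ℕ), (θ : D.Z0 → ℂ) 1 = a ∧
      classInner (fun n : D.Z0 => (ψ : K → ℂ) n) (θ : D.Z0 → ℂ) ≠ 0 ∧
      ((o = 1) → ∀ g, conjBy D.Z0 (θ : D.Z0 → ℂ) g = θ) ∧ d * d = D.Z0.index * o * (a * a) := by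
  classical
  haveI := Fintype.ofFinite K
  obtain ⟨θ, hθ⟩ := exists_constituent D.Z0 (isCharacter_of_isIrr ψ.2) (irr_degree_ne_zero ψ.2)
  obtain ⟨a, -, ha⟩ := exists_nat_degree_irr θ.2
  refine ⟨θ, (orbit D.Z0 (θ : D.Z0 → ℂ)).card, a, ha, hθ, fun h1 g => ?_, ?_⟩
  · obtain ⟨φ, hφ⟩ := Finset.card_eq_one.mp h1
    have h2 := (mem_orbit D.Z0 (θ := (θ : D.Z0 → ℂ))
      (φ := conjBy D.Z0 (θ : D.Z0 → ℂ) g)).mpr ⟨g, rfl⟩
    have h3 := self_mem_orbit D.Z0 (θ : D.Z0 → ℂ)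
    rw [hφ, Finset.mem_singleton] at h2 h3
    exact h2.trans h3.symm
  have hnorm : classInner (fun n : D.Z0 => (ψ : K → ℂ) n) (fun n : D.Z0 => (ψ : K → ℂ) n) =
      (D.Z0.index : ℂ) := by
    have h1 := classInner_irr_self ψ.2
    simp only [classInner] at h1 ⊢
    have h2 : ∑ g : K, (ψ : K → ℂ) g * conj ((ψ : K → ℂ) g) =
        ∑ g : D.Z0, (ψ : K → ℂ) g * conj ((ψ : K → ℂ) g) := by
      rw [← Finset.sum_subtype (Finset.univ.filter (· ∈ D.Z0)) (by simp)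
        (fun g => (ψ : K → ℂ) g * conj ((ψ : K → ℂ) g))]
      refine (Finset.sum_subset (Finset.subset_univ _) fun g _ hg => ?_).symm
      rw [D.vanish ψ (by rw [hd]; exact_mod_cast hd1) (fun h => hg (by simp [h])), zero_mul]
    rw [h2, inv_mul_eq_one₀ (Nat.cast_ne_zero.mpr Nat.card_pos.ne')] at h1
    rw [← h1, ← D.Z0.card_mul_index, Nat.cast_mul, inv_mul_cancel_left₀
      (Nat.cast_ne_zero.mpr Nat.card_pos.ne')]
  obtain ⟨e, he, -, -, hde⟩ := CfsgLib.PrimeDegrees.exists_mul_eq_degree D.Z0 ψ.2 θ.2 hθ hd ha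
  have hclif := clifford D.Z0 ψ.2 θ.2 hθ
  rw [he] at hclif
  have horth : ∀ φ ∈ orbit D.Z0 (θ : D.Z0 → ℂ),
      classInner φ (∑ χ ∈ orbit D.Z0 (θ : D.Z0 → ℂ), χ) = 1 := fun φ hφ => by
    have hirr : ∀ χ ∈ orbit D.Z0 (θ : D.Z0 → ℂ), IsIrrCharacter D.Z0 χ := fun χ hχ => by
      obtain ⟨g, rfl⟩ := (mem_orbit D.Z0).mp hχ
      exact isIrrCharacter_conjBy D.Z0 θ.2 g
    rw [classInner_sum_right, Finset.sum_eq_single φ, classInner_irr_self (hirr φ hφ)]
    · exact fun χ hχ hne => classInner_irr_ne (hirr φ hφ) (hirr χ hχ) hne.symm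
    · exact fun h => absurd hφ h
  rw [hclif, classInner_smul_left, classInner_smul_right, classInner_sum_left,
    Finset.sum_congr rfl horth, Finset.sum_const, nsmul_eq_mul, mul_one, map_natCast] at hnorm
  have h3 : D.Z0.index = e * (e * (orbit D.Z0 (θ : D.Z0 → ℂ)).card) := by exact_mod_cast hnorm.symm
  rw [hde, h3]
  ring

theorem index_dvd_sq (ψ : IrrCharacter K) {d : ℕ} (hd : (ψ : K → ℂ) 1 = d) (hd1 : d ≠ 1) :
    D.Z0.index ∣ d * d := by
  haveI := Fintype.ofFinite D.Z0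
  obtain ⟨_, o, a, -, -, -, h⟩ := D.degree_sq ψ hd hd1
  exact ⟨o * (a * a), by rw [h, mul_assoc]⟩

end Op

end CfsgLib.NDDeg
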