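import Cfsg.Prelude.Def_DegreeGraph
import Cfsg.Agent.Lib.NDDeg.Vanish
import Cfsg.Agent.Lib.NDTwoComp.Complemented
import Cfsg.Agent.Lib.FrobCompl.Noncyclic
import Cfsg.Agent.Lib.ThreeDegrees.Main

/-!
# Reduction to a normal subgroup with cyclic quotient
-/

set_option autoImplicit false
set_option linter.style.haveILetI false
set_option linter.unusedSectionVars false

namespace CfsgLib.NDDeg

open Cfsg CfsgLib.Char CfsgLib.NDTwoComp CfsgLib.PrimeDegrees Function
open scoped ComplexConjugate CfsgLib.Char commutatorElement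

universe u

variable {G : Type u} [Group G] [Finite G]

/-- The conclusion. -/
def Bounds (G : Type u) [Group G] : Prop :=
  Nat.card ↥(Cfsg.charDegrees G) ≤ 4 ∧ derivedSeries G 3 = ⊥

/-- At most two nonlinear degrees are enough. -/
theorem bounds_of_degrees (x y : ℕ)
    (h : ∀ (χ : IrrCharacter G) (a : ℕ), (χ : G → ℂ) 1 = a → a = 1 ∨ a = x ∨ a = y) : Bounds G := by
  constructor
  · have hsub : Cfsg.charDegrees G ⊆ ({1, x, y} : Set ℕ) := by
      rintro e ⟨χ, hχ⟩
      obtain ⟨a, -, ha⟩ := exists_nat_degree_irr χ.2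
      rw [Extraspecial.charDegree_eq ha] at hχ
      subst hχ
      exact h χ a ha
    rw [Nat.card_coe_set_eq]
    refine (Set.ncard_le_ncard hsub (Set.toFinite _)).trans ?_
    have h1 := Set.ncard_insert_le 1 ({x, y} : Set ℕ)
    have h2 := Set.ncard_insert_le x ({y} : Set ℕ)
    rw [Set.ncard_singleton] at h2
    omega
  · refine CfsgLib.ThreeDegrees.derived_three _ G rfl x y fun χ => ?_
    obtain ⟨a, -, ha⟩ := exists_nat_degree_irr χ.2
    rw [ha]
    exact (h χ a ha).imp (congrArg _) (Or.imp (congrArg _) (congrArg _))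

/-- A nonabelian quotient of prime power order leaves one nonlinear degree. -/
theorem bounds_of_quotient (hnd : NoDivDeg G) {q : ℕ} (hq : q.Prime) (M : Subgroup G) [M.Normal]
    (hp : IsPGroup q (G ⧸ M)) (hne : ¬ commutator G ≤ M) : Bounds G := by
  classical
  haveI := Fintype.ofFinite G
  haveI := Fact.mk hq
  obtain ⟨k, hk⟩ := hp.exists_card_eq
  obtain ⟨β, hβ⟩ : ∃ β : IrrCharacter (G ⧸ M), (β : G ⧸ M → ℂ) 1 ≠ 1 := by
    by_contra h'
    push Not at h'
    apply hne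
    rw [commutator_def, Subgroup.commutator_le]
    intro a _ b _
    rw [← QuotientGroup.eq_one_iff]
    exact commutatorElement_eq_one_iff_mul_comm.mpr
      ((Cfsg.Agent.S0187.result (G := G ⧸ M)).mpr h' (a : G ⧸ M) b)
  obtain ⟨b, hb, -, hbdvd⟩ := exists_degree_dvd_card β.2
  obtain ⟨i, -, rfl⟩ := (Nat.dvd_prime_pow hq).mp (hk ▸ hbdvd)
  set β' : IrrCharacter G :=
    ⟨_, isIrrCharacter_comp (f := QuotientGroup.mk' M) (QuotientGroup.mk'_surjective M) β.2⟩
  have hβ1 : (β' : G → ℂ) 1 = (q ^ i : ℕ) := by simpa [β'] using hb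
  have hb1 : q ^ i ≠ 1 := fun e => hβ (by rw [hb, e, Nat.cast_one])
  -- the prime divides every nonlinear degree
  have hdvd : ∀ (χ : IrrCharacter G) (a : ℕ), (χ : G → ℂ) 1 = a → a ≠ 1 → q ∣ a := by
    intro χ a ha ha1
    by_contra hqa
    have hcop : a.Coprime M.index := by
      rw [show M.index = Nat.card (G ⧸ M) from rfl, hk]
      exact ((hq.coprime_iff_not_dvd.mpr hqa).symm).pow_right k
    have hirr := isIrr_mul_inflate M χ.2 (restrict_irr_of_coprime M χ.2 ha hcop) β.2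
    have heq := hnd β' ⟨_, hirr⟩ (q ^ i) (q ^ i * a) hβ1 (by
      show (β : G ⧸ M → ℂ) ((1 : G) : G ⧸ M) * (χ : G → ℂ) 1 = _
      rw [QuotientGroup.mk_one, hb, ha]; push_cast; rfl) hb1
      (fun e => hb1 (Nat.eq_one_of_mul_eq_one_right e)) (dvd_mul_right _ _)
    exact ha1 ((Nat.mul_eq_left (pow_ne_zero i hq.ne_zero)).mp heq.symm)
  obtain ⟨A, hA, hcop, j, hidx⟩ := Cfsg.Agent.S4456.result (G := G) q hq (fun χ hχ => by
    obtain ⟨d, -, hd⟩ := exists_nat_degree_irr χ.2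
    rw [Extraspecial.charDegree_eq hd] at hχ ⊢
    exact hdvd χ d hd hχ)
  haveI := hA
  have hAM : A ≤ M := fun a ha => by
    rw [← QuotientGroup.eq_one_iff]
    have h1 : (a : G ⧸ M) ^ Nat.card A = 1 := by
      rw [← QuotientGroup.mk_pow, show a ^ Nat.card A = 1 from
        congrArg Subtype.val (pow_card_eq_one' (x := (⟨a, ha⟩ : A))), QuotientGroup.mk_one]
    obtain ⟨n, hn⟩ := hp (a : G ⧸ M)
    have := pow_gcd_eq_one.mpr ⟨hn, h1⟩
    rwa [(Nat.Coprime.pow_left n hcop.symm : Nat.Coprime (q ^ n) (Nat.card A)), pow_one] at this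
  refine bounds_of_degrees (q ^ i) 1 fun χ a ha => ?_
  by_cases ha1 : a = 1
  · exact Or.inl ha1
  obtain ⟨l, rfl⟩ := degree_eq_pow hq hnd A hcop hidx (fun h => hne (h.trans hAM)) χ a ha
  rcases le_total l i with h | h
  · exact Or.inr (Or.inl (hnd χ β' _ _ ha hβ1 ha1 hb1 (pow_dvd_pow q h)))
  · exact Or.inr (Or.inl (hnd β' χ _ _ hβ1 ha hb1 ha1 (pow_dvd_pow q h)).symm)

/-- A normal subgroup with cyclic quotient, a generator and a degree equal to the index. -/
structure Frame (G : Type u) [Group G] where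
  K : Subgroup G
  normal : K.Normal
  c : G
  le : commutator G ≤ K
  gen : ∀ g : G, ∃ i : ℕ, ∃ k ∈ K, g = k * c ^ i
  one_lt : 1 < K.index
  deg : ∃ χ : IrrCharacter G, (χ : G → ℂ) 1 = (K.index : ℂ)
  moves : ∃ μ : ↥K →* ℂˣ, ∃ k : K, μ ((MulAut.conjNormal c : MulAut K) k) ≠ μ k
  noQuot : ∀ q : ℕ, q.Prime → ∀ M : Subgroup G, ∀ _ : M.Normal, IsPGroup q (G ⧸ M) → commutator G ≤ M

namespace Frame

variable (F : Frame G)

instance : F.K.Normal := F.normal

/-- The automorphism given by the generator. -/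
noncomputable def σ : MulAut F.K := MulAut.conjNormal F.c

theorem σ_pow (i : ℕ) (k : F.K) : ((F.σ ^ i) k : G) = F.c ^ i * k * (F.c ^ i)⁻¹ := by
  rw [σ, ← map_pow, MulAut.conjNormal_apply]

theorem pow_index_mem : F.c ^ F.K.index ∈ F.K := F.K.pow_index_mem F.c

theorem inner (k : F.K) :
    (F.σ ^ F.K.index) k = ⟨_, F.pow_index_mem⟩ * k * (⟨_, F.pow_index_mem⟩ : F.K)⁻¹ :=
  Subtype.ext (F.σ_pow _ k)

theorem conjBy_eq {θ : F.K → ℂ} (hθ : IsClassFunction F.K θ) {k : G} (hk : k ∈ F.K) (i : ℕ) :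
    conjBy F.K θ (k * F.c ^ i) = fun n => θ ((F.σ ^ i) n) := by
  rw [conjBy_mul, conjBy_mem _ hθ hk]
  funext n
  rw [conjBy_apply]
  exact congrArg θ (Subtype.ext (F.σ_pow i n).symm)

theorem os_pos {θ : F.K → ℂ} (hθ : IsClassFunction F.K θ) : os F.σ θ ∣ F.K.index :=
  (os_dvd_iff _ _ _).mpr fun k => by rw [F.inner]; exact hθ k _

theorem mem_inertia_iff {θ : F.K → ℂ} (hθ : IsClassFunction F.K θ) {k : G} (hk : k ∈ F.K) (i : ℕ) :
    k * F.c ^ i ∈ inertia F.K θ ↔ os F.σ θ ∣ i := by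
  rw [mem_inertia, F.conjBy_eq hθ hk, os_dvd_iff, funext_iff]

theorem index_inertia {θ : F.K → ℂ} (hθ : IsClassFunction F.K θ) :
    (inertia F.K θ).index = os F.σ θ := by
  have ho : 0 < os F.σ θ := Nat.pos_of_dvd_of_pos (F.os_pos hθ)
    (Nat.pos_of_ne_zero Subgroup.index_ne_zero_of_finite)
  rw [Subgroup.index, ← Nat.card_fin (os F.σ θ)]
  symm
  refine Nat.card_congr (Equiv.ofBijective (fun i : Fin (os F.σ θ) =>
    ((F.c ^ (i : ℕ) : G) : G ⧸ inertia F.K θ)) ⟨?_, ?_⟩)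
  · intro i j e
    wlog hij : (i : ℕ) ≤ j generalizing i j
    · exact (this e.symm (le_of_lt (not_le.mp hij))).symm
    obtain ⟨d, hd⟩ := Nat.exists_eq_add_of_le hij
    have h : (F.c ^ (i : ℕ))⁻¹ * F.c ^ (j : ℕ) ∈ inertia F.K θ := QuotientGroup.eq.mp e
    rw [hd, pow_add, inv_mul_cancel_left, ← one_mul (F.c ^ d), F.mem_inertia_iff hθ (one_mem _)] at h
    have hj := j.2
    have : d = 0 := Nat.eq_zero_of_dvd_of_lt h (by omega)
    exact Fin.ext (by omega)
  · intro x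
    induction x using Quotient.inductionOn' with
    | _ g =>
      obtain ⟨i, k, hk, rfl⟩ := F.gen g
      refine ⟨⟨i % os F.σ θ, Nat.mod_lt _ ho⟩, QuotientGroup.eq.mpr ?_⟩
      show (F.c ^ (i % os F.σ θ))⁻¹ * (k * F.c ^ i) ∈ inertia F.K θ
      have hm : (F.c ^ (i % os F.σ θ))⁻¹ * k * F.c ^ (i % os F.σ θ) ∈ F.K := by
        simpa using F.normal.conj_mem k hk (F.c ^ (i % os F.σ θ))⁻¹
      have he : F.c ^ i = F.c ^ (i % os F.σ θ) * F.c ^ (os F.σ θ * (i / os F.σ θ)) := by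
        rw [← pow_add, Nat.mod_add_div]
      rw [he, show (F.c ^ (i % os F.σ θ))⁻¹ * (k * (F.c ^ (i % os F.σ θ) *
          F.c ^ (os F.σ θ * (i / os F.σ θ)))) = ((F.c ^ (i % os F.σ θ))⁻¹ * k *
          F.c ^ (i % os F.σ θ)) * F.c ^ (os F.σ θ * (i / os F.σ θ)) by group,
        F.mem_inertia_iff hθ hm]
      exact dvd_mul_right _ _

theorem isCyclic_quotient : IsCyclic (G ⧸ F.K) := by
  refine ⟨⟨(F.c : G ⧸ F.K), fun x => ?_⟩⟩
  obtain ⟨g, rfl⟩ := QuotientGroup.mk_surjective x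
  obtain ⟨i, k, hk, rfl⟩ := F.gen g
  exact ⟨i, by simp [(QuotientGroup.eq_one_iff k).mpr hk]⟩

/-- Every character of `K` gives a degree. -/
theorem exists_deg (θ : IrrCharacter F.K) {a : ℕ} (ha : (θ : F.K → ℂ) 1 = a) :
    ∃ χ : IrrCharacter G, (χ : G → ℂ) 1 = ((os F.σ (θ : F.K → ℂ) * a : ℕ) : ℂ) := by
  classical
  haveI := Fintype.ofFinite G
  haveI := Fintype.ofFinite F.K
  have hθ := isClassFunction_irr θ
  set I := inertia F.K (θ : F.K → ℂ) with hI
  have hKI : F.K ≤ I := le_inertia F.K hθ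
  haveI : Fintype I := Fintype.ofFinite _
  set K' := F.K.subgroupOf I
  haveI : K'.Normal := Subgroup.normal_subgroupOf
  haveI : Fintype K' := Fintype.ofFinite _
  let e : K' ≃* F.K := Subgroup.subgroupOfEquivOfLe hKI
  set θ' : K' → ℂ := fun x => (θ : F.K → ℂ) (e x)
  have hinv : ∀ g : I, conjBy K' θ' g = θ' := fun g => funext fun x => by
    have h := congrFun ((mem_inertia F.K).mp g.2) (e x)
    refine Eq.trans ?_ h
    rfl
  have hcyc : IsCyclic (I ⧸ K') := by
    haveI := F.isCyclic_quotient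
    exact isCyclic_of_injective (QuotientGroup.map K' F.K I.subtype le_rfl) (by
      rw [injective_iff_map_eq_one]
      intro x hx
      obtain ⟨y, rfl⟩ := QuotientGroup.mk_surjective x
      change ((y : G) : G ⧸ F.K) = 1 at hx
      rw [QuotientGroup.eq_one_iff] at hx
      exact (QuotientGroup.eq_one_iff y).mpr hx)
  obtain ⟨η, hη, hres⟩ := extends_of_cyclic K' (isIrrCharacter_comp_mulEquiv e θ.2) hinv hcyc
  obtain ⟨χ, hχ⟩ := degree_of_extension F.K θ.2 η hη (c := 1) (fun n => by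
    rw [Nat.cast_one, one_mul]
    have h1 := hres ⟨⟨(n : G), hKI n.2⟩, n.2⟩
    exact h1) one_ne_zero
  refine ⟨χ, ?_⟩
  rw [hχ, indFun_one, F.index_inertia hθ, Nat.cast_mul, ← ha]
  congr 1
  have h1 := hres 1
  rw [Subgroup.coe_one] at h1
  rw [h1]
  simp [θ']

theorem degree_over (θ : IrrCharacter F.K) [Fintype F.K] {b : ℕ} (hb : (θ : F.K → ℂ) 1 = b)
    (χ : IrrCharacter G) (hχ : classInner (fun n : F.K => (χ : G → ℂ) n) (θ : F.K → ℂ) ≠ 0) {a : ℕ}
    (ha : (χ : G → ℂ) 1 = a) :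
    os F.σ (θ : F.K → ℂ) * b ∣ a ∧ ∃ e, e ∣ F.K.index ∧ a = e * os F.σ (θ : F.K → ℂ) * b := by
  haveI := Fintype.ofFinite G
  obtain ⟨e, -, he, -, hde⟩ := exists_mul_eq_degree F.K χ.2 θ.2 hχ ha hb
  rw [card_orbit_eq_index, F.index_inertia (isClassFunction_irr θ)] at hde
  exact ⟨⟨e, by rw [hde]; ring⟩, e, he, by rw [hde]; ring⟩

variable (hnd : NoDivDeg G)

include hnd in
/-- The twisted degrees of `K` do not divide one another properly. -/
theorem nd (ψ φ : IrrCharacter F.K) (a b : ℕ) (ha : (ψ : F.K → ℂ) 1 = a) (hb : (φ : F.K → ℂ) 1 = b)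
    (h1 : os F.σ (ψ : F.K → ℂ) * a ≠ 1) (h2 : os F.σ (φ : F.K → ℂ) * b ≠ 1)
    (h : os F.σ (ψ : F.K → ℂ) * a ∣ os F.σ (φ : F.K → ℂ) * b) :
    os F.σ (ψ : F.K → ℂ) * a = os F.σ (φ : F.K → ℂ) * b := by
  obtain ⟨χ, hχ⟩ := F.exists_deg ψ ha
  obtain ⟨χ', hχ'⟩ := F.exists_deg φ hb
  exact hnd χ χ' _ _ hχ hχ' h1 h2 h

include hnd in
/-- Some linear character has a full orbit. -/
theorem exists_full : ∃ μ : ↥F.K →* ℂˣ, os F.σ (fun k => (μ k : ℂ)) = F.K.index := by
  obtain ⟨μ, k, hk⟩ := F.moves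
  refine ⟨μ, ?_⟩
  have hne : os F.σ (fun k => (μ k : ℂ)) ≠ 1 := fun e => hk (by
    have := (os_dvd_iff F.σ (fun k => (μ k : ℂ)) 1).mp e.dvd k
    rw [pow_one] at this
    exact Units.ext this)
  obtain ⟨χ, hχ⟩ := F.exists_deg ⟨_, isIrrCharacter_monoidHom μ⟩ (a := 1) (by simp)
  obtain ⟨χf, hχf⟩ := F.deg
  have := F.one_lt
  simp only [mul_one] at hχ
  exact hnd χ χf _ _ hχ hχf hne (by omega)
    (F.os_pos (isClassFunction_of_isCharacter (isCharacter_monoidHom μ)))

/-- The preimage of the prime-to-`r` part. -/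
theorem hnil (r : ℕ) (hr : r.Prime) (hall : ∀ s : ℕ, s.Prime → s ∣ F.K.index → s = r) :
    ¬ r ∣ Nat.card ↥(dlHom F.σ 1).range := by
  intro hdvd
  haveI := Fact.mk hr
  set n := Nat.card (Abelianization F.K)
  set m := ordCompl[r] n
  let ψ : F.K →* Abelianization F.K := (powMonoidHom m).comp Abelianization.of
  set M : Subgroup G := ψ.ker.map F.K.subtype with hM
  haveI : M.Normal := ⟨fun x hx g => by
    obtain ⟨k, hk, rfl⟩ := hx
    refine ⟨(MulAut.conjNormal g : MulAut F.K) k, ?_, MulAut.conjNormal_apply g k⟩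
    rw [SetLike.mem_coe, MonoidHom.mem_ker, MonoidHom.comp_apply, powMonoidHom_apply] at hk ⊢
    have := congrArg (Abelianization.map (MulAut.conjNormal g : MulAut F.K).toMonoidHom) hk
    rw [map_pow, map_one, Abelianization.map_of] at this
    exact this⟩
  have hMK : M ≤ F.K := Subgroup.map_subtype_le _
  obtain ⟨a, ha⟩ : ∃ a, F.K.index = r ^ a := ⟨_, Nat.eq_prime_pow_of_unique_prime_dvd
    Subgroup.index_ne_zero_of_finite fun {d} hd hdd => hall d hd hdd⟩
  have hp : IsPGroup r (G ⧸ M) := by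
    intro x
    obtain ⟨g, rfl⟩ := QuotientGroup.mk_surjective x
    refine ⟨a + n.factorization r, ?_⟩
    rw [← QuotientGroup.mk_pow, QuotientGroup.eq_one_iff, pow_add, pow_mul, ← ha]
    refine ⟨⟨g ^ F.K.index, F.K.pow_index_mem g⟩ ^ r ^ n.factorization r, ?_, rfl⟩
    rw [SetLike.mem_coe, MonoidHom.mem_ker, MonoidHom.comp_apply, powMonoidHom_apply, map_pow,
      ← pow_mul, Nat.ordProj_mul_ordCompl_eq_self]
    exact pow_card_eq_one'
  have hle := F.noQuot r hr M inferInstance hp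
  obtain ⟨⟨w, hw⟩, hwo⟩ := exists_prime_orderOf_dvd_card' (G := (dlHom F.σ 1).range) r hdvd
  rw [Subgroup.orderOf_mk] at hwo
  obtain ⟨x, rfl⟩ := hw
  obtain ⟨k, rfl⟩ : ∃ k, Abelianization.of k = x := QuotientGroup.mk_surjective x
  obtain ⟨y, hy, hye⟩ := hle (Subgroup.commutator_mem_commutator (Subgroup.mem_top F.c)
    (Subgroup.mem_top (k : G)))
  have hy' : y = F.σ k * k⁻¹ := Subtype.ext (by
    rw [Subgroup.coe_mul, Subgroup.coe_inv, σ, MulAut.conjNormal_apply]
    exact hye)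
  rw [SetLike.mem_coe, MonoidHom.mem_ker, MonoidHom.comp_apply, powMonoidHom_apply, hy', map_mul,
    map_inv] at hy
  have h1 : orderOf (dlHom F.σ 1 (Abelianization.of k)) ∣ m :=
    orderOf_dvd_of_pow_eq_one (by rw [dlHom_of, pow_one]; exact hy)
  rw [hwo] at h1
  exact Nat.not_dvd_ordCompl hr Nat.card_pos.ne' h1

/-- The operator on `K`. -/
noncomputable def op : Op F.K where
  σ := F.σ
  f := F.K.index
  one_lt := F.one_lt
  l := ⟨_, F.pow_index_mem⟩
  inner := F.inner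
  nd := F.nd hnd
  moved := F.exists_full hnd
  hnil := F.hnil

include hnd in
/-- The degrees of `G`. -/
theorem degree_cases (χ : IrrCharacter G) {a : ℕ} (ha : (χ : G → ℂ) 1 = a) :
    a = 1 ∨ a = F.K.index ∨ ∃ (ψ : IrrCharacter F.K) (b : ℕ),
      (ψ : F.K → ℂ) 1 = b ∧ b ≠ 1 ∧ a = os F.σ (ψ : F.K → ℂ) * b := by
  classical
  haveI := Fintype.ofFinite G
  haveI := Fintype.ofFinite F.K
  by_cases ha1 : a = 1
  · exact Or.inl ha1
  obtain ⟨θ, hθ⟩ := exists_constituent F.K (isCharacter_of_isIrr χ.2) (irr_degree_ne_zero χ.2)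
  obtain ⟨b, -, hb⟩ := exists_nat_degree_irr θ.2
  obtain ⟨hdvd, e, he, hae⟩ := F.degree_over θ hb χ hθ ha
  obtain ⟨χ₀, hχ₀⟩ := F.exists_deg θ hb
  obtain ⟨χf, hχf⟩ := F.deg
  have h1 := F.one_lt
  by_cases hb1 : b = 1
  · refine Or.inr (Or.inl ?_)
    subst hb1
    rw [mul_one] at hdvd hae hχ₀
    by_cases ho : os F.σ (θ : F.K → ℂ) = 1
    · rw [ho, mul_one] at hae
      exact hnd χ χf a _ ha hχf ha1 (by omega) (hae ▸ he)
    · have e1 := hnd χ₀ χ _ _ hχ₀ ha ho ha1 hdvd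
      exact e1 ▸ hnd χ₀ χf _ _ hχ₀ hχf ho (by omega) (F.os_pos (isClassFunction_irr θ))
  · exact Or.inr (Or.inr ⟨θ, b, hb, hb1,
      (hnd χ₀ χ _ _ hχ₀ ha (fun e => hb1 (Nat.eq_one_of_mul_eq_one_left e)) ha1 hdvd).symm⟩)

end Frame

/-- Either the bounds hold, or there is a frame. -/
theorem bounds_or_frame [Group.IsSolvable G] (hnd : NoDivDeg G) : Bounds G ∨ Nonempty (Frame G) := by
  classical
  haveI := Fintype.ofFinite G
  by_cases hno : ∃ q : ℕ, q.Prime ∧ ∃ M : Subgroup G, ∃ _ : M.Normal,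
      IsPGroup q (G ⧸ M) ∧ ¬ commutator G ≤ M
  · obtain ⟨q, hq, M, hM, hp, hne⟩ := hno
    haveI := hM
    exact Or.inl (bounds_of_quotient hnd hq M hp hne)
  push Not at hno
  by_cases hc : commutator G = ⊥
  · refine Or.inl (bounds_of_degrees 1 1 fun χ a ha => Or.inl ?_)
    have hlin := (Cfsg.Agent.S0187.result (G := G)).mp (fun a b =>
      commutatorElement_eq_one_iff_mul_comm.mp (Subgroup.mem_bot.mp (hc ▸
        Subgroup.commutator_mem_commutator (Subgroup.mem_top a) (Subgroup.mem_top b)))) χ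
    rw [ha] at hlin
    exact_mod_cast hlin
  right
  have hperf : ⁅commutator G, commutator G⁆ ≠ commutator G := by
    intro hp
    obtain ⟨n, hn⟩ := Group.IsSolvable.solvable (G := G)
    have hall : ∀ k, 1 ≤ k → derivedSeries G k = commutator G := by
      intro k hk
      induction k, hk using Nat.le_induction with
      | base => exact derivedSeries_one G
      | succ k _ ih => rw [derivedSeries_succ, ih, hp]
    have h2 := hall (n + 1) (by omega)
    rw [derivedSeries_succ, hn, Subgroup.commutator_bot_left] at h2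
    exact hc h2.symm
  obtain ⟨R, ⟨hR, hR2, hRc⟩, hmax⟩ := Set.Finite.exists_maximal
    (s := {K : Subgroup G | K.Normal ∧ ⁅commutator G, commutator G⁆ ≤ K ∧ ¬ commutator G ≤ K})
    (Set.toFinite _) ⟨⁅commutator G, commutator G⁆, inferInstance, le_rfl,
      fun e => hperf (le_antisymm (Subgroup.commutator_le_left _ _) e)⟩
  haveI := hR
  set Q := G ⧸ R
  have hmap : commutator Q = (commutator G).map (QuotientGroup.mk' R) := by
    rw [commutator_def, commutator_def, Subgroup.map_commutator, ← MonoidHom.range_eq_map,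
      MonoidHom.range_eq_top.mpr (QuotientGroup.mk'_surjective R)]
  have hne : commutator Q ≠ ⊥ := fun e => hRc (by
    rw [hmap, Subgroup.map_eq_bot_iff, QuotientGroup.ker_mk'] at e
    exact e)
  have hab : ∀ a ∈ commutator Q, ∀ b ∈ commutator Q, a * b = b * a := by
    intro a ha b hb
    rw [hmap] at ha hb
    obtain ⟨a, ha, rfl⟩ := ha
    obtain ⟨b, hb, rfl⟩ := hb
    rw [← commutatorElement_eq_one_iff_mul_comm, ← map_commutatorElement]
    exact (QuotientGroup.eq_one_iff _).mpr (hR2 (Subgroup.commutator_mem_commutator ha hb))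
  obtain ⟨q, hq, hQ⟩ := CfsgLib.ThreeDegrees.structure_of_minimal hne hab fun M hM hMne => by
    haveI := hM
    have hle : R ≤ M.comap (QuotientGroup.mk' R) := by
      intro x hx
      rw [Subgroup.mem_comap, QuotientGroup.mk'_apply, (QuotientGroup.eq_one_iff x).mpr hx]
      exact one_mem M
    rw [hmap, Subgroup.map_le_iff_le_comap]
    by_contra hc
    have := le_antisymm hle (hmax ⟨inferInstance, hR2.trans hle, hc⟩ hle)
    exact hMne (Subgroup.comap_injective (QuotientGroup.mk'_surjective R)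
      (by rw [← this, MonoidHom.comap_bot, QuotientGroup.ker_mk']))
  haveI := Fact.mk hq
  rcases hQ with hQp | ⟨hNq, hqf, hf1, hsurj⟩
  · exact absurd (hno q hq R hR hQp) hRc
  set N := commutator Q
  set K : Subgroup G := N.comap (QuotientGroup.mk' R) with hK
  have hidx : K.index = N.index :=
    Subgroup.index_comap_of_surjective _ (QuotientGroup.mk'_surjective R)
  -- a complement is cyclic
  obtain ⟨i, hi⟩ := hNq.exists_card_eq
  obtain ⟨A, hA⟩ := Subgroup.exists_right_complement'_of_coprime (N := N)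
    (by rw [hi]; exact hqf.pow_left i)
  haveI : IsMulCommutative N := ⟨⟨fun a b => Subtype.ext (hab a a.2 b b.2)⟩⟩
  have hAN : ∀ e ∈ A, e ∈ N → e = 1 := fun e h1 h2 =>
    Subgroup.mem_bot.mp (hA.disjoint.eq_bot ▸ Subgroup.mem_inf.mpr ⟨h2, h1⟩)
  haveI : IsMulCommutative A := ⟨⟨fun a b => Subtype.ext (by
    show (a : Q) * b = b * a
    rw [← commutatorElement_eq_one_iff_mul_comm]
    exact hAN _ (A.mul_mem (A.mul_mem (A.mul_mem a.2 b.2) (A.inv_mem a.2)) (A.inv_mem b.2))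
      (Subgroup.commutator_mem_commutator (Subgroup.mem_top _) (Subgroup.mem_top _)))⟩⟩
  haveI hNn : N.Normal := inferInstance
  have hfpf : ∀ e ∈ A, e ≠ 1 → N ⊓ Subgroup.centralizer {e} = ⊥ := by
    intro e he he1
    have heN : e ∉ N := fun h => he1 (hAN e he h)
    let φ : N → N := fun n => ⟨⁅e, (n : Q)⁆,
      Subgroup.commutator_mem_commutator (Subgroup.mem_top _) (Subgroup.mem_top _)⟩
    have hs : Function.Surjective φ := fun m => by
      obtain ⟨n, hn, h⟩ := hsurj e heN m m.2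
      exact ⟨⟨n, hn⟩, Subtype.ext h⟩
    have hinj := Finite.injective_iff_surjective.mpr hs
    rw [Subgroup.eq_bot_iff_forall]
    intro n hn
    obtain ⟨hnN, hnc⟩ := Subgroup.mem_inf.mp hn
    have : (⟨n, hnN⟩ : N) = 1 := hinj (Subtype.ext (by
      show ⁅e, n⁆ = ⁅e, (1 : Q)⁆
      rw [commutatorElement_one_right, commutatorElement_eq_one_iff_mul_comm]
      exact (Subgroup.mem_centralizer_singleton_iff.mp hnc).symm))
    exact congrArg Subtype.val this
  haveI : IsCyclic A := CfsgLib.FrobCompl.isCyclic_of_comm hne (fun x _ => by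
    rw [Subgroup.normalizer_eq_top_iff.mpr hNn]; trivial) hfpf
  obtain ⟨a, ha⟩ := IsCyclic.exists_generator (α := A)
  obtain ⟨c, hc'⟩ := QuotientGroup.mk'_surjective R (a : Q)
  have hcN : (a : Q) ∉ N := fun h => by
    have h1 : a = 1 := Subtype.ext (hAN _ a.2 h)
    have : N.index = 1 := by
      rw [hA.symm.index_eq_card, Nat.card_eq_one_iff_unique]
      refine ⟨⟨fun x y => ?_⟩, inferInstance⟩
      obtain ⟨k, rfl⟩ := ha x
      obtain ⟨l, rfl⟩ := ha y
      simp [h1]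
    omega
  have hgen : ∀ g : G, ∃ i : ℕ, ∃ k ∈ K, g = k * c ^ i := by
    intro g
    obtain ⟨⟨⟨n, hn⟩, e⟩, he⟩ := hA.2 (QuotientGroup.mk' R g)
    obtain ⟨j, hj⟩ := (mem_powers_iff_mem_zpowers (x := a)).mpr (ha e)
    refine ⟨j, g * (c ^ j)⁻¹, ?_, by rw [inv_mul_cancel_right]⟩
    rw [hK, Subgroup.mem_comap, map_mul, map_inv, map_pow, hc', ← he]
    have : (a : Q) ^ j = e := by rw [← Subgroup.coe_pow]; exact congrArg Subtype.val hj
    rw [this]
    simpa using hn
  obtain ⟨m₀, hm₀, hm₁⟩ : ∃ m ∈ N, m ≠ 1 := by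
    by_contra h
    push Not at h
    exact hne ((Subgroup.eq_bot_iff_forall _).mpr h)
  obtain ⟨n', hn', hcn⟩ := hsurj _ hcN m₀ hm₀
  obtain ⟨n, rfl⟩ := QuotientGroup.mk'_surjective R n'
  obtain ⟨χf, hχf⟩ := CfsgLib.ThreeDegrees.exists_induced_degree R q hNq hne hab hsurj
    ⟨fun _ => 1, isIrrCharacter_one⟩ 1 (by simp) (Nat.coprime_one_left q)
  rw [mul_one] at hχf
  refine ⟨{
    K := K
    normal := inferInstance
    c := c
    le := fun x hx => by
      rw [hK, Subgroup.mem_comap]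
      show _ ∈ N
      rw [hmap]
      exact Subgroup.mem_map_of_mem _ hx
    gen := hgen
    one_lt := by omega
    deg := ⟨χf, by rw [hidx]; exact hχf⟩
    moves := ?_
    noQuot := fun p hp M hM hpM => hno p hp M hM hpM }⟩
  set y : K := (MulAut.conjNormal c : MulAut K) ⟨n, hn'⟩ * (⟨n, hn'⟩ : K)⁻¹
  let π : K →* N := (QuotientGroup.mk' R).subgroupComap _
  letI : CommGroup N :=
    { (inferInstance : Group N) with mul_comm := fun a b => Subtype.ext (hab a a.2 b b.2) }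
  have hy : y ∉ commutator K := fun h => by
    have h1 := Abelianization.commutator_subset_ker π h
    rw [MonoidHom.mem_ker] at h1
    apply hm₁
    rw [← hcn, ← hc', ← map_commutatorElement]
    have h2 : QuotientGroup.mk' R (y : G) = 1 := congrArg Subtype.val h1
    rw [show (y : G) = ⁅c, n⁆ by simp [y, commutatorElement_def, MulAut.conjNormal_apply]] at h2
    exact h2
  obtain ⟨μ, hμ⟩ := exists_hom_ne hy
  refine ⟨μ, ⟨n, hn'⟩, fun e => hμ ?_⟩
  rw [map_mul, map_inv, e, mul_inv_cancel]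

end CfsgLib.NDDeg
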