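import Mathlib

/-!
# Alternating maps all of whose adjoints are onto

If `c : V × V → W` is alternating and `c a` is onto for all `a ≠ 0`, then `2 dim W ≤ dim V`.
-/

set_option autoImplicit false
set_option linter.unusedSectionVars false

namespace CfsgLib.NDDeg

open Module Matrix

section Square

variable {K V : Type*} [Field K] [AddCommGroup V] [Module K V] [FiniteDimensional K V]

theorem exists_lagrangian (B : LinearMap.BilinForm K V) (ha : ∀ v, B v v = 0)
    (hn : B.Nondegenerate) :
    ∃ L : Submodule K V, (∀ x ∈ L, ∀ y ∈ L, B x y = 0) ∧ finrank K V = finrank K L + finrank K L := by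
  obtain ⟨L, hL, hmax⟩ := wellFounded_gt.has_min {L : Submodule K V | ∀ x ∈ L, ∀ y ∈ L, B x y = 0}
    ⟨⊥, fun x hx y _ => by rw [(Submodule.mem_bot K).mp hx, map_zero, LinearMap.zero_apply]⟩
  have hrefl : B.IsRefl := LinearMap.IsAlt.isRefl ha
  have horth : B.orthogonal L = L := by
    refine le_antisymm (fun v hv => ?_) fun x hx y hy => hL y hy x hx
    by_contra hvL
    refine hmax (L ⊔ Submodule.span K {v}) ?_ (left_lt_sup.mpr fun h =>
      hvL (h (Submodule.mem_span_singleton_self v)))
    intro x hx y hy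
    obtain ⟨x₀, hx₀, _, hxv, rfl⟩ := Submodule.mem_sup.mp hx
    obtain ⟨y₀, hy₀, _, hyv, rfl⟩ := Submodule.mem_sup.mp hy
    obtain ⟨s, rfl⟩ := Submodule.mem_span_singleton.mp hxv
    obtain ⟨t, rfl⟩ := Submodule.mem_span_singleton.mp hyv
    have h1 : B x₀ v = 0 := hv x₀ hx₀
    have h2 : B v y₀ = 0 := hrefl y₀ v (hv y₀ hy₀)
    simp only [map_add, map_smul, LinearMap.add_apply, LinearMap.smul_apply, smul_eq_mul,
      hL x₀ hx₀ y₀ hy₀, h1, h2, ha, mul_zero, add_zero]
  refine ⟨L, hL, ?_⟩
  have := LinearMap.BilinForm.finrank_orthogonal hn L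
  rw [horth] at this
  have hle := L.finrank_le
  omega

theorem det_blocks {k : ℕ} (E F : Matrix (Fin k) (Fin k) K) :
    (fromBlocks 0 E (-Eᵀ) F).det = E.det * E.det := by
  let O : Matrix (Fin k) (Fin k) K := 0
  let I : Matrix (Fin k) (Fin k) K := 1
  have h1 : (fromBlocks O (-I) I O).det = 1 := by
    have e : fromBlocks O (-I) I O
        = fromBlocks I (-I) O I * fromBlocks I O I I * fromBlocks I (-I) O I := by
      simp [fromBlocks_multiply, I, O]
    rw [e, det_mul, det_mul]
    simp [I, O]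
  have e : fromBlocks 0 E (-Eᵀ) F * fromBlocks O (-I) I O = fromBlocks E 0 F Eᵀ := by
    simp [fromBlocks_multiply, I, O]
  have := congrArg Matrix.det e
  rw [det_mul, h1, mul_one, det_fromBlocks_zero₁₂, det_transpose] at this
  exact this

theorem exists_det_square {k : ℕ} (b : Basis (Fin k ⊕ Fin k) K V) (B : LinearMap.BilinForm K V)
    (ha : ∀ v, B v v = 0) (hn : B.Nondegenerate) :
    ∃ r : K, r ≠ 0 ∧ (LinearMap.BilinForm.toMatrix b B).det = r * r := by
  classical
  obtain ⟨L, hL, hfin⟩ := exists_lagrangian B ha hn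
  have hV : finrank K V = k + k := by
    rw [finrank_eq_card_basis b, Fintype.card_sum, Fintype.card_fin]
  obtain ⟨P, hP⟩ := L.exists_isCompl
  have hLk : finrank K L = k := by omega
  have hPk : finrank K P = k := by
    have := Submodule.finrank_add_eq_of_isCompl hP
    omega
  let bL : Basis (Fin k) K L := finBasisOfFinrankEq K L hLk
  let bP : Basis (Fin k) K P := finBasisOfFinrankEq K P hPk
  let e : Basis (Fin k ⊕ Fin k) K V := (bL.prod bP).map (Submodule.prodEquivOfIsCompl L P hP)
  set E : Matrix (Fin k) (Fin k) K := Matrix.of fun i j => B (bL i) (bP j)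
  set F : Matrix (Fin k) (Fin k) K := Matrix.of fun i j => B (bP i) (bP j)
  have he : LinearMap.BilinForm.toMatrix e B = fromBlocks 0 E (-Eᵀ) F := by
    ext (i | i) (j | j)
    · simp [e, hL _ (bL i).2 _ (bL j).2]
    · simp [e, E]
    · simp only [LinearMap.BilinForm.toMatrix_apply, fromBlocks_apply₂₁, Matrix.neg_apply,
        Matrix.transpose_apply, E, Matrix.of_apply]
      simp [e, (LinearMap.IsAlt.neg ha (bL j : V) (bP i : V))]
    · simp [e, F]
  have hch := LinearMap.BilinForm.toMatrix_mul_basis_toMatrix (b := e) b B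
  have hdet := congrArg Matrix.det hch
  rw [det_mul, det_mul, det_transpose, he, det_blocks] at hdet
  refine ⟨E.det * (e.toMatrix b).det, fun h0 => ?_, by rw [← hdet]; ring⟩
  refine (LinearMap.BilinForm.nondegenerate_iff_det_ne_zero b).mp hn ?_
  rw [← hdet, show ∀ x y : K, y * (x * x) * y = (x * y) * (x * y) from fun x y => by ring, h0,
    mul_zero]

end Square

section Bound

variable {q : ℕ} [Fact q.Prime] {V W : Type*} [AddCommGroup V] [Module (ZMod q) V]
  [FiniteDimensional (ZMod q) V] [AddCommGroup W] [Module (ZMod q) W]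
  [FiniteDimensional (ZMod q) W]

theorem nondegenerate_comp (c : V →ₗ[ZMod q] V →ₗ[ZMod q] W) (halt : ∀ a, c a a = 0)
    (hs : ∀ a, a ≠ 0 → Function.Surjective (c a)) {μ : Dual (ZMod q) W} (hμ : μ ≠ 0) :
    LinearMap.BilinForm.Nondegenerate (c.compr₂ μ : LinearMap.BilinForm (ZMod q) V) := by
  have hrefl : LinearMap.BilinForm.IsRefl (c.compr₂ μ : LinearMap.BilinForm (ZMod q) V) :=
    LinearMap.IsAlt.isRefl fun a => by simp [halt]
  refine (LinearMap.IsRefl.nondegenerate_iff_separatingLeft hrefl).mpr ?_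
  intro a ha
  by_contra h
  refine hμ (LinearMap.ext fun w => ?_)
  obtain ⟨b, rfl⟩ := hs a h w
  simpa using ha b

theorem bound_odd (hq : q ≠ 2) (c : V →ₗ[ZMod q] V →ₗ[ZMod q] W) (halt : ∀ a, c a a = 0)
    (hs : ∀ a, a ≠ 0 → Function.Surjective (c a)) (hV : Nontrivial V) :
    finrank (ZMod q) W + finrank (ZMod q) W ≤ finrank (ZMod q) V := by
  classical
  set m := finrank (ZMod q) W with hm
  rcases Nat.eq_zero_or_pos m with h0 | hmpos
  · omega
  haveI : Nontrivial W := Module.nontrivial_of_finrank_pos hmpos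
  let w : Basis (Fin m) (ZMod q) W := finBasisOfFinrankEq _ W rfl
  let μ : (Fin m → ZMod q) → Dual (ZMod q) W := fun y => w.constr (ZMod q) y
  have hμ : ∀ y, y ≠ 0 → μ y ≠ 0 := fun y hy h => hy (funext fun i => by
    have := LinearMap.congr_fun h (w i)
    simpa [μ] using this)
  obtain ⟨y₀, hy₀⟩ : ∃ y : Fin m → ZMod q, y ≠ 0 :=
    ⟨fun _ => 1, fun h => one_ne_zero (congrFun h ⟨0, hmpos⟩)⟩
  obtain ⟨L, -, hfin⟩ := exists_lagrangian (c.compr₂ (μ y₀)) (fun a => by simp [halt])
    (nondegenerate_comp c halt hs (hμ y₀ hy₀))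
  set k := finrank (ZMod q) L with hk
  let b : Basis (Fin k ⊕ Fin k) (ZMod q) V :=
    (finBasisOfFinrankEq (ZMod q) V hfin).reindex finSumFinEquiv.symm
  let M : Matrix (Fin k ⊕ Fin k) (Fin k ⊕ Fin k) (MvPolynomial (Fin m) (ZMod q)) :=
    Matrix.of fun i j => ∑ l : Fin m, MvPolynomial.C (w.repr (c (b i) (b j)) l) * MvPolynomial.X l
  have heval : ∀ y, MvPolynomial.eval y M.det = (LinearMap.BilinForm.toMatrix b (c.compr₂ (μ y))).det := by
    intro y
    rw [RingHom.map_det]
    congr 1
    ext i j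
    simp [M, μ, Basis.constr_apply_fintype, mul_comm]
  have hdeg : M.det.totalDegree ≤ k + k := by
    rw [Matrix.det_apply]
    refine MvPolynomial.totalDegree_finsetSum_le fun σ _ => ?_
    refine (MvPolynomial.totalDegree_smul_le _ _).trans ?_
    refine (MvPolynomial.totalDegree_finsetProd _ _).trans ?_
    refine (Finset.sum_le_card_nsmul _ _ 1 fun i _ => ?_).trans (by simp)
    simp only [M, Matrix.of_apply]
    refine MvPolynomial.totalDegree_finsetSum_le fun l _ => ?_
    refine (MvPolynomial.totalDegree_mul _ _).trans ?_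
    rw [MvPolynomial.totalDegree_C, zero_add]
    exact (MvPolynomial.totalDegree_X (R := ZMod q) l).le
  by_contra hlt
  have hkm : k < m := by omega
  obtain ⟨r, hr⟩ := (Nat.Prime.eq_two_or_odd' (Fact.out : q.Prime)).resolve_left hq
  have hq1 : 1 < q := (Fact.out : q.Prime).one_lt
  have hr1 : 1 ≤ r := by omega
  have hcard : Fintype.card (ZMod q) = q := ZMod.card q
  have hlt' : (M.det ^ r).totalDegree < (Fintype.card (ZMod q) - 1) * Fintype.card (Fin m) := by
    refine lt_of_le_of_lt (MvPolynomial.totalDegree_pow _ _) ?_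
    rw [hcard, Fintype.card_fin, show q - 1 = 2 * r by omega]
    calc r * M.det.totalDegree ≤ r * (k + k) := Nat.mul_le_mul_left r hdeg
      _ = 2 * r * k := by ring
      _ < 2 * r * m := Nat.mul_lt_mul_of_pos_left hkm (by omega)
  have hsum := MvPolynomial.sum_eval_eq_zero (M.det ^ r) hlt'
  have hval : ∀ y : Fin m → ZMod q, MvPolynomial.eval y (M.det ^ r) = if y = 0 then 0 else 1 := by
    intro y
    rw [map_pow, heval]
    split_ifs with hy
    · subst hy
      have hVk : 0 < k := by
        have := Module.finrank_pos (R := ZMod q) (M := V)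
        omega
      haveI : Nonempty (Fin k ⊕ Fin k) := ⟨Sum.inl ⟨0, hVk⟩⟩
      have h0 : LinearMap.BilinForm.toMatrix b (c.compr₂ (μ 0)) = 0 := by ext i j; simp [μ]
      rw [h0, Matrix.det_zero, zero_pow (by omega)]
    · obtain ⟨s, hs0, hs2⟩ := exists_det_square b (c.compr₂ (μ y)) (fun a => by simp [halt])
        (nondegenerate_comp c halt hs (hμ y hy))
      rw [hs2, ← pow_two, ← pow_mul, show 2 * r = q - 1 by omega]
      exact ZMod.pow_card_sub_one_eq_one hs0
  simp only [hval] at hsum
  rw [Finset.sum_ite] at hsum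
  simp only [Finset.sum_const_zero, zero_add, Finset.sum_const, nsmul_eq_mul, mul_one,
    Finset.filter_ne'] at hsum
  rw [Finset.card_erase_of_mem (Finset.mem_univ _), Finset.card_univ, Fintype.card_fun, hcard,
    Fintype.card_fin, Nat.cast_sub (Nat.one_le_pow _ _ (by omega)), Nat.cast_pow,
    ZMod.natCast_self, zero_pow (by omega)] at hsum
  simp at hsum

end Bound

section Two

variable {V W : Type*} [AddCommGroup V] [Module (ZMod 2) V] [FiniteDimensional (ZMod 2) V]
  [AddCommGroup W] [Module (ZMod 2) W] [FiniteDimensional (ZMod 2) W]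

/-- The sign of a bit. -/
def sgn (x : ZMod 2) : ℤ := if x = 0 then 1 else -1

theorem sgn_add (x y : ZMod 2) : sgn (x + y) = sgn x * sgn y := by decide +revert

theorem sum_sgn_dual {U : Type*} [AddCommGroup U] [Module (ZMod 2) U] [Fintype U] (f : Dual (ZMod 2) U)
    (hf : f ≠ 0) : ∑ u, sgn (f u) = 0 := by
  obtain ⟨u₀, hu₀⟩ : ∃ u, f u ≠ 0 := by
    by_contra! h
    exact hf (LinearMap.ext h)
  have h : ∑ u, sgn (f u) = -∑ u, sgn (f u) := by
    conv_lhs => rw [← Equiv.sum_comp (Equiv.addRight u₀) fun u => sgn (f u)]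
    rw [← Finset.sum_neg_distrib]
    refine Finset.sum_congr rfl fun u _ => ?_
    have h1 : f u₀ = 1 := (by decide : ∀ x : ZMod 2, x ≠ 0 → x = 1) _ hu₀
    rw [Equiv.coe_addRight, map_add, h1, sgn_add, show sgn 1 = -1 from rfl, mul_neg_one]
  omega

theorem even_sum_iff {ι : Type*} (s : Finset ι) (e : ι → ℤ) (h : ∀ i ∈ s, Odd (e i)) :
    Even (∑ i ∈ s, e i) ↔ Even s.card := by
  classical
  induction s using Finset.induction_on with
  | empty => simp
  | insert a s ha ih =>
    rw [Finset.sum_insert ha, Finset.card_insert_of_notMem ha, Int.even_add, Nat.even_add_one,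
      ih fun i hi => h i (Finset.mem_insert_of_mem hi)]
    have h1 := Int.not_even_iff_odd.mpr (h a (Finset.mem_insert_self a s))
    tauto

theorem bound_two (c : V →ₗ[ZMod 2] V →ₗ[ZMod 2] W) (halt : ∀ a, c a a = 0)
    (hs : ∀ a, a ≠ 0 → Function.Surjective (c a)) :
    finrank (ZMod 2) V = 0 ∨ finrank (ZMod 2) W + finrank (ZMod 2) W ≤ finrank (ZMod 2) V := by
  classical
  rcases Nat.eq_zero_or_pos (finrank (ZMod 2) W) with h0 | hpos
  · exact Or.inr (by omega)
  haveI : Finite V := Module.finite_of_finite (ZMod 2)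
  haveI : Finite W := Module.finite_of_finite (ZMod 2)
  haveI : Finite (Dual (ZMod 2) W) := Module.finite_of_finite (ZMod 2)
  letI := Fintype.ofFinite V
  letI := Fintype.ofFinite W
  letI := Fintype.ofFinite (Dual (ZMod 2) W)
  -- a bilinear map whose symmetrisation is `c`
  let b := Module.finBasis (ZMod 2) V
  let c₀ : V →ₗ[ZMod 2] V →ₗ[ZMod 2] W := b.constr (ZMod 2) fun i => b.constr (ZMod 2) fun j =>
    if i < j then c (b i) (b j) else 0
  have hneg : ∀ x : W, -x = x := fun x => by
    rw [← neg_one_smul (ZMod 2) x, show (-1 : ZMod 2) = 1 from rfl, one_smul]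
  have hpol : c₀ + c₀.flip = c := by
    refine LinearMap.ext_basis b b fun i j => ?_
    simp only [LinearMap.add_apply, LinearMap.flip_apply, c₀, Basis.constr_basis]
    rcases lt_trichotomy i j with h | h | h
    · rw [if_pos h, if_neg (not_lt_of_gt h), add_zero]
    · subst h; simp [halt]
    · rw [if_neg (not_lt_of_gt h), if_pos h, zero_add, ← LinearMap.IsAlt.neg halt (b i) (b j), hneg]
  let Q : V → W := fun a => c₀ a a
  have hQ : ∀ a d, Q a + Q (a + d) = Q d + c a d := by
    intro a d
    have h := LinearMap.congr_fun (LinearMap.congr_fun hpol a) d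
    simp only [LinearMap.add_apply, LinearMap.flip_apply] at h
    simp only [Q, map_add, LinearMap.add_apply, ← h]
    have := hneg (c₀ a a)
    rw [neg_eq_iff_add_eq_zero] at this
    calc c₀ a a + (c₀ a a + c₀ d a + (c₀ a d + c₀ d d))
        = (c₀ a a + c₀ a a) + (c₀ d d + (c₀ a d + c₀ d a)) := by abel
      _ = c₀ d d + (c₀ a d + c₀ d a) := by rw [this, zero_add]
  let S : Dual (ZMod 2) W → ℤ := fun μ => ∑ a, sgn (μ (Q a))
  set n := finrank (ZMod 2) V with hn
  set m := finrank (ZMod 2) W with hm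
  have hcV : Fintype.card V = 2 ^ n := by
    rw [Module.card_eq_pow_finrank (K := ZMod 2), ZMod.card]
  have hcW : Fintype.card (Dual (ZMod 2) W) = 2 ^ m := by
    rw [Module.card_eq_pow_finrank (K := ZMod 2), Subspace.dual_finrank_eq, ZMod.card]
  -- the squares of the sums
  have hsq : ∀ μ, μ ≠ 0 → S μ * S μ = 2 ^ n := by
    intro μ hμ
    have h1 : S μ * S μ = ∑ d, sgn (μ (Q d)) * ∑ a, sgn (μ (c a d)) := by
      calc S μ * S μ = ∑ a, ∑ x, sgn (μ (Q a)) * sgn (μ (Q x)) := Finset.sum_mul_sum _ _ _ _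
        _ = ∑ a, ∑ d, sgn (μ (Q d)) * sgn (μ (c a d)) := by
          refine Finset.sum_congr rfl fun a _ => ?_
          rw [← Equiv.sum_comp (Equiv.addLeft a) fun x => sgn (μ (Q a)) * sgn (μ (Q x))]
          refine Finset.sum_congr rfl fun d _ => ?_
          rw [Equiv.coe_addLeft, ← sgn_add, ← sgn_add, ← map_add, ← map_add, hQ]
        _ = _ := by
          rw [Finset.sum_comm]
          simp only [Finset.mul_sum]
    rw [h1, Finset.sum_eq_single 0 (fun d _ hd => ?_) (fun h => absurd (Finset.mem_univ _) h)]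
    · have h0 : Q 0 = 0 := by simp [Q]
      simp [h0, sgn, hcV]
    · have hne : μ ∘ₗ c.flip d ≠ 0 := fun h => by
        obtain ⟨w, hw⟩ : ∃ w, μ w ≠ 0 := by
          by_contra! hall
          exact hμ (LinearMap.ext hall)
        obtain ⟨a, rfl⟩ := hs d hd w
        apply hw
        have h2 := LinearMap.congr_fun h a
        simp only [LinearMap.comp_apply, LinearMap.flip_apply, LinearMap.zero_apply] at h2
        rw [← LinearMap.IsAlt.neg halt a d, hneg]
        exact h2
      rw [show ∑ a, sgn (μ (c a d)) = 0 from sum_sgn_dual _ hne, mul_zero]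
  -- the total
  have htot : ∑ μ, S μ = 2 ^ m * ((Finset.univ.filter fun a => Q a = 0).card : ℤ) := by
    simp only [S]
    rw [Finset.sum_comm, Finset.card_filter, Nat.cast_sum, Finset.mul_sum]
    refine Finset.sum_congr rfl fun a _ => ?_
    split_ifs with h
    · simp [h, sgn, hcW]
    · rw [Nat.cast_zero, mul_zero]
      refine sum_sgn_dual (Dual.eval (ZMod 2) W (Q a)) fun h0 => h ?_
      exact (Module.forall_dual_apply_eq_zero_iff (ZMod 2) (Q a)).mp fun φ => LinearMap.congr_fun h0 φ
  have h00 : S 0 = 2 ^ n := by simp [S, sgn, hcV]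
  rw [← Finset.add_sum_erase _ _ (Finset.mem_univ (0 : Dual (ZMod 2) W)), h00] at htot
  refine Classical.or_iff_not_imp_left.mpr fun hn0 => not_lt.mp fun hlt => ?_
  obtain ⟨μ₀, hμ₀⟩ : ∃ μ : Dual (ZMod 2) W, μ ≠ 0 := by
    by_contra hall
    push Not at hall
    have : Fintype.card (Dual (ZMod 2) W) ≤ 1 := Fintype.card_le_one_iff.mpr fun x y => by
      rw [hall x, hall y]
    rw [hcW] at this
    exact absurd this (not_le.mpr (Nat.one_lt_two_pow (by omega)))
  obtain ⟨L, -, hfin⟩ := exists_lagrangian (c.compr₂ μ₀) (fun a => by simp [halt])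
    (nondegenerate_comp (q := 2) c halt hs hμ₀)
  set k := finrank (ZMod 2) L with hk
  have hn2 : n = k + k := hfin
  have hS : ∀ μ ∈ Finset.univ.erase (0 : Dual (ZMod 2) W), ∃ e : ℤ, Odd e ∧ S μ = 2 ^ k * e := by
    intro μ hμ
    have h := hsq μ (Finset.ne_of_mem_erase hμ)
    rw [hn2, pow_add] at h
    rcases mul_self_eq_mul_self_iff.mp h with h1 | h1
    · exact ⟨1, odd_one, by rw [h1, mul_one]⟩
    · exact ⟨-1, by decide, by rw [h1, mul_neg_one]⟩
  choose! e he hSe using hS
  rw [Finset.sum_congr rfl hSe, ← Finset.mul_sum, hn2, pow_add] at htot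
  obtain ⟨j, hj⟩ : ∃ j, m = k + (j + 1) := ⟨m - k - 1, by omega⟩
  rw [hj, pow_add, mul_assoc, ← mul_add] at htot
  have h3 := mul_left_cancel₀ (pow_ne_zero k two_ne_zero) htot
  have hodd : Odd (∑ μ ∈ Finset.univ.erase (0 : Dual (ZMod 2) W), e μ) := by
    rw [← Int.not_even_iff_odd, even_sum_iff _ _ he, Finset.card_erase_of_mem (Finset.mem_univ _),
      Finset.card_univ, hcW, Nat.not_even_iff_odd]
    exact Nat.Even.sub_odd (Nat.one_le_two_pow) ((Nat.even_pow).mpr ⟨even_two, by omega⟩) odd_one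
  have heven : Even (∑ μ ∈ Finset.univ.erase (0 : Dual (ZMod 2) W), e μ) := by
    have : (∑ μ ∈ Finset.univ.erase (0 : Dual (ZMod 2) W), e μ) =
        2 ^ (j + 1) * ((Finset.univ.filter fun a => Q a = 0).card : ℤ) - 2 ^ k := by linarith
    rw [this]
    refine Even.sub ((Int.even_pow.mpr ⟨even_two, by omega⟩).mul_right _) ?_
    exact Int.even_pow.mpr ⟨even_two, by omega⟩
  exact (Int.not_even_iff_odd.mpr hodd) heven

end Two

/-- Beisiegel's bound. -/
theorem two_mul_finrank_le {q : ℕ} [Fact q.Prime] {V W : Type*} [AddCommGroup V]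
    [Module (ZMod q) V] [FiniteDimensional (ZMod q) V] [AddCommGroup W] [Module (ZMod q) W]
    [FiniteDimensional (ZMod q) W] (c : V →ₗ[ZMod q] V →ₗ[ZMod q] W) (halt : ∀ a, c a a = 0)
    (hs : ∀ a, a ≠ 0 → Function.Surjective (c a)) [Nontrivial V] :
    finrank (ZMod q) W + finrank (ZMod q) W ≤ finrank (ZMod q) V := by
  by_cases hq : q = 2
  · subst hq
    exact (bound_two c halt hs).resolve_left (Module.finrank_pos (R := ZMod 2)).ne'
  · exact bound_odd hq c halt hs inferInstance

end CfsgLib.NDDeg
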