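import Cfsg.Agent.Lib.NDDeg.Sys
import Cfsg.Agent.Lib.NDTwoComp.Final
import Cfsg.Agent.Lib.Char.AGroupMonomial

/-!
# A nilpotent normal subgroup with a complement carrying a `Sys` structure

If no nonlinear degree divides another one properly, then the normal subgroup is abelian and
there are at most two nonlinear degrees.
-/

set_option autoImplicit false
set_option linter.style.haveILetI false
set_option linter.unusedSectionVars false

namespace CfsgLib.NDDeg

open Cfsg CfsgLib.Char CfsgLib.PrimeDegrees CfsgLib.NDTwoComp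
open scoped ComplexConjugate CfsgLib.Char

universe u

theorem fixed_of_disp_eq {V : Type*} [CommGroup V] (e : MulAut V) {a b : V}
    (h : e a * a⁻¹ = e b * b⁻¹) : e (a * b⁻¹) = a * b⁻¹ := by
  rw [mul_inv_eq_iff_eq_mul] at h
  rw [map_mul, map_inv, h, mul_comm (e b) b⁻¹, mul_right_comm, mul_inv_cancel_right, mul_comm]

theorem mul_inv_eq_inv_mul_inv {V : Type*} [CommGroup V] (a b : V) : a * b⁻¹ = (a⁻¹ * b)⁻¹ := by
  rw [mul_inv_rev, inv_inv, mul_comm]

variable {G : Type u} [Group G] [Finite G] (L H : Subgroup G) [L.Normal]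

/-- The action of the complement on the linear characters. -/
def dualAct : H →* MulAut (↥L →* ℂˣ) where
  toFun h :=
    { toFun := fun ν => ν.comp (MulAut.conjNormal (h : G)⁻¹ : MulAut L).toMonoidHom
      invFun := fun ν => ν.comp (MulAut.conjNormal (h : G) : MulAut L).toMonoidHom
      left_inv := fun ν => MonoidHom.ext fun l => by
        show ν _ = ν l
        congr 1
        exact Subtype.ext (by simp [MulAut.conjNormal_apply, mul_assoc])
      right_inv := fun ν => MonoidHom.ext fun l => by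
        show ν _ = ν l
        congr 1
        exact Subtype.ext (by simp [MulAut.conjNormal_apply, mul_assoc])
      map_mul' := fun _ _ => rfl }
  map_one' := MulEquiv.ext fun ν => MonoidHom.ext fun l => by
    show ν _ = ν l
    congr 1
    exact Subtype.ext (by simp [MulAut.conjNormal_apply])
  map_mul' a b := MulEquiv.ext fun ν => MonoidHom.ext fun l => by
    show ν _ = ν _
    congr 1
    refine Subtype.ext ?_
    simp [MulAut.conjNormal_apply, mul_assoc]

theorem dualAct_apply (h : H) (ν : ↥L →* ℂˣ) (l : L) :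
    dualAct L H h ν l = ν ⟨(h : G)⁻¹ * l * (h : G), by
      simpa using (inferInstance : L.Normal).conj_mem (l : G) l.2 (h : G)⁻¹⟩ := by
  show ν _ = ν _
  congr 1
  exact Subtype.ext (by simp)

/-- The character of a linear homomorphism. -/
noncomputable def lchi (ν : ↥L →* ℂˣ) : IrrCharacter L :=
  ⟨fun l => (ν l : ℂ), isIrrCharacter_monoidHom ν⟩

theorem chi_dualAct (h : H) (ν : ↥L →* ℂˣ) :
    (lchi L (dualAct L H h ν) : L → ℂ) = conjBy L (lchi L ν : L → ℂ) ((h⁻¹ : H) : G) := by
  funext l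
  show ((dualAct L H h ν l : ℂˣ) : ℂ) = (ν _ : ℂ)
  rw [dualAct_apply]
  congr 2
  exact Subtype.ext (by simp)

theorem lchi_injective : Function.Injective fun ν => (lchi L ν : L → ℂ) := fun _ _ e =>
  MonoidHom.ext fun l => Units.ext (congrFun e l)

theorem stab_dualAct (ν : ↥L →* ℂˣ) :
    Sys.stab (dualAct L H) ν = (inertia L (lchi L ν : L → ℂ)).comap H.subtype := by
  ext h
  rw [Sys.mem_stab, Subgroup.mem_comap, ← Subgroup.inv_mem_iff (inertia L (lchi L ν : L → ℂ)),
    Subgroup.coe_subtype, ← Subgroup.coe_inv, mem_inertia, ← chi_dualAct]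
  exact ⟨fun e => by rw [e], fun e => lchi_injective L e⟩

variable (hinf : L ⊓ H = ⊥) (hsup : ∀ g : G, ∃ l ∈ L, ∃ h ∈ H, g = l * h)

include hsup in
theorem index_comap {I : Subgroup G} (hI : L ≤ I) : (I.comap H.subtype).index = I.index := by
  refine Nat.card_congr (Equiv.ofBijective
    (Quotient.map' (Subtype.val : H → G) fun a b hab => ?_) ⟨?_, ?_⟩)
  · rw [QuotientGroup.leftRel_apply] at hab ⊢
    exact hab
  · intro x y
    induction x using Quotient.inductionOn' with
    | _ a =>
      induction y using Quotient.inductionOn' with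
      | _ b =>
        intro e
        simp only [Quotient.map'_mk''] at e
        rw [Quotient.eq'', QuotientGroup.leftRel_apply] at e ⊢
        exact e
  · intro x
    induction x using Quotient.inductionOn' with
    | _ g =>
      obtain ⟨l, hl, h, hh, rfl⟩ := hsup g
      refine ⟨Quotient.mk'' ⟨h, hh⟩, ?_⟩
      rw [Quotient.map'_mk'', Quotient.eq'', QuotientGroup.leftRel_apply]
      have := (inferInstance : L.Normal).conj_mem l hl h⁻¹
      rw [inv_inv] at this
      rw [← mul_assoc]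
      exact hI this

include hsup in
theorem index_stab (ν : ↥L →* ℂˣ) :
    (Sys.stab (dualAct L H) ν).index = (inertia L (lchi L ν : L → ℂ)).index := by
  rw [stab_dualAct]
  exact index_comap L H hsup (le_inertia L (isClassFunction_irr (lchi L ν)))

include hinf in
theorem decomp_unique {l l' h h' : G} (hl : l ∈ L) (hl' : l' ∈ L) (hh : h ∈ H) (hh' : h' ∈ H)
    (e : l * h = l' * h') : l = l' ∧ h = h' := by
  have hm : h * h'⁻¹ ∈ L ⊓ H := Subgroup.mem_inf.mpr ⟨by
    rw [show h * h'⁻¹ = l⁻¹ * l' by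
      rw [eq_inv_mul_iff_mul_eq, ← mul_assoc, e, mul_inv_cancel_right]]
    exact mul_mem (inv_mem hl) hl', mul_mem hh (inv_mem hh')⟩
  rw [hinf, Subgroup.mem_bot, mul_inv_eq_one] at hm
  exact ⟨by rw [hm] at e; exact mul_right_cancel e, hm⟩

include hinf hsup in
/-- A linear character gives the index of its stabiliser as a degree. -/
theorem exists_degree (ν : ↥L →* ℂˣ) :
    ∃ χ : IrrCharacter G, (χ : G → ℂ) 1 = ((inertia L (lchi L ν : L → ℂ)).index : ℂ) := by
  classical
  haveI := Fintype.ofFinite G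
  set I := inertia L (lchi L ν : L → ℂ) with hI
  have hLI : L ≤ I := le_inertia L (isClassFunction_irr (lchi L ν))
  choose lp hlp hp hhp hdec using hsup
  let η : I →* ℂˣ := MonoidHom.mk' (fun g => ν ⟨lp g, hlp g⟩) fun a b => by
    have hhI : hp a ∈ I := by
      have := I.mul_mem (I.inv_mem (hLI (hlp a))) a.2
      rwa [show (lp (a : G))⁻¹ * (a : G) = hp a by
        conv_lhs => arg 2; rw [hdec (a : G)]
        rw [inv_mul_cancel_left]] at this
    have hwI : conjBy L (lchi L ν : L → ℂ) (hp a) = lchi L ν := (mem_inertia L).mp hhI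
    have hm : hp a * lp b * (hp a)⁻¹ ∈ L :=
      (inferInstance : L.Normal).conj_mem _ (hlp b) _
    have e : ((a * b : I) : G) = (lp a * (hp a * lp b * (hp a)⁻¹)) * (hp a * hp b) := by
      rw [Subgroup.coe_mul]
      conv_lhs => rw [hdec (a : G), hdec (b : G)]
      group
    have hl := (decomp_unique L H hinf (hlp _) (L.mul_mem (hlp _) hm) (hhp _)
      (H.mul_mem (hhp _) (hhp _)) ((hdec _).symm.trans e)).1
    have h2 : ν ⟨hp a * lp b * (hp a)⁻¹, hm⟩ = ν ⟨lp b, hlp b⟩ :=
      Units.ext (congrFun hwI ⟨lp b, hlp b⟩)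
    show ν ⟨lp ((a * b : I) : G), _⟩ = ν ⟨lp a, _⟩ * ν ⟨lp b, _⟩
    rw [← h2, ← map_mul]
    exact congrArg ν (Subtype.ext hl)
  obtain ⟨χ, hχ⟩ := degree_of_extension L (lchi L ν).2 (fun g => (η g : ℂ))
    (isIrrCharacter_monoidHom η) (c := 1) (fun n => by
      rw [Nat.cast_one, one_mul]
      show ((ν ⟨lp n, hlp n⟩ : ℂˣ) : ℂ) = (ν n : ℂ)
      exact congrArg (fun x => ((ν x : ℂˣ) : ℂ)) (Subtype.ext
        (decomp_unique L H hinf (hlp _) n.2 (hhp _) H.one_mem (by rw [← hdec, mul_one])).1))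
    one_ne_zero
  exact ⟨χ, by rw [hχ, indFun_one, map_one, Units.val_one, mul_one]⟩

variable (S : Sys H)
  (hfpf : ∀ w : H, w ∈ S.W → w ∉ S.H0 → ∀ l ∈ L, (w : G) * l = l * w → l = 1)

include hfpf in
/-- Outside `H0` the elements of `W` fix only the trivial character. -/
theorem eq_one_of_fixed {w : H} (hw : w ∈ S.W) (hw0 : w ∉ S.H0) (β : IrrCharacter L)
    (h : conjBy L (β : L → ℂ) (w : G) = β) : (β : L → ℂ) = fun _ => 1 := by
  classical
  set e : MulAut L := MulAut.conjNormal (w : G) with he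
  have hcls : Nat.card {C : ConjClasses L // ConjClasses.map e.toMonoidHom C = C} ≤ 1 := by
    rw [Finite.card_le_one_iff_subsingleton]
    refine ⟨fun C C' => ?_⟩
    suffices H' : ∀ C : {C : ConjClasses L // ConjClasses.map e.toMonoidHom C = C},
        C.1 = ConjClasses.mk 1 from Subtype.ext ((H' C).trans (H' C').symm)
    rintro ⟨C, hC⟩
    obtain ⟨l, rfl⟩ := ConjClasses.exists_rep C
    show ConjClasses.mk l = ConjClasses.mk 1
    congr 1
    obtain ⟨k, hk⟩ := isConj_iff.mp (ConjClasses.mk_eq_mk_iff_isConj.mp hC).symm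
    have hk' : (k : G) * l * (k : G)⁻¹ = w * l * (w : G)⁻¹ := by
      have := congrArg Subtype.val hk
      simpa [he] using this
    have hv : ((k : G)⁻¹ * w) * l = l * ((k : G)⁻¹ * w) := by
      calc ((k : G)⁻¹ * w) * l = (k : G)⁻¹ * (w * l * (w : G)⁻¹) * w := by group
        _ = l * ((k : G)⁻¹ * w) := by rw [← hk']; group
    let f : L → L := fun a => ⟨(a : G) * w * (a : G)⁻¹ * (w : G)⁻¹, by
      rw [mul_assoc, mul_assoc, ← mul_assoc (w : G)]
      exact L.mul_mem a.2 ((inferInstance : L.Normal).conj_mem _ (L.inv_mem a.2) _)⟩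
    have hf : Function.Injective f := fun a b hab => by
      have h1 := congrArg Subtype.val hab
      simp only [f, mul_left_inj] at h1
      have h2 := hfpf w hw hw0 ((b : G)⁻¹ * a) (L.mul_mem (L.inv_mem b.2) a.2) (by
        calc (w : G) * ((b : G)⁻¹ * a) = (b : G)⁻¹ * ((b : G) * w * (b : G)⁻¹) * a := by group
          _ = (b : G)⁻¹ * a * w := by rw [← h1]; group)
      exact Subtype.ext (inv_mul_eq_one.mp h2).symm
    obtain ⟨a, ha⟩ := Finite.surjective_of_injective hf ⟨(k : G)⁻¹, L.inv_mem k.2⟩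
    have ha' : (a : G) * w * (a : G)⁻¹ * (w : G)⁻¹ = (k : G)⁻¹ := congrArg Subtype.val ha
    have hva : (k : G)⁻¹ * w = (a : G) * w * (a : G)⁻¹ := by rw [← ha', inv_mul_cancel_right]
    have hl1 := hfpf w hw hw0 ((a : G)⁻¹ * l * a) (by
        simpa using (inferInstance : L.Normal).conj_mem (l : G) l.2 (a : G)⁻¹) (by
      rw [hva] at hv
      calc (w : G) * ((a : G)⁻¹ * l * a) = (a : G)⁻¹ * ((a : G) * w * (a : G)⁻¹ * l) * a := by group
        _ = (a : G)⁻¹ * l * a * w := by rw [hv]; group)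
    apply Subtype.ext
    calc (l : G) = (a : G) * ((a : G)⁻¹ * l * a) * (a : G)⁻¹ := by group
      _ = 1 := by rw [hl1]; group
  have hirr := (card_fixed_irr_eq_classes e).le.trans hcls
  rw [Finite.card_le_one_iff_subsingleton] at hirr
  rw [conjBy_eq_comp] at h
  exact congrArg (fun x => ((x.1 : IrrCharacter _) : L → ℂ))
    (hirr.elim ⟨β, h⟩ ⟨⟨fun _ => 1, isIrrCharacter_one⟩, rfl⟩)

include hfpf in
theorem hfree_dual : ∀ w ∈ S.W, w ∉ S.H0 → ∀ ν : ↥L →* ℂˣ, dualAct L H w ν = ν → ν = 1 := by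
  intro w hw hw0 ν e
  have hm : w ∈ Sys.stab (dualAct L H) ν := e
  rw [stab_dualAct, Subgroup.mem_comap, Subgroup.coe_subtype, mem_inertia] at hm
  have := eq_one_of_fixed L H S hfpf hw hw0 (lchi L ν) hm
  exact lchi_injective L (this.trans (funext fun l => by simp [lchi]))

include hfpf in
theorem inertia_ne_top {β : IrrCharacter L} (hβ : (β : L → ℂ) ≠ fun _ => 1) :
    (inertia L (β : L → ℂ)).index ≠ 1 := fun e => by
  obtain ⟨r, hr, hr1⟩ : ∃ r ∈ S.R, r ≠ 1 := by
    by_contra hc
    push Not at hc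
    exact S.ne_bot ((Subgroup.eq_bot_iff_forall _).mpr hc)
  refine hβ (eq_one_of_fixed L H S hfpf (S.hRW hr) (fun h => hr1 (S.inf0 r hr h)) β ?_)
  rw [← mem_inertia, Subgroup.index_eq_one.mp e]
  trivial

/-- The degree of a character over `β`. -/
theorem degree_over [Fintype L] (β : IrrCharacter L) {b : ℕ} (hb : (β : L → ℂ) 1 = b) (χ : IrrCharacter G)
    (hχ : classInner (fun n : L => (χ : G → ℂ) n) (β : L → ℂ) ≠ 0) {a : ℕ}
    (ha : (χ : G → ℂ) 1 = a) : (inertia L (β : L → ℂ)).index * b ∣ a := by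
  haveI := Fintype.ofFinite G
  obtain ⟨e, -, -, -, hde⟩ := exists_mul_eq_degree L χ.2 β.2 hχ ha hb
  rw [card_orbit_eq_index] at hde
  exact hde ▸ dvd_mul_left _ _

include hinf hsup in
/-- The characters trivial on `L` have degree dividing the order of the cyclic top. -/
theorem degree_dvd_of_trivial [Fintype L] (χ : IrrCharacter G) {a : ℕ} (ha : (χ : G → ℂ) 1 = a)
    (hχ : classInner (fun n : L => (χ : G → ℂ) n) (fun _ => 1) ≠ 0) : a ∣ S.W.index := by
  classical
  haveI := Fintype.ofFinite G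
  have hcl := clifford L χ.2 (isIrrCharacter_one (G := L)) hχ
  have horb : orbit L (fun _ : L => (1 : ℂ)) = {fun _ => 1} := by
    ext φ
    rw [mem_orbit, Finset.mem_singleton]
    constructor
    · rintro ⟨g, rfl⟩; rfl
    · rintro rfl; exact ⟨1, rfl⟩
  rw [horb, Finset.sum_singleton] at hcl
  have hker : ∀ l : L, (χ : G → ℂ) l = (χ : G → ℂ) ((1 : L) : G) := fun l => by
    have h1 := congrFun hcl l
    have h2 := congrFun hcl 1
    simp only [Pi.smul_apply] at h1 h2
    rw [h1, h2]
  choose lp hlp hp hhp hdec using hsup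
  let π : G →* H := MonoidHom.mk' (fun g => ⟨hp g, hhp g⟩) fun x y => by
    refine Subtype.ext ?_
    have hm : hp x * lp y * (hp x)⁻¹ ∈ L := (inferInstance : L.Normal).conj_mem _ (hlp y) _
    have e : x * y = (lp x * (hp x * lp y * (hp x)⁻¹)) * (hp x * hp y) := by
      conv_lhs => rw [hdec x, hdec y]
      group
    exact (decomp_unique L H hinf (hlp _) (L.mul_mem (hlp _) hm) (hhp _)
      (H.mul_mem (hhp _) (hhp _)) ((hdec _).symm.trans e)).2
  have hπ : Function.Surjective π := fun h => ⟨h, Subtype.ext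
    (decomp_unique L H hinf (hlp _) L.one_mem (hhp _) h.2 (by rw [← hdec, one_mul])).2⟩
  have hfac : (fun g => (χ : G → ℂ) g) = fun g => (χ : G → ℂ) ((π g : H) : G) := by
    obtain ⟨ρn, ρ, hρ, he⟩ := χ.2
    funext g
    have hl : ρ (lp g) = 1 := by
      have h1 := hker ⟨lp g, hlp g⟩
      rw [Subgroup.coe_one, ← he, Representation.char_one, character_eq_finrank_iff] at h1
      rw [h1, Module.End.one_eq_id]
    rw [← he]
    show LinearMap.trace ℂ _ (ρ g) = LinearMap.trace ℂ _ (ρ (hp g))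
    conv_lhs => rw [hdec g, map_mul, hl, one_mul]
  have hchar : IsCharacter H fun h => (χ : G → ℂ) (h : G) :=
    isCharacter_restrict H (isCharacter_of_isIrr χ.2)
  have hirr : IsIrrCharacter H fun h => (χ : G → ℂ) (h : G) :=
    AGroupMonomial.isIrr_of_comp_surjective hchar π hπ (hfac ▸ χ.2)
  exact Extraspecial.ito hirr S.W S.commW (by rw [Subgroup.coe_one, ha])

variable (hnd : NoDivDeg G) (hf : ∃ χ : IrrCharacter G, (χ : G → ℂ) 1 = (S.W.index : ℂ))
  (hf1 : S.W.index ≠ 1) (hcop : (Nat.card S.R).Coprime S.W.index)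

include hinf hsup hfpf hnd in
theorem anti : ∀ x y : ↥L →* ℂˣ, x ≠ 1 → y ≠ 1 →
    (Sys.stab (dualAct L H) x).index ∣ (Sys.stab (dualAct L H) y).index →
      (Sys.stab (dualAct L H) x).index = (Sys.stab (dualAct L H) y).index := by
  intro x y hx hy
  rw [index_stab L H hsup, index_stab L H hsup]
  obtain ⟨χ, hχ⟩ := exists_degree L H hinf hsup x
  obtain ⟨χ', hχ'⟩ := exists_degree L H hinf hsup y
  have hne : ∀ z : ↥L →* ℂˣ, z ≠ 1 → (lchi L z : L → ℂ) ≠ fun _ => 1 := fun z hz e =>
    hz (lchi_injective L (e.trans (funext fun l => by simp [lchi])))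
  exact hnd χ χ' _ _ hχ hχ' (inertia_ne_top L H S hfpf (hne x hx))
    (inertia_ne_top L H S hfpf (hne y hy))

include hinf hsup hfpf hnd in
/-- The twists of a nonlinear character are trivial. -/
theorem twist_eq (β : IrrCharacter L) (hβ : (β : L → ℂ) 1 ≠ 1) (κ : ↥L →* ℂˣ) :
    (lchi L κ : L → ℂ) * β = β := by
  classical
  haveI : Finite (↥L →* ℂˣ) := Finite.of_equiv _ (linearEquiv (G := L))
  have hfree := hfree_dual L H S hfpf
  have hanti := anti L H hinf hsup S hfpf hnd
  have hchimul : ∀ a b : ↥L →* ℂˣ, (lchi L (a * b) : L → ℂ) = (lchi L a : L → ℂ) * lchi L b :=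
    fun a b => funext fun l => by simp [lchi]
  have hchi1 : (lchi L 1 : L → ℂ) = 1 := funext fun l => by simp [lchi]
  have hconj : ∀ (h : H) (ν : ↥L →* ℂˣ) (f : L → ℂ),
      conjBy L ((lchi L ν : L → ℂ) * f) ((h⁻¹ : H) : G) =
        (lchi L (dualAct L H h ν) : L → ℂ) * conjBy L f ((h⁻¹ : H) : G) := by
    intro h ν f
    rw [chi_dualAct]
    rfl
  -- every nonlinear character is fixed outside the common stabiliser
  have hfix : ∀ γ : IrrCharacter L, (γ : L → ℂ) 1 ≠ 1 → ∀ ν : ↥L →* ℂˣ, ν ≠ 1 →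
      ∃ w : H, w ∈ S.W ∧ w ∉ Sys.stab (dualAct L H) ν ∧ conjBy L (γ : L → ℂ) (w : G) = γ := by
    intro γ hγ ν hν
    by_contra hno
    push Not at hno
    have hne : (γ : L → ℂ) ≠ fun _ => 1 := fun e => hγ (congrFun e 1)
    set U := Sys.stab (dualAct L H) ν ⊓ S.W with hU
    set I := (inertia L (γ : L → ℂ)).comap H.subtype with hI
    obtain ⟨z, hz, hzU, hzi⟩ := S.exists_dom hfree (U := U)
      (le_inf inf_le_right (S.stab_inf_le hfree hν)) hν inf_le_left (I := I) fun a ha haW => by
        refine Subgroup.mem_inf.mpr ⟨?_, haW⟩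
        by_contra hna
        exact hno a haW hna ((mem_inertia L).mp ha)
    have hcard : Nat.card I ∣ Nat.card (Sys.stab (dualAct L H) z) := by
      rw [S.card_eq_mul I, S.card_eq_mul (Sys.stab (dualAct L H) z)]
      refine mul_dvd_mul (Subgroup.card_dvd_of_le (le_inf ?_ inf_le_right))
        (Subgroup.card_dvd_of_le hzi)
      intro a ha
      obtain ⟨haI, haW⟩ := Subgroup.mem_inf.mp ha
      refine hzU (Subgroup.mem_inf.mpr ⟨?_, haW⟩)
      by_contra hna
      exact hno a haW hna ((mem_inertia L).mp haI)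
    have hidx : (Sys.stab (dualAct L H) z).index ∣ I.index := by
      obtain ⟨k, hk⟩ := hcard
      have h1 := I.card_mul_index
      rw [← (Sys.stab (dualAct L H) z).card_mul_index, hk, mul_assoc] at h1
      exact ⟨k, by rw [Nat.eq_of_mul_eq_mul_left Nat.card_pos h1]; ring⟩
    rw [index_stab L H hsup, hI, index_comap L H hsup (le_inertia L (isClassFunction_irr γ))] at hidx
    obtain ⟨χ₀, hχ₀⟩ := exists_degree L H hinf hsup z
    haveI := Fintype.ofFinite G
    haveI := Fintype.ofFinite L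
    obtain ⟨χ, hχ⟩ := exists_over L γ
    obtain ⟨a, -, ha⟩ := exists_nat_degree_irr χ.2
    obtain ⟨b, hb0, hb⟩ := exists_nat_degree_irr γ.2
    have hdvd := degree_over L γ hb χ hχ ha
    have hzne := inertia_ne_top L H S hfpf (β := lchi L z)
      fun e => hz (lchi_injective L (e.trans (funext fun l => by simp [lchi])))
    have ha1 : a ≠ 1 := fun e =>
      inertia_ne_top L H S hfpf hne (Nat.eq_one_of_mul_eq_one_right (Nat.dvd_one.mp (e ▸ hdvd)))
    have heq := hnd χ₀ χ _ _ hχ₀ ha hzne ha1 ((hidx.trans (dvd_mul_right _ _)).trans hdvd)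
    have h2 : (inertia L (lchi L z : L → ℂ)).index * b ∣ (inertia L (lchi L z : L → ℂ)).index := by
      conv_rhs => rw [heq]
      exact (Nat.mul_dvd_mul_right hidx b).trans hdvd
    have : b = 1 := Nat.dvd_one.mp ((Nat.mul_dvd_mul_iff_left
      (Nat.pos_of_ne_zero Subgroup.index_ne_zero_of_finite)).mp (by rwa [mul_one]))
    exact hγ (by rw [hb, this, Nat.cast_one])
  by_cases hκ : κ = 1
  · rw [hκ, hchi1, one_mul]
  -- a character has at most one fixed twist
  let K : Subgroup (↥L →* ℂˣ) :=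
    { carrier := {μ | (lchi L μ : L → ℂ) * β = β}
      one_mem' := by
        show (lchi L 1 : L → ℂ) * β = β
        rw [hchi1, one_mul]
      mul_mem' := fun {a b} ha hb => by
        show (lchi L (a * b) : L → ℂ) * β = β
        rw [hchimul, mul_assoc, show (lchi L b : L → ℂ) * β = β from hb]
        exact ha
      inv_mem' := fun {a} ha => by
        show (lchi L a⁻¹ : L → ℂ) * β = β
        conv_lhs => rw [← (show (lchi L a : L → ℂ) * β = β from ha)]
        rw [← mul_assoc, ← hchimul, inv_mul_cancel (G := ↥L →* ℂˣ), hchi1, one_mul] }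
  have huniq : ∀ (j : H), j ∈ S.W → j ∉ Sys.stab (dualAct L H) κ →
      conjBy L (β : L → ℂ) ((j⁻¹ : H) : G) = β → ∀ μ, dualAct L H j μ * μ⁻¹ ∈ K → μ ∈ K := by
    intro j hjW hj hjβ μ hμ
    have hKinv : ∀ m ∈ K, dualAct L H j m ∈ K := fun m hm => by
      have := congrArg (fun f => conjBy L f ((j⁻¹ : H) : G)) (show _ * _ = _ from hm)
      simp only [hconj, hjβ] at this
      exact this
    let Φ : (↥L →* ℂˣ) → (↥L →* ℂˣ) := fun m => dualAct L H j m * m⁻¹
    have hΦ : Function.Injective Φ := fun a b hab => by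
      by_contra hne
      apply hj
      have hd : a * b⁻¹ ≠ 1 := fun e => hne (mul_inv_eq_one.mp e)
      have h1 : dualAct L H j (a * b⁻¹) = a * b⁻¹ := fixed_of_disp_eq (V := ↥L →* ℂˣ) (dualAct L H j) hab
      have : j ∈ Sys.stab (dualAct L H) (a * b⁻¹) ⊓ S.W := Subgroup.mem_inf.mpr ⟨h1, hjW⟩
      rw [S.inter_eq hfree hanti hd hκ] at this
      exact (Subgroup.mem_inf.mp this).1
    let Φ' : K → K := fun m => ⟨Φ m, mul_mem (hKinv m m.2) (inv_mem m.2)⟩
    have hΦ' : Function.Injective Φ' := fun a b hab =>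
      Subtype.ext (hΦ (congrArg Subtype.val hab))
    obtain ⟨m, hm⟩ := Finite.surjective_of_injective hΦ' ⟨_, hμ⟩
    exact hΦ (congrArg Subtype.val hm) ▸ m.2
  obtain ⟨j, hjW, hj, hjβ⟩ := hfix β hβ κ hκ
  let γ : IrrCharacter L := ⟨(lchi L κ : L → ℂ) * β,
    haveI := Fintype.ofFinite L; isIrrCharacter_linear_mul β.2 κ⟩
  obtain ⟨i, hiW, hi, hiγ⟩ := hfix γ (by
    show (lchi L κ : L → ℂ) 1 * (β : L → ℂ) 1 ≠ 1
    simpa [lchi] using hβ) κ hκ
  have hinv : ∀ (f : L → ℂ) (w : H), conjBy L f (w : G) = f →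
      conjBy L f ((w⁻¹ : H) : G) = f := fun f w hw => by
    rw [Subgroup.coe_inv, ← mem_inertia]
    exact (inertia L f).inv_mem ((mem_inertia L).mpr hw)
  have hjβ' := hinv _ j hjβ
  have hiγ' : (lchi L (dualAct L H i κ) : L → ℂ) * conjBy L (β : L → ℂ) ((i⁻¹ : H) : G) =
      (lchi L κ : L → ℂ) * β := by
    rw [← hconj]
    exact hinv _ i hiγ
  -- `i` fixes `β` as well
  set β' := conjBy L (β : L → ℂ) ((i⁻¹ : H) : G) with hβ'
  have hβ'j : conjBy L β' ((j⁻¹ : H) : G) = β' := by
    rw [hβ', ← conjBy_mul, ← Subgroup.coe_mul, S.commW _ (inv_mem hiW) _ (inv_mem hjW),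
      Subgroup.coe_mul, conjBy_mul, hjβ']
  set μ := (dualAct L H i κ)⁻¹ * κ with hμ
  have hβμ : β' = (lchi L μ : L → ℂ) * β := by
    rw [hμ, hchimul, mul_assoc, ← hiγ', ← mul_assoc, ← hchimul, inv_mul_cancel (G := ↥L →* ℂˣ), hchi1, one_mul]
  have hjμ : dualAct L H j μ * μ⁻¹ ∈ K := by
    show (lchi L (dualAct L H j μ * μ⁻¹) : L → ℂ) * β = β
    have h1 : (lchi L (dualAct L H j μ) : L → ℂ) * β = (lchi L μ : L → ℂ) * β := by
      rw [hβμ, hconj, hjβ'] at hβ'j
      exact hβ'j
    rw [mul_comm (dualAct L H j μ), hchimul, mul_assoc, h1, ← mul_assoc, ← hchimul, inv_mul_cancel (G := ↥L →* ℂˣ),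
      hchi1, one_mul]
  have hμK : μ ∈ K := huniq j hjW hj hjβ' μ hjμ
  have hiβ : β' = β := by rw [hβμ]; exact hμK
  refine huniq i hiW hi hiβ κ ?_
  show (lchi L (dualAct L H i κ * κ⁻¹) : L → ℂ) * β = β
  have := K.inv_mem hμK
  have e := mul_inv_eq_inv_mul_inv (V := ↥L →* ℂˣ) (dualAct L H i κ) κ
  rw [hμ] at this
  exact (congrArg (fun x => (lchi L x : L → ℂ) * (β : L → ℂ) = β) e).mpr this

include hinf hsup hfpf hnd hf hf1 hcop in
theorem three_degrees_of_split [Group.IsNilpotent L] :
    ∃ d, ∀ (χ : IrrCharacter G) (a : ℕ), (χ : G → ℂ) 1 = a → a = 1 ∨ a = S.W.index ∨ a = d := by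
  classical
  haveI := Fintype.ofFinite G
  haveI := Fintype.ofFinite L
  haveI : Finite (↥L →* ℂˣ) := Finite.of_equiv _ (linearEquiv (G := L))
  have hfree := hfree_dual L H S hfpf
  have hanti := anti L H hinf hsup S hfpf hnd
  obtain ⟨χf, hχf⟩ := hf
  have hone : (lchi L 1 : L → ℂ) = fun _ => 1 := funext fun l => by simp [lchi]
  -- the normal subgroup is abelian
  have hab : ∀ a b : L, a * b = b * a := by
    by_contra hab
    obtain ⟨β₀, hβ₀⟩ : ∃ β : IrrCharacter L, (β : L → ℂ) 1 ≠ 1 := by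
      by_contra hno
      push Not at hno
      exact hab ((Cfsg.Agent.S0187.result (G := L)).mpr hno)
    haveI : Nontrivial L := by
      by_contra hn
      rw [not_nontrivial_iff_subsingleton] at hn
      exact hab fun a b => Subsingleton.elim _ _
    obtain ⟨x₀, -, hx₀⟩ := SetLike.exists_of_lt
      (Group.IsSolvable.commutator_lt_top_of_nontrivial L)
    have hvan : ∀ β : IrrCharacter L, (β : L → ℂ) 1 ≠ 1 → (β : L → ℂ) x₀ = 0 := by
      intro β hβ
      obtain ⟨ν, hν⟩ := exists_hom_ne hx₀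
      have h := congrFun (twist_eq L H hinf hsup S hfpf hnd β hβ ν) x₀
      change (ν x₀ : ℂ) * _ = _ at h
      by_contra h0
      exact hν (Units.ext ((mul_eq_right₀ h0).mp h))
    have hV : Nat.card (↥L →* ℂˣ) = (commutator ↥L).index := by
      rw [← Nat.card_congr (linearEquiv (G := L)), card_linear]
    have hcard : Nat.card (Subgroup.centralizer ({x₀} : Set L)) = Nat.card (↥L →* ℂˣ) := by
      rw [(class_of_vanish hvan).1, hV]
    have hxZ : x₀ ∉ Subgroup.center L := by
      intro hx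
      have hC : Subgroup.centralizer ({x₀} : Set L) = ⊤ :=
        Subgroup.centralizer_eq_top_iff_subset.mpr (Set.singleton_subset_iff.mpr hx)
      rw [hC, Subgroup.card_top, hV] at hcard
      have hk := (commutator ↥L).card_mul_index
      have h1c : Nat.card (commutator ↥L) = 1 :=
        (Nat.mul_eq_right Subgroup.index_ne_zero_of_finite).mp (hk.trans hcard)
      exact hab fun a b => commutatorElement_eq_one_iff_mul_comm.mp
        (Subgroup.mem_bot.mp ((Subgroup.card_eq_one.mp h1c) ▸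
          Subgroup.commutator_mem_commutator (Subgroup.mem_top a) (Subgroup.mem_top b)))
    have hZlt : Nat.card (Subgroup.center L) < Nat.card (↥L →* ℂˣ) := by
      rw [← hcard]
      refine lt_of_le_of_ne (Subgroup.card_le_of_le (Subgroup.center_le_centralizer _)) fun e => hxZ ?_
      rw [Subgroup.eq_of_le_of_card_ge (Subgroup.center_le_centralizer _) e.ge,
        Subgroup.mem_centralizer_singleton_iff]
    have hV1 : 1 < Nat.card (↥L →* ℂˣ) := lt_of_le_of_lt Nat.card_pos hZlt
    have hbig : Nat.card (↥L →* ℂˣ) < Nat.card S.R ^ 2 := by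
      refine S.card_lt_sq hfree hanti hV1 fun x hx hdvd => ?_
      rw [index_stab L H hsup] at hdvd
      obtain ⟨χ, hχ⟩ := exists_degree L H hinf hsup x
      have hne := inertia_ne_top L H S hfpf (β := lchi L x)
        fun e => hx (lchi_injective L (e.trans hone.symm))
      have heq := hnd χf χ _ _ hχf hχ hf1 hne hdvd
      rw [← index_stab L H hsup] at heq
      -- then the order of `R` would not be prime to the index
      set T := Sys.stab (dualAct L H) x
      have h2 := T.card_mul_index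
      rw [← heq, ← S.W.card_mul_index] at h2
      have h3 := Nat.eq_of_mul_eq_mul_right (Nat.pos_of_ne_zero Subgroup.index_ne_zero_of_finite) h2
      rw [S.card_eq_mul T] at h3
      set U := (T ⊓ S.W).subgroupOf S.W
      haveI : U.Normal := ⟨fun a ha b => by
        rw [Subgroup.mem_subgroupOf] at ha ⊢
        push_cast
        rw [S.commW b b.2 a a.2, mul_inv_cancel_right]
        exact ha⟩
      let φ : S.R →* S.W ⧸ U := (QuotientGroup.mk' U).comp (Subgroup.inclusion S.hRW)
      have hφ : Function.Injective φ := by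
        rw [injective_iff_map_eq_one]
        intro r hr
        rw [MonoidHom.comp_apply, QuotientGroup.mk'_apply, QuotientGroup.eq_one_iff,
          Subgroup.mem_subgroupOf] at hr
        exact Subtype.ext (S.inf0 r r.2 (S.stab_inf_le hfree hx hr))
      have h4 : Nat.card S.R ∣ U.index := Subgroup.card_dvd_of_injective φ hφ
      have h5 : U.index = Nat.card ↥(S.img T) := by
        have := U.card_mul_index
        rw [Nat.card_congr (Subgroup.subgroupOfEquivOfLe inf_le_right).toEquiv, ← h3] at this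
        exact Nat.eq_of_mul_eq_mul_left Nat.card_pos this
      have h6 : Nat.card ↥(S.img T) ∣ S.W.index := Subgroup.card_subgroup_dvd_card _
      have h7 := Nat.eq_one_of_dvd_coprimes hcop dvd_rfl ((h5 ▸ h4).trans h6)
      exact S.ne_bot (Subgroup.card_eq_one.mp h7)
    obtain ⟨p, n, hp, hn, hVn⟩ := exists_prime_exponent (U := ↥S.R) ((dualAct L H).comp S.R.subtype)
      (fun u hu x h => S.free_R hfree u.2 (fun e => hu (Subtype.ext e)) h) hV1 hbig
    haveI := Fact.mk hp
    have hLp : IsPGroup p L := isPGroup_of_abelianization (hV ▸ hVn)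
    obtain ⟨z, hz⟩ := (hLp.to_subgroup (Subgroup.center L)).exists_card_eq
    haveI : Nontrivial (Subgroup.center L) := hLp.center_nontrivial
    have hz0 : 0 < z := Nat.pos_of_ne_zero fun e => by
      rw [e, pow_zero] at hz
      exact absurd hz (Finite.one_lt_card (α := Subgroup.center L)).ne'
    have hconj : ∀ (g : G) (l : L), l ∈ Subgroup.center L →
        (MulAut.conjNormal g : MulAut L) l ∈ Subgroup.center L := by
      intro g l hl
      rw [Subgroup.mem_center_iff] at hl ⊢
      intro m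
      obtain ⟨m', rfl⟩ := (MulAut.conjNormal g : MulAut L).surjective m
      rw [← map_mul, ← map_mul, hl]
    let δ : S.R →* MulAut (Subgroup.center L) :=
      { toFun := fun r =>
          { toFun := fun l => ⟨(MulAut.conjNormal ((r : H) : G) : MulAut L) l, hconj _ _ l.2⟩
            invFun := fun l => ⟨(MulAut.conjNormal ((r : H) : G)⁻¹ : MulAut L) l, hconj _ _ l.2⟩
            left_inv := fun l => Subtype.ext (Subtype.ext (by simp [mul_assoc]))
            right_inv := fun l => Subtype.ext (Subtype.ext (by simp [mul_assoc]))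
            map_mul' := fun a b => Subtype.ext (map_mul _ (a : L) b) }
        map_one' := MulEquiv.ext fun l => Subtype.ext (Subtype.ext (by simp))
        map_mul' := fun a b => MulEquiv.ext fun l => Subtype.ext (Subtype.ext (by simp [mul_assoc])) }
    have hd2 : Nat.card S.R ∣ Nat.card (Subgroup.center L) - 1 :=
      card_dvd_pred δ fun r hr l hl => Subtype.ext (Subtype.ext (by
        have h1 : ((r : H) : G) * (l : L) * ((r : H) : G)⁻¹ = ((l : L) : G) :=
          congrArg (fun x : Subgroup.center L => ((x : L) : G)) hl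
        exact hfpf r (S.hRW r.2) (fun h => hr (Subtype.ext (S.inf0 r r.2 h))) _ (l : L).2
          (mul_inv_eq_iff_eq_mul.mp h1)))
    refine gcd_contradiction hp hz0 ?_ (hVn ▸ S.card_R_dvd hfree) (hz ▸ hd2) (hVn ▸ hbig)
    exact (Nat.pow_lt_pow_iff_right hp.one_lt).mp (hz ▸ hVn ▸ hZlt)
  -- the degrees
  obtain ⟨d, hd⟩ : ∃ d, ∀ ν : ↥L →* ℂˣ, ν ≠ 1 → (inertia L (lchi L ν : L → ℂ)).index = d := by
    by_cases h : ∃ ν : ↥L →* ℂˣ, ν ≠ 1
    · obtain ⟨ν₀, hν₀⟩ := h
      exact ⟨(inertia L (lchi L ν₀ : L → ℂ)).index, fun ν hν => by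
        rw [← index_stab L H hsup, ← index_stab L H hsup]
        exact S.index_eq hfree hanti hν hν₀⟩
    · exact ⟨1, fun ν hν => absurd ⟨ν, hν⟩ h⟩
  refine ⟨d, fun χ a ha => ?_⟩
  by_cases ha1 : a = 1
  · exact Or.inl ha1
  obtain ⟨θ, hθ⟩ := exists_constituent L (isCharacter_of_isIrr χ.2) (irr_degree_ne_zero χ.2)
  by_cases hθ1 : (θ : L → ℂ) = fun _ => 1
  · rw [hθ1] at hθ
    exact Or.inr (Or.inl (hnd χ χf a _ ha hχf ha1 hf1
      (degree_dvd_of_trivial L H hinf hsup S χ ha hθ)))
  · have hlin := (Cfsg.Agent.S0187.result (G := L)).mp hab θ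
    set ν := linearHom (isCharacter_of_isIrr θ.2) hlin with hν
    have hθν : (lchi L ν : L → ℂ) = θ := funext fun l => linearHom_apply (isCharacter_of_isIrr θ.2) hlin l
    have hν1 : ν ≠ 1 := fun e => hθ1 (by rw [← hθν, e, hone])
    obtain ⟨χ₀, hχ₀⟩ := exists_degree L H hinf hsup ν
    have hdvd := degree_over L θ (b := 1) (by rw [hlin, Nat.cast_one]) χ hθ ha
    rw [mul_one, ← hθν] at hdvd
    have heq := hnd χ₀ χ _ _ hχ₀ ha (inertia_ne_top L H S hfpf (by rw [hθν]; exact hθ1)) ha1 hdvd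
    exact Or.inr (Or.inr (by rw [← heq, hd ν hν1]))

end CfsgLib.NDDeg
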