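import Cfsg.Agent.Lib.NDDeg.Base
import Cfsg.Agent.Lib.NDDeg.Split
import Cfsg.Agent.S0033

/-!
# A prime of the moved part not dividing the derived subgroup
-/

set_option autoImplicit false
set_option linter.style.haveILetI false
set_option linter.unusedSectionVars false

namespace CfsgLib.NDDeg

open Cfsg CfsgLib.Char CfsgLib.NDTwoComp
open scoped ComplexConjugate CfsgLib.Char commutatorElement

universe u

variable {G : Type u} [Group G] [Finite G] {F : Frame G}

namespace Frame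

variable (F)

theorem of_conj {g : G} {i : ℕ} (hg : g * (F.c ^ i)⁻¹ ∈ F.K) (k : F.K) :
    Abelianization.of ((MulAut.conjNormal g : MulAut F.K) k) = Abelianization.of ((F.σ ^ i) k) := by
  set m : F.K := ⟨_, hg⟩
  have e : (MulAut.conjNormal g : MulAut F.K) k = m * (F.σ ^ i) k * m⁻¹ := by
    refine Subtype.ext ?_
    rw [MulAut.conjNormal_apply, Subgroup.coe_mul, Subgroup.coe_mul, Subgroup.coe_inv, F.σ_pow]
    simp only [m]
    group
  rw [e, map_mul, map_mul, map_inv, mul_comm (Abelianization.of m), mul_inv_cancel_right]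

theorem op_σ (hnd : NoDivDeg G) : (F.op hnd).σ = F.σ := rfl

/-- The case of a prime of the moved part which does not divide the derived subgroup. -/
theorem bounds_split (hnd : NoDivDeg G) {q : ℕ} (hq : q.Prime)
    (hqA : q ∣ (F.op hnd).Z0.index) (hqL : ¬ q ∣ Nat.card (commutator F.K)) : Bounds G := by
  classical
  haveI := Fact.mk hq
  set D := F.op hnd with hD
  obtain ⟨Q⟩ : Nonempty (Sylow q F.K) := inferInstance
  obtain ⟨x, hxQ, hxZ⟩ : ∃ x ∈ (Q : Subgroup F.K), x ∉ D.Z0 := by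
    by_contra h
    push Not at h
    exact Q.not_dvd_index (hqA.trans (Subgroup.index_dvd_of_le h))
  set L₀ := commutator F.K with hL₀
  have hQL : ∀ a ∈ (Q : Subgroup F.K), a ∈ L₀ → a = 1 := by
    intro a ha hL
    obtain ⟨n, hn⟩ := Q.2.exists_card_eq
    have h1 : orderOf a ∣ q ^ n := by
      rw [← hn, ← Subgroup.orderOf_mk a ha]; exact orderOf_dvd_natCard _
    have h2 : orderOf a ∣ Nat.card L₀ := by
      rw [← Subgroup.orderOf_mk a hL]; exact orderOf_dvd_natCard _
    exact orderOf_eq_one_iff.mp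
      (Nat.eq_one_of_dvd_coprimes ((hq.coprime_iff_not_dvd.mpr hqL).pow_left n) h1 h2)
  set M : Subgroup F.K := (Q : Subgroup F.K) ⊔ L₀ with hM
  haveI : M.Normal := Subgroup.Normal.of_commutator_le (G := F.K) (h := le_sup_right)
  set N₀ : Subgroup F.K := Subgroup.normalizer ((Q : Subgroup F.K) : Set F.K) with hN₀
  have hQN : (Q : Subgroup F.K) ≤ N₀ := Subgroup.le_normalizer
  have hsupK : N₀ ⊔ L₀ = ⊤ := by
    have h := Sylow.normalizer_sup_eq_top (Q.subtype (le_sup_left : (Q : Subgroup F.K) ≤ M))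
    rw [show ((Q.subtype (le_sup_left : (Q : Subgroup F.K) ≤ M) : Sylow q M) : Subgroup M).map M.subtype =
      (Q : Subgroup F.K) by
        rw [Sylow.coe_subtype, Subgroup.map_subgroupOf_eq_of_le le_sup_left]] at h
    rw [eq_top_iff, ← h]
    exact sup_le le_sup_left (sup_le (hQN.trans le_sup_left) le_sup_right)
  have hNx : N₀ ≤ Subgroup.centralizer ({x} : Set F.K) := by
    intro n hn
    rw [Subgroup.mem_centralizer_singleton_iff, ← commutatorElement_eq_one_iff_mul_comm]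
    refine hQL _ ?_ (Subgroup.commutator_mem_commutator (Subgroup.mem_top _) (Subgroup.mem_top _))
    rw [commutatorElement_def]
    exact mul_mem ((Subgroup.mem_normalizer_iff.mp hn x).mp hxQ) (inv_mem hxQ)
  have hNL : ∀ a ∈ N₀, a ∈ L₀ → a = 1 := by
    have h1 : L₀.relIndex N₀ = L₀.index := by
      rw [← Subgroup.relIndex_top_right L₀, ← hsupK, Subgroup.relIndex_sup_right]
    have h2 := (L₀.subgroupOf N₀).card_mul_index
    rw [show (L₀.subgroupOf N₀).index = L₀.index from h1] at h2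
    have h3 : Nat.card N₀ ≤ L₀.index :=
      (Subgroup.card_le_of_le hNx).trans (D.card_centralizer hxZ).le
    have h4 : Nat.card (L₀.subgroupOf N₀) = 1 := by
      have h5 : 0 < Nat.card (L₀.subgroupOf N₀) := Nat.card_pos
      have h6 : 0 < L₀.index := Nat.pos_of_ne_zero Subgroup.index_ne_zero_of_finite
      nlinarith
    intro a ha hL
    have : (⟨a, ha⟩ : N₀) ∈ L₀.subgroupOf N₀ := hL
    rw [Subgroup.card_eq_one.mp h4, Subgroup.mem_bot] at this
    exact congrArg Subtype.val this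
  -- in the whole group
  set Q' : Subgroup G := (Q : Subgroup F.K).map F.K.subtype with hQ'
  set H : Subgroup G := Subgroup.normalizer (Q' : Set G) with hH
  have hmemQ' : ∀ a : F.K, (a : G) ∈ Q' ↔ a ∈ (Q : Subgroup F.K) := fun a =>
    Subgroup.mem_map_iff_mem F.K.subtype_injective
  have hmemH : ∀ a : F.K, (a : G) ∈ H ↔ a ∈ N₀ := by
    intro a
    rw [hH, hN₀, Subgroup.mem_normalizer_iff, Subgroup.mem_normalizer_iff]
    constructor
    · intro h b
      rw [← hmemQ', ← hmemQ', Subgroup.coe_mul, Subgroup.coe_mul, Subgroup.coe_inv]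
      exact h b
    · intro h g
      constructor
      · intro hg
        obtain ⟨b, hb, rfl⟩ := hg
        exact ⟨a * b * a⁻¹, (h b).mp hb, rfl⟩
      · intro hg
        have hK : g ∈ F.K := by
          have := F.normal.conj_mem _ (Subgroup.map_subtype_le _ hg) (a : G)⁻¹
          simpa [mul_assoc] using this
        exact (hmemQ' ⟨g, hK⟩).mpr ((h ⟨g, hK⟩).mpr ((hmemQ' (a * ⟨g, hK⟩ * a⁻¹)).mp hg))
  have hsupG : ∀ g : G, ∃ k ∈ F.K, ∃ h ∈ H, g = k * h := fun g => by
    have h := Sylow.normalizer_sup_eq_top Q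
    have hg : g ∈ F.K ⊔ H := by rw [hH, hQ', sup_comm, h]; trivial
    rw [← SetLike.mem_coe, Subgroup.normal_mul, Set.mem_mul] at hg
    obtain ⟨k, hk, h, hh, rfl⟩ := hg
    exact ⟨k, hk, h, hh, rfl⟩
  set L : Subgroup G := L₀.map F.K.subtype with hL
  haveI : L.Normal := by
    rw [hL, hL₀, Subgroup.map_subtype_commutator]
    infer_instance
  have hmemL : ∀ a : F.K, (a : G) ∈ L ↔ a ∈ L₀ := fun a =>
    Subgroup.mem_map_iff_mem F.K.subtype_injective
  have hinf : L ⊓ H = ⊥ := by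
    rw [Subgroup.eq_bot_iff_forall]
    intro a ha
    obtain ⟨⟨b, hb, rfl⟩, h2⟩ := Subgroup.mem_inf.mp ha
    rw [hNL b ((hmemH b).mp h2) hb]
    rfl
  have hsupK' : ∀ a : F.K, ∃ l ∈ L₀, ∃ n ∈ N₀, a = l * n := fun a => by
    have h : a ∈ L₀ ⊔ N₀ := by rw [sup_comm, hsupK]; trivial
    rw [← SetLike.mem_coe, Subgroup.normal_mul, Set.mem_mul] at h
    obtain ⟨l, hl, n, hn, rfl⟩ := h
    exact ⟨l, hl, n, hn, rfl⟩
  have hsup : ∀ g : G, ∃ l ∈ L, ∃ h ∈ H, g = l * h := fun g => by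
    obtain ⟨k, hk, h, hh, rfl⟩ := hsupG g
    obtain ⟨l, hl, n, hn, e⟩ := hsupK' ⟨k, hk⟩
    exact ⟨l, (hmemL l).mpr hl, n * h, mul_mem ((hmemH n).mpr hn) hh, by
      rw [← mul_assoc, show k = (l : G) * n from congrArg Subtype.val e]⟩
  -- the structure of the complement
  obtain ⟨k₀, hk₀, h₀, hh₀, hc⟩ := hsupG F.c
  set hE : H := ⟨h₀, hh₀⟩ with hhE
  have hEq : (h₀ : G ⧸ F.K) = (F.c : G ⧸ F.K) := by
    rw [hc, QuotientGroup.mk_mul, (QuotientGroup.eq_one_iff k₀).mpr hk₀, one_mul]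
  have hpowK : ∀ i : ℕ, ((hE ^ i : H) : G) * (F.c ^ i)⁻¹ ∈ F.K := fun i => by
    rw [← QuotientGroup.eq_one_iff]
    simp [hhE, hEq]
  set W : Subgroup H := F.K.subgroupOf H with hW
  have hWn : W.Normal := Subgroup.normal_subgroupOf
  let emb : W →* F.K :=
    { toFun := fun w => ⟨((w : H) : G), w.2⟩
      map_one' := rfl
      map_mul' := fun _ _ => rfl }
  have hembN : ∀ w : W, emb w ∈ N₀ := fun w => (hmemH _).mp (w : H).2
  let j : W →* Abelianization F.K := Abelianization.of.comp emb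
  have hjinj : Function.Injective j := by
    rw [injective_iff_map_eq_one]
    intro w hw
    rw [MonoidHom.comp_apply, ← MonoidHom.mem_ker, Abelianization.ker_of] at hw
    have := hNL _ (hembN w) hw
    exact Subtype.ext (Subtype.ext (show ((w : H) : G) = 1 from congrArg (fun a : F.K => (a : G)) this))
  have hjsurj : Function.Surjective j := by
    intro X
    obtain ⟨a, rfl⟩ : ∃ a, Abelianization.of a = X := QuotientGroup.mk_surjective X
    obtain ⟨l, hl, n, hn, rfl⟩ := hsupK' a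
    refine ⟨⟨⟨(n : G), (hmemH n).mpr hn⟩, n.2⟩, ?_⟩
    rw [map_mul, of_eq_one.mpr hl, one_mul]
    rfl
  have hcommW : ∀ a ∈ W, ∀ b ∈ W, a * b = b * a := fun a ha b hb => by
    have e : (⟨a, ha⟩ : W) * ⟨b, hb⟩ = ⟨b, hb⟩ * ⟨a, ha⟩ :=
      hjinj (by rw [map_mul, map_mul, mul_comm])
    exact congrArg Subtype.val e
  have hjconj : ∀ (e : H) (i : ℕ), (e : G) * (F.c ^ i)⁻¹ ∈ F.K → ∀ w : W,
      j ⟨e * w * e⁻¹, hWn.conj_mem _ w.2 e⟩ =
        Abelianization.map (F.σ ^ i).toMonoidHom (j w) := by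
    intro e i he w
    rw [MonoidHom.comp_apply, MonoidHom.comp_apply, Abelianization.map_of, MulEquiv.coe_toMonoidHom,
      ← F.of_conj he]
    congr 1
  let φ : W →* W := MonoidHom.mk'
    (fun w => ⟨hE * w * hE⁻¹, hWn.conj_mem _ w.2 hE⟩ * w⁻¹) fun a b => by
      refine hjinj ?_
      simp only [map_mul, map_inv]
      rw [hjconj hE 1 (by simpa using hpowK 1), hjconj hE 1 (by simpa using hpowK 1),
        hjconj hE 1 (by simpa using hpowK 1), map_mul, map_mul, mul_inv, mul_mul_mul_comm]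
  have hjφ : ∀ w : W, j (φ w) = dlHom F.σ 1 (j w) := fun w => by
    rw [MonoidHom.mk'_apply, map_mul, map_inv, hjconj hE 1 (by simpa using hpowK 1)]
    rfl
  set R : Subgroup H := φ.range.map W.subtype with hR
  have hRmem : ∀ r ∈ R, ∃ hr : r ∈ W, j ⟨r, hr⟩ ∈ (dlHom F.σ 1).range := by
    rintro _ ⟨_, ⟨w, rfl⟩, rfl⟩
    exact ⟨(φ w).2, j w, (hjφ w).symm⟩
  set H0 : Subgroup H := Subgroup.centralizer ({hE} : Set H) with hH0
  have hker : ∀ w : W, (w : H) ∈ H0 ↔ j w ∈ (dlHom F.σ 1).ker := by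
    intro w
    rw [MonoidHom.mem_ker, ← hjφ, map_eq_one_iff j hjinj, MonoidHom.mk'_apply, mul_inv_eq_one,
      hH0, Subgroup.mem_centralizer_singleton_iff]
    constructor
    · intro e
      exact Subtype.ext (mul_inv_eq_iff_eq_mul.mpr e.symm)
    · intro e
      exact (mul_inv_eq_iff_eq_mul.mp (congrArg Subtype.val e)).symm
  have hgen : ∀ e : H, ∃ i : ℕ, ∃ w ∈ W, e = w * hE ^ i := by
    intro e
    obtain ⟨i, k, hk, he⟩ := F.gen (e : G)
    refine ⟨i, e * (hE ^ i)⁻¹, ?_, by rw [inv_mul_cancel_right]⟩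
    show ((e * (hE ^ i)⁻¹ : H) : G) ∈ F.K
    rw [Subgroup.coe_mul, Subgroup.coe_inv, he, mul_assoc,
      show F.c ^ i * ((hE ^ i : H) : G)⁻¹ = ((((hE ^ i : H) : G)) * (F.c ^ i)⁻¹)⁻¹ by group]
    exact mul_mem hk (inv_mem (hpowK i))
  let S : Sys H :=
  { W := W
    R := R
    H0 := H0
    normal := hWn
    c := hE
    c_mem := Subgroup.mem_centralizer_singleton_iff.mpr rfl
    gen := hgen
    commW := hcommW
    comm0 := by
      intro a ha b hb
      obtain ⟨i, w, hw, rfl⟩ := hgen a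
      obtain ⟨i', w', hw', rfl⟩ := hgen b
      rw [hH0, Subgroup.mem_centralizer_singleton_iff] at ha hb
      have hcw : Commute w hE := by
        have h1 : (w * hE) * hE ^ i = (hE * w) * hE ^ i := by
          rw [mul_assoc, ← pow_succ', pow_succ, ← mul_assoc, ha, mul_assoc]
        exact mul_right_cancel h1
      have hcw' : Commute w' hE := by
        have h1 : (w' * hE) * hE ^ i' = (hE * w') * hE ^ i' := by
          rw [mul_assoc, ← pow_succ', pow_succ, ← mul_assoc, hb, mul_assoc]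
        exact mul_right_cancel h1
      exact ((show Commute w w' from hcommW w hw w' hw').mul_right (hcw.pow_right i')).mul_left
        ((hcw'.pow_right i).symm.mul_right (Commute.pow_pow (Commute.refl hE) i i'))
    hRW := fun r hr => (hRmem r hr).1
    conjR := by
      rintro e he _ ⟨_, ⟨w, rfl⟩, rfl⟩
      refine ⟨φ ⟨e * w * e⁻¹, hWn.conj_mem _ w.2 e⟩, ⟨_, rfl⟩, ?_⟩
      rw [hH0, Subgroup.mem_centralizer_singleton_iff] at he
      have he' : Commute e hE := he
      show hE * (e * (w : H) * e⁻¹) * hE⁻¹ * (e * (w : H) * e⁻¹)⁻¹ =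
        e * (hE * w * hE⁻¹ * (w : H)⁻¹) * e⁻¹
      calc hE * (e * (w : H) * e⁻¹) * hE⁻¹ * (e * (w : H) * e⁻¹)⁻¹
          = (hE * e) * w * (hE * e)⁻¹ * (e * (w : H) * e⁻¹)⁻¹ := by group
        _ = _ := by rw [← he'.eq]; group
    inf0 := by
      intro r hr h0
      obtain ⟨hrW, hr'⟩ := hRmem r hr
      have : j ⟨r, hrW⟩ ∈ (dlHom F.σ 1).range ⊓ (dlHom F.σ 1).ker :=
        Subgroup.mem_inf.mpr ⟨hr', (hker ⟨r, hrW⟩).mp h0⟩
      rw [show (dlHom F.σ 1).range ⊓ (dlHom F.σ 1).ker = ⊥ from D.range_inf_ker,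
        Subgroup.mem_bot, map_eq_one_iff j hjinj] at this
      exact congrArg Subtype.val this
    decomp := by
      intro w hw
      obtain ⟨_, ⟨X, rfl⟩, Z, hZ, e⟩ := D.exists_decomp (j ⟨w, hw⟩)
      obtain ⟨a, rfl⟩ := hjsurj X
      obtain ⟨b, rfl⟩ := hjsurj Z
      refine ⟨φ a, ⟨φ a, ⟨a, rfl⟩, rfl⟩, b, (hker b).mpr hZ, ?_⟩
      have : (⟨w, hw⟩ : W) = φ a * b := hjinj (by
        rw [map_mul, hjφ]
        exact e)
      exact congrArg Subtype.val this
    fpf := by
      intro e he heW r hr hfix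
      obtain ⟨hrW, hr'⟩ := hRmem r hr
      obtain ⟨i, w, hw, rfl⟩ := hgen e
      have hi : ¬ F.K.index ∣ i := fun ⟨t, ht⟩ => heW (mul_mem hw (by
        show ((hE ^ i : H) : G) ∈ F.K
        have := mul_mem (hpowK i) (show F.c ^ i ∈ F.K by
          rw [ht, pow_mul]; exact pow_mem F.pow_index_mem t)
        rwa [inv_mul_cancel_right] at this))
      have h1 : (w * hE ^ i : H) * r * (w * hE ^ i)⁻¹ = r := hfix
      have hej : ((w * hE ^ i : H) : G) * (F.c ^ i)⁻¹ ∈ F.K := by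
        rw [Subgroup.coe_mul, mul_assoc]
        exact mul_mem hw (hpowK i)
      have h2 := hjconj _ i hej ⟨r, hrW⟩
      rw [show (⟨(w * hE ^ i) * r * (w * hE ^ i)⁻¹, hWn.conj_mem _ hrW _⟩ : W) = ⟨r, hrW⟩ from
        Subtype.ext h1] at h2
      have h3 : j ⟨r, hrW⟩ ∈ (dlHom D.σ i).ker := (D.mem_ker_dlHom i _).mpr h2.symm
      rw [D.ker_eq hi] at h3
      have h4 : j ⟨r, hrW⟩ ∈ (dlHom F.σ 1).range ⊓ (dlHom F.σ 1).ker :=
        Subgroup.mem_inf.mpr ⟨hr', h3⟩
      rw [show (dlHom F.σ 1).range ⊓ (dlHom F.σ 1).ker = ⊥ from D.range_inf_ker,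
        Subgroup.mem_bot, map_eq_one_iff j hjinj] at h4
      exact congrArg Subtype.val h4
    ne_bot := by
      intro e
      obtain ⟨a, ha⟩ := hjsurj (Abelianization.of x)
      refine hxZ ?_
      have : φ a = 1 := Subtype.ext (by
        have : ((φ a : W) : H) ∈ R := ⟨φ a, ⟨a, rfl⟩, rfl⟩
        rwa [e, Subgroup.mem_bot] at this)
      show x ∈ ((dlHom D.σ 1).comp Abelianization.of).ker
      rw [MonoidHom.mem_ker, MonoidHom.comp_apply, ← ha]
      exact (hjφ a).symm.trans (by rw [this, map_one]) }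
  have hfpf : ∀ w : H, w ∈ S.W → w ∉ S.H0 → ∀ l ∈ L, (w : G) * l = l * w → l = 1 := by
    intro w hw hw0 l hl hcomm
    have hwZ : emb ⟨w, hw⟩ ∉ D.Z0 := fun h => hw0 ((hker ⟨w, hw⟩).mpr h)
    obtain ⟨l, hl, rfl⟩ := hl
    have hle : W.map (Subgroup.subtype H) ≤ (Subgroup.centralizer ({emb ⟨w, hw⟩} : Set F.K)).map
        F.K.subtype := by
      rintro _ ⟨v, hv, rfl⟩
      refine ⟨⟨(v : G), hv⟩, Subgroup.mem_centralizer_singleton_iff.mpr ?_, rfl⟩
      exact Subtype.ext (congrArg (fun a : H => (a : G)) (hcommW v hv w hw))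
    have hcard : Nat.card (W.map (Subgroup.subtype H)) = (commutator F.K).index := by
      rw [Nat.card_congr (Subgroup.equivMapOfInjective W _ H.subtype_injective).symm.toEquiv,
        Nat.card_congr (Equiv.ofBijective j ⟨hjinj, hjsurj⟩)]
      rfl
    have heq := Subgroup.eq_of_le_of_card_ge hle (by
      rw [hcard, Nat.card_congr
        (Subgroup.equivMapOfInjective _ _ F.K.subtype_injective).symm.toEquiv,
        D.card_centralizer hwZ])
    have hl' : (l : G) ∈ W.map (Subgroup.subtype H) := heq ▸ Subgroup.mem_map_of_mem _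
      (Subgroup.mem_centralizer_singleton_iff.mpr (Subtype.ext hcomm.symm))
    obtain ⟨v, -, hv⟩ := hl'
    have hlN : l ∈ N₀ := (hmemH l).mp (hv ▸ v.2)
    rw [hNL l hlN hl]
    rfl
  have hWidx : S.W.index = F.K.index := by
    show (F.K.subgroupOf H).index = F.K.index
    rw [← Subgroup.relIndex, ← Subgroup.relIndex_sup_right, ← Subgroup.relIndex_top_right F.K]
    congr 1
    rw [Subgroup.eq_top_iff']
    intro g
    obtain ⟨k, hk, h, hh, rfl⟩ := hsupG g
    exact mul_mem (Subgroup.mem_sup_right hk) (Subgroup.mem_sup_left hh)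
  have hRcard : Nat.card S.R = D.Z0.index := by
    rw [D.index_Z0]
    refine Nat.card_congr (Equiv.ofBijective (fun r : R =>
      (⟨j ⟨r, (hRmem r r.2).1⟩, (hRmem r r.2).2⟩ : (dlHom F.σ 1).range)) ⟨fun a b e => ?_, ?_⟩)
    · exact Subtype.ext (congrArg (fun z : W => (z : H)) (hjinj (congrArg Subtype.val e)))
    · rintro ⟨_, X, rfl⟩
      obtain ⟨a, rfl⟩ := hjsurj X
      exact ⟨⟨φ a, φ a, ⟨a, rfl⟩, rfl⟩, Subtype.ext (hjφ a)⟩
  haveI hnil : Group.IsNilpotent L := by
    by_cases hLb : L = ⊥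
    · rw [hLb]; infer_instance
    obtain ⟨⟨y, hy⟩, hyo⟩ := exists_prime_orderOf_dvd_card' (G := S.R) q (hRcard ▸ hqA)
    rw [Subgroup.orderOf_mk] at hyo
    have hy1 : y ≠ 1 := fun e => hq.one_lt.ne (by rw [← hyo, e, orderOf_one])
    have hy0 : y ∉ S.H0 := fun h => hy1 (S.inf0 y hy h)
    set e : MulAut L := MulAut.conjNormal (y : G)
    have hfix : ∀ l : L, e l = l → l = 1 := fun l hl => by
      have h1 : (y : G) * l * (y : G)⁻¹ = l := by
        rw [← MulAut.conjNormal_apply]; exact congrArg Subtype.val hl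
      exact Subtype.ext (hfpf y (S.hRW hy) hy0 l l.2 (mul_inv_eq_iff_eq_mul.mp h1))
    refine Cfsg.Agent.S0033.result e (fun l hl => hfix l hl) q hq (orderOf_eq_prime ?_ fun he => ?_)
    · rw [← map_pow, ← Subgroup.coe_pow, show y ^ q = 1 from hyo ▸ pow_orderOf_eq_one y]
      exact map_one _
    · exact hLb ((Subgroup.eq_bot_iff_forall _).mpr fun l hl =>
        congrArg Subtype.val (hfix ⟨l, hl⟩ (by rw [he]; rfl)))
  obtain ⟨χf, hχf⟩ := F.deg
  obtain ⟨d, hd⟩ := three_degrees_of_split L H hinf hsup S hfpf hnd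
    ⟨χf, by rw [hWidx]; exact hχf⟩ (by rw [hWidx]; exact F.one_lt.ne') (by
      rw [hRcard, hWidx]; exact D.coprime_index)
  exact bounds_of_degrees S.W.index d hd

end Frame

end CfsgLib.NDDeg
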