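import Cfsg.Agent.Lib.Char.RelMcKay.Layer

/-!
# Two elements of prime power order acting commutatively on an abelian subgroup
-/

set_option autoImplicit false
set_option linter.style.haveILetI false
set_option linter.unusedSectionVars false

namespace CfsgLib.NDDeg

universe u

variable {K : Type u} [Group K] [Finite K]

/-- The subgroup is invariant under conjugation by the element. -/
def Stable (W : Subgroup K) (x : K) : Prop := ∀ v ∈ W, x * v * x⁻¹ ∈ W

theorem mem_zpowers_of_orderOf_dvd {M : Type*} [Group M] [Finite M] {g A B : M}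
    (hA : A ∈ Subgroup.zpowers g) (hB : B ∈ Subgroup.zpowers g) (h : orderOf B ∣ orderOf A) :
    B ∈ Subgroup.zpowers A := by
  obtain ⟨i, rfl⟩ := (mem_powers_iff_mem_zpowers (x := g)).mpr hA
  obtain ⟨j, rfl⟩ := (mem_powers_iff_mem_zpowers (x := g)).mpr hB
  simp only at h ⊢
  set N := orderOf g
  set d := Nat.gcd N i
  have hd : d ∣ N := Nat.gcd_dvd_left N i
  have hd0 : 0 < d := Nat.gcd_pos_of_pos_left i (orderOf_pos g)
  have h1 : (g ^ j) ^ orderOf (g ^ i) = 1 := orderOf_dvd_iff_pow_eq_one.mp h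
  rw [orderOf_pow, ← pow_mul] at h1
  have h2 : d * (N / d) ∣ j * (N / d) := by
    rw [Nat.mul_div_cancel' hd]
    exact orderOf_dvd_of_pow_eq_one h1
  obtain ⟨t, rfl⟩ := (Nat.mul_dvd_mul_iff_right
    (Nat.div_pos (Nat.le_of_dvd (orderOf_pos g) hd) hd0)).mp h2
  rw [pow_mul]
  refine pow_mem ?_ t
  refine Subgroup.mem_zpowers_iff.mpr ⟨Nat.gcdB N i, ?_⟩
  show (g ^ i) ^ Nat.gcdB N i = g ^ d
  rw [← zpow_natCast g d, show ((d : ℕ) : ℤ) = N * Nat.gcdA N i + i * Nat.gcdB N i from
    Nat.gcd_eq_gcd_ab N i, zpow_add, zpow_mul, zpow_natCast g N, pow_orderOf_eq_one, one_zpow,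
    one_mul, zpow_mul, zpow_natCast]

/-- The endomorphism of an invariant abelian subgroup given by conjugation. -/
noncomputable def conjEnd (W : Subgroup K) (x : K) (hx : Stable W x) :
    (AddMonoid.End (Additive W))ˣ :=
  letI e : AddMonoid.End (Additive W) :=
    { toFun := fun v => Additive.ofMul ⟨x * ((Additive.toMul v : W) : K) * x⁻¹, hx _ (Additive.toMul v).2⟩
      map_zero' := by
        apply Additive.toMul.injective
        exact Subtype.ext (by simp)
      map_add' := fun a b => by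
        apply Additive.toMul.injective
        exact Subtype.ext (by simp [mul_assoc]) }
  haveI : Finite (AddMonoid.End (Additive W)) := DFunLike.finite _
  IsUnit.unit (a := e) <| IsUnit.isUnit_iff_mulLeft_bijective.mpr <|
    Finite.injective_iff_bijective.mp fun a b h => DFunLike.ext _ _ fun v => by
      have h1 := DFunLike.congr_fun h v
      simp only [AddMonoid.End.coe_mul, Function.comp_apply] at h1
      have h2 := congrArg (fun z => ((Additive.toMul z : W) : K)) h1
      apply Additive.toMul.injective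
      exact Subtype.ext (mul_left_cancel (mul_right_cancel (h2 : x * _ * x⁻¹ = x * _ * x⁻¹)))

theorem conjEnd_apply (W : Subgroup K) {x : K} (hx : Stable W x) (v : Additive W) :
    ((Additive.toMul ((conjEnd W x hx : AddMonoid.End (Additive W)) v) : W) : K) =
      x * ((Additive.toMul v : W) : K) * x⁻¹ := rfl

theorem conjEnd_pow_apply (W : Subgroup K) {x : K} (hx : Stable W x) (k : ℕ) (v : Additive W) :
    ((Additive.toMul (((conjEnd W x hx ^ k : (AddMonoid.End (Additive W))ˣ) :
      AddMonoid.End (Additive W)) v) : W) : K) = x ^ k * ((Additive.toMul v : W) : K) * (x ^ k)⁻¹ := by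
  induction k with
  | zero => simp
  | succ k ih =>
    rw [pow_succ', Units.val_mul, AddMonoid.End.coe_mul, Function.comp_apply, conjEnd_apply, ih,
      pow_succ']
    group

/-- On some invariant subgroup one element is a power of the other. -/
theorem exists_pow_trivial {q : ℕ} [Fact q.Prime] {W : Subgroup K} (hW : W ≠ ⊥)
    (hcomm : ∀ a ∈ W, ∀ b ∈ W, a * b = b * a) {x y : K} (hx : Stable W x) (hy : Stable W y)
    (hxq : ∃ n, x ^ q ^ n = 1) (hyq : ∃ n, y ^ q ^ n = 1)
    (hxy : ∀ v ∈ W, x * (y * v * y⁻¹) * x⁻¹ = y * (x * v * x⁻¹) * y⁻¹) :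
    ∃ k : ℕ, ∃ W' : Subgroup K, W' ≤ W ∧ W' ≠ ⊥ ∧
      ((∀ v ∈ W', (x ^ k * y) * v * (x ^ k * y)⁻¹ = v) ∨
        (∀ v ∈ W', (y ^ k * x) * v * (y ^ k * x)⁻¹ = v)) := by
  classical
  obtain ⟨W', ⟨hle, hne, hx', hy'⟩, hmin⟩ := Set.Finite.exists_minimal
    (s := {V : Subgroup K | V ≤ W ∧ V ≠ ⊥ ∧ Stable V x ∧ Stable V y}) (Set.toFinite _)
    ⟨W, le_rfl, hW, hx, hy⟩
  haveI : IsMulCommutative W' := ⟨⟨fun a b => Subtype.ext (hcomm a (hle a.2) b (hle b.2))⟩⟩
  letI : CommGroup W' := { (inferInstance : Group W') with mul_comm := mul_comm' }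
  haveI : Nontrivial (Additive W') := by
    haveI := (Subgroup.nontrivial_iff_ne_bot W').mpr hne
    infer_instance
  set A := conjEnd W' x hx'
  set B := conjEnd W' y hy'
  have hAB : (A : AddMonoid.End (Additive W')) * B = B * A := DFunLike.ext _ _ fun v => by
    rw [AddMonoid.End.coe_mul, AddMonoid.End.coe_mul, Function.comp_apply, Function.comp_apply]
    apply Additive.toMul.injective
    refine Subtype.ext ?_
    rw [conjEnd_apply, conjEnd_apply, conjEnd_apply, conjEnd_apply]
    exact hxy _ (hle (Additive.toMul v).2)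
  have hirr : ∀ C : AddSubgroup (Additive W'),
      (∀ v ∈ C, (A : AddMonoid.End (Additive W')) v ∈ C) →
      (∀ v ∈ C, (B : AddMonoid.End (Additive W')) v ∈ C) → C = ⊥ ∨ C = ⊤ := by
    intro C hCA hCB
    by_cases hC : C = ⊥
    · exact Or.inl hC
    right
    set V : Subgroup K := (AddSubgroup.toSubgroup' C).map W'.subtype
    have hVne : V ≠ ⊥ := by
      intro e
      refine hC ((AddSubgroup.eq_bot_iff_forall C).mpr fun v hv => ?_)
      have : ((Additive.toMul v : W') : K) ∈ V := ⟨Additive.toMul v, hv, rfl⟩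
      rw [e, Subgroup.mem_bot] at this
      exact Additive.toMul.injective (Subtype.ext this)
    have hVW : V ≤ W' := Subgroup.map_subtype_le _
    have hstab : V ≤ W ∧ V ≠ ⊥ ∧ Stable V x ∧ Stable V y := by
      refine ⟨hVW.trans hle, hVne, ?_, ?_⟩
      · rintro _ ⟨v, hv, rfl⟩
        exact ⟨_, hCA (Additive.ofMul v) hv, rfl⟩
      · rintro _ ⟨v, hv, rfl⟩
        exact ⟨_, hCB (Additive.ofMul v) hv, rfl⟩
    have hVeq := hmin hstab hVW
    rw [AddSubgroup.eq_top_iff']
    intro v
    obtain ⟨w, hw, hwv⟩ := hVeq (Additive.toMul v).2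
    have : w = Additive.toMul v := Subtype.ext hwv
    rw [this] at hw
    exact hw
  obtain ⟨g, i, j, hi, hj⟩ := CfsgLib.Char.RelMcKay.exists_cyclic_of_irreducible A B hAB hirr
  haveI : Finite (AddMonoid.End (Additive W')) := DFunLike.finite _
  have hord : ∀ (z : K) (hz : Stable W' z), (∃ n, z ^ q ^ n = 1) →
      ∃ l, orderOf (conjEnd W' z hz) = q ^ l := by
    rintro z hz ⟨n, hn⟩
    obtain ⟨l, -, hl⟩ := (Nat.dvd_prime_pow Fact.out).mp (orderOf_dvd_of_pow_eq_one
      (x := conjEnd W' z hz) (n := q ^ n) (Units.ext (DFunLike.ext _ _ fun v => by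
        apply Additive.toMul.injective
        refine Subtype.ext ?_
        rw [conjEnd_pow_apply, hn, one_mul, inv_one, mul_one]
        rfl)))
    exact ⟨l, hl⟩
  have key : ∀ (a b : K) (ha : Stable W' a) (hb : Stable W' b),
      conjEnd W' b hb ∈ Subgroup.zpowers (conjEnd W' a ha) →
        ∃ k, ∀ v ∈ W', (a ^ k * b) * v * (a ^ k * b)⁻¹ = v := by
    intro a b ha hb hm
    obtain ⟨k, hk⟩ := (mem_powers_iff_mem_zpowers (x := conjEnd W' a ha)).mpr (inv_mem hm)
    refine ⟨k, fun v hv => ?_⟩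
    have h1 : (conjEnd W' a ha) ^ k * conjEnd W' b hb = 1 := by
      rw [show (conjEnd W' a ha) ^ k = (conjEnd W' b hb)⁻¹ from hk, inv_mul_cancel]
    have h2 := congrArg (fun u : (AddMonoid.End (Additive W'))ˣ =>
      ((Additive.toMul ((u : AddMonoid.End (Additive W')) (Additive.ofMul ⟨v, hv⟩)) : W') : K)) h1
    simp only [Units.val_mul, AddMonoid.End.coe_mul, Function.comp_apply, conjEnd_pow_apply,
      conjEnd_apply] at h2
    rw [show (a ^ k * b) * v * (a ^ k * b)⁻¹ = a ^ k * (b * v * b⁻¹) * (a ^ k)⁻¹ by group]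
    exact h2
  obtain ⟨l, hl⟩ := hord x hx' hxq
  obtain ⟨l', hl'⟩ := hord y hy' hyq
  have hAg : A ∈ Subgroup.zpowers g := hi ▸ pow_mem (Subgroup.mem_zpowers g) i
  have hBg : B ∈ Subgroup.zpowers g := hj ▸ pow_mem (Subgroup.mem_zpowers g) j
  rcases le_total l' l with h | h
  · obtain ⟨k, hk⟩ := key x y hx' hy' (mem_zpowers_of_orderOf_dvd hAg hBg
      (by rw [hl, hl']; exact pow_dvd_pow q h))
    exact ⟨k, W', hle, hne, Or.inl hk⟩
  · obtain ⟨k, hk⟩ := key y x hy' hx' (mem_zpowers_of_orderOf_dvd hBg hAg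
      (by rw [hl, hl']; exact pow_dvd_pow q h))
    exact ⟨k, W', hle, hne, Or.inr hk⟩

end CfsgLib.NDDeg
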