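import Cfsg.Agent.Lib.NDDeg.Spaces

/-!
# The results on `q`-groups: two degrees, metabelian, and commuting pairs
-/

set_option autoImplicit false
set_option linter.style.haveILetI false
set_option linter.unusedSectionVars false

namespace CfsgLib.NDDeg

open Cfsg CfsgLib.Char CfsgLib.NDTwoComp CfsgLib.Higman Module
open scoped ComplexConjugate CfsgLib.Char commutatorElement

universe u

variable {P : Type u} [Group P] [Finite P]

namespace QOp

variable {q : ℕ} [Fact q.Prime] (S : QOp P q)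

include S in
theorem gam_three : gam P 3 = ⊥ := by
  by_cases h2 : gam P 2 = ⊥
  · exact le_bot_iff.mp ((gam_anti (by omega)).trans h2.le)
  have hZ : S.Zc := by
    by_contra hZ
    exact h2 (S.of_not_Zc hZ).1
  letI := AddCommGroup.zmodModule S.nsmul_moved
  letI := AddCommGroup.zmodModule (S.nsmul_layer 0)
  letI := AddCommGroup.zmodModule (S.nsmul_layer 1)
  letI := AddCommGroup.zmodModule (S.nsmul_layer 2)
  exact S.no_layer_four hZ h2

include S in
/-- The group is metabelian. -/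
theorem derived_comm : ⁅commutator P, commutator P⁆ = ⊥ := by
  rw [← gam_one, eq_bot_iff, ← S.gam_three]
  exact commutator_gam_le 1 1

theorem degree_pow (ψ : IrrCharacter P) {d : ℕ} (hd : (ψ : P → ℂ) 1 = d) (S : QOp P q) :
    ∃ k, d = q ^ k := by
  obtain ⟨d', hd', -, hdvd⟩ := exists_degree_dvd_card ψ.2
  obtain ⟨n, hn⟩ := S.hP.exists_card_eq
  have : d = d' := by exact_mod_cast hd.symm.trans hd'
  subst this
  obtain ⟨k, -, hk⟩ := (Nat.dvd_prime_pow Fact.out).mp (hn ▸ hdvd)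
  exact ⟨k, hk⟩

theorem exists_restricted {i : ℕ} (N : Subgroup P) (hle : gam P i ≤ N) (ψ : IrrCharacter P)
    {d : ℕ} (hd : (ψ : P → ℂ) 1 = d)
    (hker : ∀ n ∈ N, ∀ g : P, (ψ : P → ℂ) ⁅g, n⁆ = (ψ : P → ℂ) 1)
    (hsucc : ∀ g ∈ gam P (i + 1), (ψ : P → ℂ) g = (ψ : P → ℂ) 1) :
    ∃ ν : Q P i →* ℂˣ, ∀ g ∈ gam P i, (ψ : P → ℂ) g = (val ν g : ℂ) * d := by
  obtain ⟨μ, hμ⟩ := exists_scalar_hom N ψ hker
  have hd0 := irr_degree_ne_zero ψ.2
  let ν : Q P i →* ℂˣ := QuotientGroup.lift _ (μ.comp (Subgroup.inclusion hle)) fun g hg => by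
    have h1 := hμ ⟨g, hle g.2⟩ 1
    rw [mul_one, hsucc g (Subgroup.mem_subgroupOf.mp hg)] at h1
    exact Units.ext ((mul_eq_right₀ hd0).mp h1.symm)
  refine ⟨ν, fun g hg => ?_⟩
  have h1 := hμ ⟨g, hle hg⟩ 1
  rw [mul_one, hd] at h1
  rw [h1, val_of_mem ν hg]
  rfl

theorem exists_ne_of_gam_one (ψ : IrrCharacter P) (hψ : (ψ : P → ℂ) 1 ≠ 1) :
    ∃ g ∈ gam P 1, (ψ : P → ℂ) g ≠ (ψ : P → ℂ) 1 := by
  by_contra h
  push Not at h
  obtain ⟨μ, hμ⟩ := exists_scalar_hom (⊤ : Subgroup P) ψ fun n _ g => h _ (comm_gam_one g n)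
  refine hψ (degree_one_of_eq ψ
    { toFun := fun g => μ ⟨g, trivial⟩
      map_one' := map_one μ
      map_mul' := fun a b => map_mul μ ⟨a, trivial⟩ ⟨b, trivial⟩ } fun g => ?_)
  have := hμ ⟨g, trivial⟩ 1
  rwa [mul_one] at this

theorem degrees_of_not_Zc (hZ : ¬ S.Zc) : ∃ e, ∀ (ψ : IrrCharacter P) (a : ℕ),
    (ψ : P → ℂ) 1 = a → a ≠ 1 → os S.D.σ (ψ : P → ℂ) * a = e := by
  obtain ⟨-, hfix⟩ := S.of_not_Zc hZ
  have hos : ∀ (ψ : IrrCharacter P) (a : ℕ), (ψ : P → ℂ) 1 = a → a ≠ 1 →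
      os S.D.σ (ψ : P → ℂ) = 1 := by
    intro ψ a ha ha1
    refine (S.D.os_eq_one_iff _).mpr fun k => ?_
    by_cases hk : k ∈ S.D.Z0
    · rw [hfix k hk]
    · have hne : (ψ : P → ℂ) 1 ≠ 1 := fun h => ha1 (by exact_mod_cast ha.symm.trans h)
      rw [S.D.vanish ψ hne hk, S.D.vanish ψ hne]
      intro h
      have h1 := S.D.pow_mem_of_apply_mem (fun n hn => S.D.apply_mem_Z0 hn) (S.D.f - 1) _ h
      rw [← MulAut.mul_apply, ← pow_succ, Nat.sub_add_cancel S.D.f_pos, S.hper,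
        MulAut.one_apply] at h1
      exact hk h1
  by_cases hall : ∀ (ψ : IrrCharacter P) (a : ℕ), (ψ : P → ℂ) 1 = a → a = 1
  · exact ⟨1, fun ψ a ha ha1 => absurd (hall ψ a ha) ha1⟩
  push Not at hall
  obtain ⟨ψ₀, a₀, ha₀, ha₀1⟩ := hall
  refine ⟨a₀, fun ψ a ha ha1 => ?_⟩
  rw [hos ψ a ha ha1, one_mul]
  obtain ⟨k, rfl⟩ := degree_pow ψ ha S
  obtain ⟨m, rfl⟩ := degree_pow ψ₀ ha₀ S
  have e := S.D.nd ψ ψ₀ _ _ ha ha₀
  have e' := S.D.nd ψ₀ ψ _ _ ha₀ ha
  rw [hos ψ _ ha ha1, hos ψ₀ _ ha₀ ha₀1, one_mul, one_mul] at e e'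
  rcases le_total k m with h | h
  · exact e ha1 ha₀1 (pow_dvd_pow q h)
  · exact (e' ha₀1 ha1 (pow_dvd_pow q h)).symm

include S in
/-- There are at most two values `orbit length * degree` on the nonlinear characters. -/
theorem two_values : ∃ e₁ e₂, ∀ (ψ : IrrCharacter P) (a : ℕ),
    (ψ : P → ℂ) 1 = a → a ≠ 1 →
      os S.D.σ (ψ : P → ℂ) * a = e₁ ∨ os S.D.σ (ψ : P → ℂ) * a = e₂ := by
  by_cases hZ : S.Zc
  swap
  · obtain ⟨e, he⟩ := S.degrees_of_not_Zc hZ
    exact ⟨e, e, fun ψ a ha ha1 => Or.inl (he ψ a ha ha1)⟩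
  have hlow : ∀ (ψ : IrrCharacter P) (a : ℕ), (ψ : P → ℂ) 1 = a → a ≠ 1 →
      (∀ g ∈ gam P 2, (ψ : P → ℂ) g = (ψ : P → ℂ) 1) →
      a * a = S.D.Z0.index ∧ os S.D.σ (ψ : P → ℂ) = S.t1 := by
    intro ψ a ha ha1 hγ
    have hne : (ψ : P → ℂ) 1 ≠ 1 := fun h => ha1 (by exact_mod_cast ha.symm.trans h)
    have hker : ∀ n ∈ S.D.Z0, ∀ g : P, (ψ : P → ℂ) ⁅g, n⁆ = (ψ : P → ℂ) 1 :=
      fun n hn g => hγ _ (S.comm_Z0 hZ g hn)
    obtain ⟨ν, hν⟩ := exists_restricted S.D.Z0 (S.gam_le_Z0 le_rfl) ψ ha hker hγ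
    have hν1 : ν ≠ 1 := fun e => by
      obtain ⟨g, hg, hg'⟩ := exists_ne_of_gam_one ψ hne
      rw [hν g hg, e, val_of_mem _ hg, MonoidHom.one_apply, Units.val_one, one_mul, ha] at hg'
      exact hg' rfl
    obtain ⟨h1, h2⟩ := S.os_eq_per S.D.Z0 (S.gam_le_Z0 le_rfl) (fun n hn => S.D.apply_mem_Z0 hn)
      (fun n hn => S.exists_decomp_Z0 hn) ψ ha (fun g hg => S.D.vanish ψ hne hg) hker ν hν
    exact ⟨h1, h2.trans (S.per_one hZ hν1)⟩
  obtain ⟨ψ₁, d₁, -, -, hd₁, -⟩ := S.exists_t1 hZ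
  by_cases h2 : gam P 2 = ⊥
  · refine ⟨S.t1 * d₁, 0, fun ψ a ha ha1 => Or.inl ?_⟩
    obtain ⟨e1, e2⟩ := hlow ψ a ha ha1 fun g hg => by
      rw [h2, Subgroup.mem_bot] at hg; rw [hg]
    rw [e2, Nat.mul_self_inj.mp (e1.trans hd₁.symm)]
  obtain ⟨ν₀, hν₀⟩ := S.exists_ne_one h2
  obtain ⟨ψ₂, d₂, -, -, hd₂, -⟩ := S.exists_mid hZ hν₀
  refine ⟨S.t1 * d₁, S.per 2 ν₀ * d₂, fun ψ a ha ha1 => ?_⟩
  by_cases hγ : ∀ g ∈ gam P 2, (ψ : P → ℂ) g = (ψ : P → ℂ) 1
  · obtain ⟨e1, e2⟩ := hlow ψ a ha ha1 hγ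
    exact Or.inl (by rw [e2, Nat.mul_self_inj.mp (e1.trans hd₁.symm)])
  push Not at hγ
  have hker : ∀ n ∈ S.W3, ∀ g : P, (ψ : P → ℂ) ⁅g, n⁆ = (ψ : P → ℂ) 1 := fun n hn g => by
    obtain ⟨c, hc, v, hv, rfl⟩ := S.mem_W3 hn
    have hm : ⁅g, c * v⁆ ∈ gam P 3 := by
      rw [comm_mul_right']
      exact mul_mem (S.comm_fixed_three hZ g hc) (conj_mem_gam (comm_gam hv g) c)
    rw [S.gam_three, Subgroup.mem_bot] at hm
    rw [hm]
  have hsucc : ∀ g ∈ gam P 3, (ψ : P → ℂ) g = (ψ : P → ℂ) 1 := fun g hg => by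
    rw [S.gam_three, Subgroup.mem_bot] at hg; rw [hg]
  obtain ⟨ν, hν⟩ := exists_restricted (i := 2) S.W3 le_sup_right ψ ha hker hsucc
  have hν1 : ν ≠ 1 := fun e => by
    obtain ⟨g, hg, hg'⟩ := hγ
    rw [hν g hg, e, val_of_mem _ hg, MonoidHom.one_apply, Units.val_one, one_mul, ha] at hg'
    exact hg' rfl
  obtain ⟨e1, e2⟩ := S.os_eq_per S.W3 le_sup_right (fun n hn => S.apply_W3 hn)
    (fun n hn => S.mem_W3 hn) ψ ha (fun g hg => S.vanish_W3 hZ ψ hγ hg) hker ν hν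
  exact Or.inr (by rw [e2, Nat.mul_self_inj.mp (e1.trans hd₂.symm), S.per_two_eq hZ hν1 hν₀])

theorem el_zero_pow_sum {a b : P} (i j : ℕ) :
    el 0 (a ^ i * b ^ j) = i • el 0 a + j • el 0 b := by
  rw [el_mul (mem0 _) (mem0 _), el_pow (mem0 a), el_pow (mem0 b)]

theorem card_layer (i : ℕ) : Nat.card (layer (P := P) i) = Nat.card (Q P i) := by
  symm
  refine Nat.card_congr (Equiv.ofBijective (fun x : Q P i => (⟨el i (x.out : P), _, x.out.2, rfl⟩ :
    layer (P := P) i)) ⟨fun x y e => ?_, fun z => ?_⟩)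
  · have e' : el i (x.out : P) = el i (y.out : P) := congrArg Subtype.val e
    rw [← x.out_eq, ← y.out_eq, QuotientGroup.eq, Subgroup.mem_subgroupOf]
    refine (el_eq_zero_iff (mul_mem (inv_mem x.out.2) y.out.2)).mp ?_
    rw [el_mul (inv_mem x.out.2) y.out.2, el_inv x.out.2, e', neg_add_cancel]
  · obtain ⟨_, g, hg, rfl⟩ := z
    refine ⟨QuotientGroup.mk ⟨g, hg⟩, Subtype.ext ?_⟩
    show el i _ = el i g
    set y := (QuotientGroup.mk (⟨g, hg⟩ : gam P i) : Q P i).out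
    have hy : (y⁻¹ * ⟨g, hg⟩ : gam P i) ∈ (gam P (i + 1)).subgroupOf (gam P i) :=
      QuotientGroup.eq.mp (QuotientGroup.out_eq' _)
    rw [Subgroup.mem_subgroupOf] at hy
    have h := el_of_mem_succ hy
    rw [Subgroup.coe_mul, Subgroup.coe_inv, el_mul (inv_mem y.2) hg, el_inv y.2,
      neg_add_eq_zero] at h
    exact h

theorem card_moved : Nat.card S.moved = S.D.Z0.index := by
  have hlift : ∀ x : S.moved, ∃ r ∈ S.Rm, el 0 r = x.1 := fun x => x.2
  choose r hr he using hlift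
  refine Nat.card_congr (Equiv.ofBijective (fun x => (r x : P ⧸ S.D.Z0)) ⟨fun x y e => ?_, fun z => ?_⟩)
  · have h := S.mem_gam_one_of (mul_mem (inv_mem (hr x)) (hr y)) (QuotientGroup.eq.mp e)
    have h' := el_of_mem_succ (i := 0) h
    rw [el_mul (mem0 _) (mem0 _), el_inv (mem0 _), he, he, neg_add_eq_zero] at h'
    exact Subtype.ext h'
  · obtain ⟨k, rfl⟩ := QuotientGroup.mk_surjective z
    obtain ⟨r', hr', c, hc, w, hw, rfl⟩ := S.exists_decomp k
    refine ⟨⟨el 0 r', r', hr', rfl⟩, ?_⟩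
    rw [QuotientGroup.eq]
    set x : S.moved := ⟨el 0 r', r', hr', rfl⟩
    have hm : (r x)⁻¹ * r' ∈ gam P 1 := (el_eq_zero_iff (mem0 _)).mp (by
      rw [el_mul (mem0 _) (mem0 _), el_inv (mem0 _), he, neg_add_cancel])
    rw [mul_assoc r', ← mul_assoc]
    exact mul_mem (S.gam_le_Z0 le_rfl hm)
      (mul_mem (S.fixed_mem_Z0 hc) (S.gam_le_Z0 le_rfl hw))

theorem W3_index (hZ : S.Zc) (h2 : gam P 2 ≠ ⊥) :
    S.W3.index = S.D.Z0.index * Nat.card (Q P 1) := by
  haveI : S.W3.Normal := ⟨fun n hn g => by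
    obtain ⟨c, hc, v, hv, rfl⟩ := S.mem_W3 hn
    have hcm : ⁅g, c * v⁆ ∈ S.W3 := by
      refine Subgroup.mem_sup_right ?_
      rw [comm_mul_right']
      exact mul_mem (gam_anti (by omega) (S.comm_fixed_three hZ g hc))
        (conj_mem_gam (gam_anti (by omega) (comm_gam hv g)) c)
    rw [show g * (c * v) * g⁻¹ = ⁅g, c * v⁆ * (c * v) by simp [commutatorElement_def, mul_assoc]]
    exact mul_mem hcm hn⟩
  have hsup : gam P 1 ⊔ S.W3 = S.D.Z0 := le_antisymm (sup_le (S.gam_le_Z0 le_rfl) S.W3_le)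
    fun z hz => by
      obtain ⟨c, hc, w, hw, rfl⟩ := S.exists_decomp_Z0 hz
      exact mul_mem (Subgroup.mem_sup_right (Subgroup.mem_sup_left hc)) (Subgroup.mem_sup_left hw)
  have hinf : gam P 1 ⊓ S.W3 = gam P 2 := le_antisymm (fun g hg => by
      by_contra hg2
      exact S.notMem_W3 hZ h2 (Subgroup.mem_inf.mp hg).1 hg2 (Subgroup.mem_inf.mp hg).2)
    (le_inf (gam_anti (by omega)) le_sup_right)
  have h1 : S.W3.relIndex S.D.Z0 = Nat.card (Q P 1) := by
    rw [← hsup, Subgroup.relIndex_sup_right, ← Subgroup.inf_relIndex_right, inf_comm, hinf]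
    rfl
  rw [← Subgroup.relIndex_mul_index S.W3_le, h1, mul_comm]

/-- A prime dividing a common period. -/
theorem card_modEq_of_period {i t : ℕ} (ht : t ∣ S.D.f)
    (hper : ∀ ν : Q P i →* ℂˣ, ν ≠ 1 → S.per i ν = t) {r : ℕ} (hr : r.Prime) (hrt : r ∣ t) :
    Nat.card (Q P i) ≡ 1 [MOD r] := by
  haveI := Fact.mk hr
  have ht0 : t ≠ 0 := fun e => S.D.f_pos.ne' (Nat.eq_zero_of_zero_dvd (e ▸ ht))
  have hnd : ¬ t ∣ jOf S.D.f t r := fun e => by
    have h0 : jOf S.D.f t r ≠ 0 :=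
      mul_ne_zero (Nat.ordCompl_pos r S.D.f_pos.ne').ne' (pow_ne_zero _ hr.ne_zero)
    have h2 := (Nat.factorization_le_iff_dvd ht0 h0).mpr e r
    have h3 : (jOf S.D.f t r).factorization r = t.factorization r - 1 := by
      rw [jOf, Nat.factorization_mul (Nat.ordCompl_pos r S.D.f_pos.ne').ne' (pow_ne_zero _ hr.ne_zero),
        Finsupp.add_apply, hr.factorization_pow, Finsupp.single_eq_same,
        Nat.factorization_eq_zero_of_not_dvd (Nat.not_dvd_ordCompl hr S.D.f_pos.ne'), zero_add]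
    have h4 : 0 < t.factorization r := hr.factorization_pos_of_dvd ht0 hrt
    omega
  haveI : Finite (Q P i →* ℂˣ) := Finite.of_equiv _ (linearEquiv (G := Q P i))
  have hord : (S.dualAut i ^ jOf S.D.f t r) ^ r ^ (S.D.f.factorization r - (t.factorization r - 1)) = 1 := by
    rw [← pow_mul, jOf, mul_assoc, ← pow_add]
    have h2 := (Nat.factorization_le_iff_dvd ht0 S.D.f_pos.ne').mpr ht r
    rw [Nat.add_sub_cancel' (by omega), mul_comm, Nat.ordProj_mul_ordCompl_eq_self]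
    exact MulEquiv.ext fun μ => by
      rw [dualAut_pow]
      exact MonoidHom.ext fun x => by rw [MonoidHom.comp_apply, S.sQ_eq_self S.hper]; rfl
  have hfp : ∀ ν : Q P i →* ℂˣ, (S.dualAut i ^ jOf S.D.f t r) ν = ν → ν = 1 := fun ν hν => by
    by_contra h1
    rw [dualAut_pow] at hν
    have e := (S.per_dvd_iff ν (jOf S.D.f t r)).mpr fun x => DFunLike.congr_fun hν x
    rw [hper ν h1] at e
    exact hnd e
  have := card_modEq_one (Λ := Q P i →* ℂˣ) (S.dualAut i ^ jOf S.D.f t r) (p := r) hord hfp ⊤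
    fun _ _ => Subgroup.mem_top _
  rwa [Subgroup.card_top, card_hom_units] at this

theorem prime_dvd_f {r : ℕ} (hr : r.Prime) (hrf : r ∣ S.D.f) : Nat.card S.moved ≡ 1 [MOD r] := by
  haveI := Fact.mk hr
  haveI := S.finite_moved
  set j := S.D.f / r with hj
  have hjf : ¬ S.D.f ∣ j := fun e => by
    have h1 := Nat.div_lt_self S.D.f_pos hr.one_lt
    have h2 := Nat.le_of_dvd (Nat.div_pos (Nat.le_of_dvd S.D.f_pos hrf) hr.pos) e
    omega
  set τ := S.D.σ ^ j with hτ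
  have hτf : τ ^ r ^ 1 = 1 := by rw [hτ, ← pow_mul, pow_one, hj, Nat.div_mul_cancel hrf, S.hper]
  let e0 : S.moved →+ S.moved := AddMonoidHom.mk' (fun x => ⟨grMap τ x.1, by
    obtain ⟨g, hg, e⟩ := x.2
    exact ⟨τ g, S.apply_Rm hg j, by rw [← e, grMap_el τ (mem0 g)]⟩⟩)
    fun a b => Subtype.ext (map_add _ _ _)
  have hfix : ∀ x : S.moved, e0 x = x → x = 0 := by
    rintro ⟨_, g, hg, rfl⟩ hx
    have h1 : grMap τ (el 0 g) = el 0 g := congrArg Subtype.val hx
    rw [grMap_el τ (mem0 g)] at h1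
    have h2 : g⁻¹ * τ g ∈ gam P 1 := (el_eq_zero_iff (mem0 _)).mp (by
      rw [el_mul (mem0 _) (mem0 _), el_inv (mem0 _), h1, neg_add_cancel])
    exact Subtype.ext ((S.el_zero_eq hg).mpr
      (S.D.mem_Z0_of_fixed hjf (S.gam_le_Z0 le_rfl h2)))
  have hinj : Function.Injective e0 := by
    rw [injective_iff_map_eq_zero]
    rintro ⟨_, g, hg, rfl⟩ hx
    have h1 : grMap τ (el 0 g) = 0 := congrArg Subtype.val hx
    rw [grMap_el τ (mem0 g)] at h1
    have h2 : g ∈ gam P 1 := by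
      have h3 := S.apply_gam ((el_eq_zero_iff (mem0 _)).mp h1) (j * (r - 1))
      rwa [hτ, ← MulAut.mul_apply, ← pow_add, ← Nat.mul_add_one, Nat.sub_add_cancel hr.one_le,
        hj, Nat.div_mul_cancel hrf, S.hper, MulAut.one_apply] at h3
    exact Subtype.ext (el_of_mem_succ h2)
  let E : MulAut (Multiplicative S.moved) := MulEquiv.ofBijective (AddMonoidHom.toMultiplicative e0)
    ⟨hinj, Finite.surjective_of_injective hinj⟩
  have hE : ∀ (k : ℕ) (g : P) (hg : g ∈ S.Rm),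
      (Multiplicative.toAdd ((E ^ k) (Multiplicative.ofAdd ⟨el 0 g, g, hg, rfl⟩))).1 =
        el 0 ((τ ^ k) g) := by
    intro k g hg
    induction k with
    | zero => rfl
    | succ k ih =>
      rw [pow_succ', MulAut.mul_apply, pow_succ', MulAut.mul_apply]
      show grMap τ _ = _
      rw [ih, grMap_el τ (mem0 _)]
  have h1 : E ^ r ^ 1 = 1 := MulEquiv.ext fun x => by
    obtain ⟨_, g, hg, rfl⟩ := x
    refine Multiplicative.toAdd.injective (Subtype.ext ?_)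
    refine (hE _ g hg).trans ?_
    rw [hτf]; rfl
  have := card_modEq_one E h1 (fun a ha => Multiplicative.toAdd.injective
    (hfix _ (congrArg Multiplicative.toAdd ha))) ⊤ fun _ _ => Subgroup.mem_top _
  rw [Subgroup.card_top] at this
  exact (Nat.card_congr Multiplicative.ofAdd).symm ▸ this

/-- Two elements independent modulo `Z0`. -/
def Indep (a b : P) : Prop := ∀ i j : ℕ, a ^ i * b ^ j ∈ S.D.Z0 → q ∣ i ∧ q ∣ j

theorem indep_of_not_span [Module (ZMod q) S.moved] {x y : S.moved} (hx : x ≠ 0)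
    (hy : y ∉ Submodule.span (ZMod q) {x}) {a b : P} (ha : a ∈ S.Rm) (hb : b ∈ S.Rm)
    (hea : el 0 a = x.1) (heb : el 0 b = y.1) : S.Indep a b := by
  intro i j hij
  have h1 : el 0 (a ^ i * b ^ j) = 0 :=
    (S.el_zero_eq (mul_mem (pow_mem ha i) (pow_mem hb j))).mpr hij
  rw [el_zero_pow_sum, hea, heb] at h1
  have h2 : (i : ZMod q) • x + (j : ZMod q) • y = 0 := by
    rw [Nat.cast_smul_eq_nsmul, Nat.cast_smul_eq_nsmul]
    exact Subtype.ext h1
  have hj : (j : ZMod q) = 0 := by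
    by_contra hj
    refine hy (Submodule.mem_span_singleton.mpr ⟨-((j : ZMod q)⁻¹ * i), ?_⟩)
    have := congrArg (fun z => (j : ZMod q)⁻¹ • z) h2
    simp only [smul_add, smul_smul, inv_mul_cancel₀ hj, one_smul, smul_zero] at this
    rw [neg_smul, neg_eq_iff_add_eq_zero]
    exact this
  rw [hj, zero_smul, add_zero, smul_eq_zero] at h2
  exact ⟨(CharP.cast_eq_zero_iff (ZMod q) q i).mp (h2.resolve_right hx),
    (CharP.cast_eq_zero_iff (ZMod q) q j).mp hj⟩

/-- Three elements independent modulo `Z0`. -/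
def Indep₃ (a b d : P) : Prop :=
  ∀ i j k : ℕ, a ^ i * b ^ j * d ^ k ∈ S.D.Z0 → q ∣ i ∧ q ∣ j ∧ q ∣ k

theorem indep₃_of_linearIndependent [Module (ZMod q) S.moved] {v : Fin 3 → S.moved}
    (hv : LinearIndependent (ZMod q) v) {a b d : P} (ha : a ∈ S.Rm) (hb : b ∈ S.Rm) (hd : d ∈ S.Rm)
    (hea : el 0 a = (v 0).1) (heb : el 0 b = (v 1).1) (hed : el 0 d = (v 2).1) :
    S.Indep₃ a b d := by
  intro i j k h
  have h1 : el 0 (a ^ i * b ^ j * d ^ k) = 0 :=
    (S.el_zero_eq (mul_mem (mul_mem (pow_mem ha i) (pow_mem hb j)) (pow_mem hd k))).mpr h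
  rw [el_mul (mem0 _) (mem0 _), el_zero_pow_sum, el_pow (mem0 d), hea, heb, hed] at h1
  have h2 : ∑ l, (![(i : ZMod q), j, k] l) • v l = 0 := by
    simp only [Fin.sum_univ_three, Matrix.cons_val_zero, Matrix.cons_val_one, Matrix.cons_val_two,
      Matrix.head_cons, Matrix.tail_cons, Nat.cast_smul_eq_nsmul]
    exact Subtype.ext h1
  have h3 := Fintype.linearIndependent_iff.mp hv _ h2
  exact ⟨(CharP.cast_eq_zero_iff (ZMod q) q i).mp (h3 0),
    (CharP.cast_eq_zero_iff (ZMod q) q j).mp (h3 1), (CharP.cast_eq_zero_iff (ZMod q) q k).mp (h3 2)⟩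

/-- A central element of exponent `q`. -/
def CentralQ (w : P) : Prop := (∀ x : P, x * w = w * x) ∧ w ^ q = 1

include S in
theorem centralQ_of_mem {i : ℕ} (h : gam P (i + 2) = ⊥) {w : P} (hw : w ∈ gam P (i + 1)) :
    CentralQ (q := q) w := by
  refine ⟨fun x => commutatorElement_eq_one_iff_mul_comm.mp (Subgroup.mem_bot.mp (h ▸ comm_gam hw x)), ?_⟩
  rw [← Subgroup.mem_bot, ← h]
  exact (el_eq_zero_iff (pow_mem hw q)).mp (by rw [el_pow hw, S.nsmul_el hw])

set_option maxHeartbeats 1000000 in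
include S in
theorem pairs_aux [Module (ZMod q) S.moved] [Module (ZMod q) (layer (P := P) 1)]
    [Module (ZMod q) (layer (P := P) 2)] :
    (∃ (ψ : IrrCharacter P) (d : ℕ), (ψ : P → ℂ) 1 = d ∧ d ≠ 1 ∧ d * d = S.D.Z0.index ∧
      os S.D.σ (ψ : P → ℂ) = 1) ∨
    (∃ a b, S.Indep a b ∧ ⁅a, b⁆ = 1) ∨
    (q ≠ 2 ∧ ∃ a b, S.Indep a b ∧ CentralQ (q := q) ⁅a, b⁆) ∨
    (q = 2 ∧ ∃ a b d, S.Indep₃ a b d ∧ CentralQ (q := q) ⁅a, b⁆ ∧ CentralQ (q := q) ⁅a, d⁆ ∧
      CentralQ (q := q) ⁅b, d⁆) := by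
  haveI := S.finite_moved
  haveI := finite_layer (P := P) 1
  haveI := finite_layer (P := P) 2
  have hq : q.Prime := Fact.out
  obtain ⟨r₀, hr₀, hr₀Z⟩ := S.exists_Rm_notMem
  set a₀ : S.moved := ⟨el 0 r₀, r₀, hr₀, rfl⟩
  have ha₀ : a₀ ≠ 0 := fun e => hr₀Z ((S.el_zero_eq hr₀).mp (congrArg Subtype.val e))
  haveI : Nontrivial S.moved := ⟨a₀, 0, ha₀⟩
  haveI : Nontrivial (layer (P := P) 1) := by
    obtain ⟨g, hg, hg'⟩ := Set.not_subset.mp (S.gam_succ_lt (i := 1) S.hne)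
    exact ⟨⟨el 1 g, g, hg, rfl⟩, 0, fun e => hg' ((el_eq_zero_iff hg).mp (congrArg Subtype.val e))⟩
  by_cases h2 : gam P 2 = ⊥
  · -- class two
    have hcen : ∀ a b : P, CentralQ (q := q) ⁅a, b⁆ := fun a b =>
      S.centralQ_of_mem (i := 0) h2 (comm_gam_one a b)
    have hA : finrank (ZMod q) (layer (P := P) 1) + finrank (ZMod q) (layer (P := P) 1) ≤
        finrank (ZMod q) S.moved :=
      two_mul_finrank_le S.cMap (fun a => Subtype.ext (by rw [cMap_apply]; exact br_self _))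
        S.cMap_surj
    have hU1 : 0 < finrank (ZMod q) (layer (P := P) 1) := Module.finrank_pos
    obtain ⟨y, hy⟩ : ∃ y, y ∉ Submodule.span (ZMod q) {a₀} := by
      by_contra h
      push Not at h
      have := finrank_span_singleton (K := ZMod q) ha₀
      rw [Submodule.eq_top_iff'.mpr h, finrank_top] at this
      omega
    obtain ⟨_, r₁, hr₁, rfl⟩ := y
    have hind : S.Indep r₀ r₁ := S.indep_of_not_span ha₀ hy hr₀ hr₁ rfl rfl
    by_cases hq2 : q = 2
    swap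
    · exact Or.inr (Or.inr (Or.inl ⟨hq2, r₀, r₁, hind, hcen _ _⟩))
    by_cases h3 : 3 ≤ finrank (ZMod q) S.moved
    · obtain ⟨v, hv⟩ : ∃ v : Fin 3 → S.moved, LinearIndependent (ZMod q) v :=
        exists_linearIndependent_of_le_finrank h3
      obtain ⟨a, ha, hea⟩ := (v 0).2
      obtain ⟨b, hb, heb⟩ := (v 1).2
      obtain ⟨d, hd, hed⟩ := (v 2).2
      exact Or.inr (Or.inr (Or.inr ⟨hq2, a, b, d,
        S.indep₃_of_linearIndependent hv ha hb hd hea heb hed, hcen _ _, hcen _ _, hcen _ _⟩))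
    have hU : finrank (ZMod q) (layer (P := P) 1) = 1 := by omega
    have hcard : Nat.card (Q P 1) = 2 := by
      rw [← card_layer, finrank_card (q := q), hU, pow_one, hq2]
    have huniq : ∀ g ∈ gam P 1, ∀ g' ∈ gam P 1, g ∉ gam P 2 → g' ∉ gam P 2 → el 1 g = el 1 g' := by
      intro g hg g' hg' hn hn'
      obtain ⟨z, -, huniv⟩ := (Nat.card_eq_two_iff' (0 : layer (P := P) 1)).mp
        (by rw [card_layer, hcard])
      have e1 := huniv ⟨el 1 g, g, hg, rfl⟩ fun e => hn ((el_eq_zero_iff hg).mp (congrArg Subtype.val e))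
      have e2 := huniv ⟨el 1 g', g', hg', rfl⟩
        fun e => hn' ((el_eq_zero_iff hg').mp (congrArg Subtype.val e))
      exact congrArg Subtype.val (e1.trans e2.symm)
    by_cases hZ : S.Zc
    · obtain ⟨ψ, d, hd, hd1, hsq, hos⟩ := S.exists_t1 hZ
      refine Or.inl ⟨ψ, d, hd, hd1, hsq, hos.trans ?_⟩
      obtain ⟨ν, hν⟩ := S.exists_ne_one (i := 1) S.hne
      rw [← S.per_one hZ hν]
      refine Nat.dvd_one.mp ((S.per_dvd_iff ν 1).mpr (S.fix_of_val fun g hg => ?_))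
      by_cases hg2 : g ∈ gam P 2
      · rw [val_succ ν (S.apply_gam hg2 1), val_succ ν hg2]
      · refine val_eq_of_el ν (S.apply_gam hg 1) hg (huniq _ (S.apply_gam hg 1) g hg (fun h => hg2 ?_) hg2)
        rw [h2, Subgroup.mem_bot] at h ⊢
        exact (S.D.σ ^ 1).injective (h.trans (map_one _).symm)
    · simp only [Zc] at hZ
      push Not at hZ
      obtain ⟨z, hz, z', hz', hne⟩ := hZ
      obtain ⟨c, hc, w, hw, hzc⟩ := S.exists_decomp_Z0 hz
      obtain ⟨c', hc', w', hw', hzc'⟩ := S.exists_decomp_Z0 hz'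
      -- a commuting pair
      have hrr : ⁅r₀, r₁⁆ ∉ gam P 2 := by
        intro h
        obtain ⟨a, ha⟩ := exists_ne (0 : layer (P := P) 1)
        obtain ⟨b, hb⟩ := S.cMap_surj a₀ ha₀ a
        have hspan : b ∈ Submodule.span (ZMod q) {a₀, (⟨el 0 r₁, r₁, hr₁, rfl⟩ : S.moved)} := by
          have hli : LinearIndependent (ZMod q) ![a₀, (⟨el 0 r₁, r₁, hr₁, rfl⟩ : S.moved)] :=
            (LinearIndependent.pair_iff' ha₀).mpr fun t ht => hy (Submodule.mem_span_singleton.mpr ⟨t, ht⟩)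
          have := hli.span_eq_top_of_card_eq_finrank (by simp only [Fintype.card_fin]; omega)
          rw [Matrix.range_cons_cons_empty] at this
          rw [this]
          exact Submodule.mem_top
        obtain ⟨s, t, rfl⟩ := Submodule.mem_span_pair.mp hspan
        refine ha ?_
        rw [← hb, map_add, map_smul, map_smul,
          show S.cMap a₀ a₀ = 0 from Subtype.ext (by rw [cMap_apply]; exact br_self _),
          show S.cMap a₀ ⟨el 0 r₁, r₁, hr₁, rfl⟩ = 0 from Subtype.ext (by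
            rw [cMap_apply]
            show br P (el 0 r₀) (el 0 r₁) = 0
            rw [br00, el_of_mem_succ h]),
          smul_zero, smul_zero, add_zero]
      have hcc : ⁅c, c'⁆ ∉ gam P 2 := fun h => hne ((el_eq_zero_iff (comm_gam_one z z')).mp (by
        rw [el_comm_fixed hw hw' hzc hzc', el_of_mem_succ h]))
      refine Or.inr (Or.inl ⟨r₀ * c, r₁ * c', fun i j hij => hind i j ?_, ?_⟩)
      · have hcz := S.fixed_mem_Z0 hc
        have hcz' := S.fixed_mem_Z0 hc'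
        rw [← QuotientGroup.eq_one_iff] at hij hcz hcz' ⊢
        simp only [QuotientGroup.mk_mul, QuotientGroup.mk_pow, hcz, hcz', mul_one] at hij ⊢
        exact hij
      · have h01 : ∀ r c : P, r ∈ S.Rm → S.D.σ c = c → el 1 ⁅r, c⁆ = 0 := fun r c hr hc =>
          el_of_mem_succ (S.comm_Rm_Z0 hr (S.fixed_mem_Z0 hc))
        have e : el 1 ⁅r₀ * c, r₁ * c'⁆ = 0 := by
          rw [← br00, el_mul (mem0 _) (mem0 _), el_mul (mem0 _) (mem0 _)]
          simp only [map_add, AddMonoidHom.add_apply, br00]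
          rw [h01 r₀ c' hr₀ hc', ← commutatorElement_inv r₁ c, el_inv (comm_gam_one r₁ c),
            h01 r₁ c hr₁ hc, huniq _ (comm_gam_one c c') _ (comm_gam_one r₀ r₁) hcc hrr, neg_zero,
            add_zero, zero_add]
          have hex := S.nsmul_el (i := 0) (comm_gam_one r₀ r₁)
          rw [hq2, two_nsmul] at hex
          exact hex
        have := (el_eq_zero_iff (comm_gam_one _ _)).mp e
        rwa [h2, Subgroup.mem_bot] at this
  · -- class three
    have hZ : S.Zc := by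
      by_contra hZ
      exact h2 (S.of_not_Zc hZ).1
    have h3 := S.gam_three
    haveI : Nontrivial (layer (P := P) 2) := by
      obtain ⟨g, hg, hg'⟩ := Set.not_subset.mp (S.gam_succ_lt h2)
      exact ⟨⟨el 2 g, g, hg, rfl⟩, 0, fun e => hg' ((el_eq_zero_iff hg).mp (congrArg Subtype.val e))⟩
    let Al := S.alg hZ h2
    have hAU := Al.finrank_A
    set n := finrank (ZMod q) (layer (P := P) 1) with hn
    have hn0 : 0 < n := Module.finrank_pos
    obtain ⟨ν₀, hν₀⟩ := S.exists_ne_one h2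
    obtain ⟨ψ₂, d₂, hd₂', -, hd₂, hos₂⟩ := S.exists_mid hZ hν₀
    have heven : Even n := by
      obtain ⟨k, rfl⟩ := degree_pow ψ₂ hd₂' S
      rw [S.W3_index hZ h2, ← S.card_moved, ← card_layer, finrank_card (q := q),
        finrank_card (q := q), ← pow_add, ← pow_add, hAU] at hd₂
      have := Nat.pow_right_injective hq.two_le hd₂
      exact ⟨k - n, by omega⟩
    have hn2 : 2 ≤ n := by
      obtain ⟨m, hm⟩ := heven
      omega
    have hcen : ∀ a b : P, el 1 ⁅a, b⁆ = 0 → CentralQ (q := q) ⁅a, b⁆ := fun a b h =>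
      S.centralQ_of_mem (i := 1) h3 ((el_eq_zero_iff (comm_gam_one a b)).mp h)
    obtain ⟨μ, hμ⟩ : ∃ μ : Dual (ZMod q) (layer (P := P) 2), μ ≠ 0 := exists_ne 0
    set I : Submodule (ZMod q) S.moved := Al.ker₃ μ with hIdef


    have hI : finrank (ZMod q) ↥I = n := by
      have := Al.finrank_ker₃ hμ
      rw [← hIdef] at this
      omega
    have hiso : ∀ x ∈ I, ∀ y ∈ I, br P x.1 y.1 = 0 := fun x hx y hy => by
      have h1 : S.cMap x y = 0 := Al.ker₃_isotropic μ hμ x hx y hy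
      have := congrArg Subtype.val h1
      rwa [cMap_apply] at this
    by_cases hq2 : q = 2
    swap
    · obtain ⟨v, hv⟩ : ∃ v : Fin 2 → I, LinearIndependent (ZMod q) v :=
        exists_linearIndependent_of_le_finrank (by omega)
      have hv' : LinearIndependent (ZMod q) fun i => ((v i : S.moved)) :=
        hv.map' (I).subtype (Submodule.ker_subtype _)
      obtain ⟨a, ha, hea⟩ := (v 0 : S.moved).2
      obtain ⟨b, hb, heb⟩ := (v 1 : S.moved).2
      have hne : (v 0 : S.moved) ≠ 0 := hv'.ne_zero 0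
      have hsp : (v 1 : S.moved) ∉ Submodule.span (ZMod q) {(v 0 : S.moved)} := fun h => by
        obtain ⟨t, ht⟩ := Submodule.mem_span_singleton.mp h
        have h0 := Fintype.linearIndependent_iff.mp hv' ![t, -1] (by
          simp only [Fin.sum_univ_two, Matrix.cons_val_zero, Matrix.cons_val_one, neg_smul,
            one_smul, ht, add_neg_cancel]) 1
        simp at h0
      refine Or.inr (Or.inr (Or.inl ⟨hq2, a, b, S.indep_of_not_span hne hsp ha hb hea heb, ?_⟩))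
      refine hcen a b ?_
      rw [← br00, hea, heb]
      exact hiso _ (v 0).2 _ (v 1).2
    have hn4 : n ≠ 2 := by
      intro hn2'
      subst hq2
      have hU : Nat.card (Q P 1) = 4 := by
        rw [← card_layer, finrank_card (q := 2), ← hn, hn2']; rfl
      have hA : Nat.card S.moved = 16 := by rw [finrank_card (q := 2), hAU, hn2']; rfl
      obtain ⟨ψ₁, d₁, -, -, -, hos₁⟩ := S.exists_t1 hZ
      have ht1f : S.t1 ∣ S.D.f := hos₁ ▸ S.D.os_dvd (isClassFunction_irr ψ₁)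
      have ht3f : S.per 2 ν₀ ∣ S.D.f := hos₂ ▸ S.D.os_dvd (isClassFunction_irr ψ₂)
      have hsmall : ∀ r : ℕ, r.Prime → r ∣ S.D.f → r = 3 ∨ r = 5 := fun r hr hrf => by
        have h := (Nat.modEq_iff_dvd' (by omega)).mp (hA ▸ S.prime_dvd_f hr hrf).symm
        have h15 : r ≤ 15 := Nat.le_of_dvd (by norm_num) h
        have h15' : r ∣ 15 := h
        interval_cases r <;> norm_num at hr <;> omega
      have h31 : ∀ r : ℕ, r.Prime → r ∣ S.t1 → r = 3 := fun r hr hrt => by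
        have h := (Nat.modEq_iff_dvd' (by omega)).mp (hU ▸ S.card_modEq_of_period ht1f
          (fun ν hν => S.per_one hZ hν) hr hrt).symm
        have h' : r ∣ 3 := h
        rcases (Nat.dvd_prime Nat.prime_three).mp h' with h1 | h1
        · exact absurd h1 hr.ne_one
        · exact h1
      have h33 : ∀ r : ℕ, r.Prime → r ∣ S.per 2 ν₀ → r = 3 := fun r hr hrt => by
        have hl : Nat.card (Q P 2) = 2 ^ finrank (ZMod 2) (layer (P := P) 2) := by
          rw [← card_layer, finrank_card (q := 2)]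
        have hV := Al.finrank_V_lt
        rw [hAU, hn2'] at hV
        have hmod := hl ▸ S.card_modEq_of_period ht3f (fun ν hν => S.per_two_eq hZ hν hν₀) hr hrt
        have hm := (Nat.modEq_iff_dvd' (Nat.one_le_two_pow)).mp hmod.symm
        have hl0 : 0 < finrank (ZMod 2) (layer (P := P) 2) := Module.finrank_pos
        rcases hsmall r hr (hrt.trans ht3f) with h | h
        · exact h
        · subst h
          interval_cases hk : finrank (ZMod 2) (layer (P := P) 2) <;> norm_num at hm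
      obtain ⟨a, ha⟩ : ∃ a, S.t1 = 3 ^ a := ⟨_, Nat.eq_prime_pow_of_unique_prime_dvd
        (fun e => S.D.f_pos.ne' (Nat.eq_zero_of_zero_dvd (e ▸ ht1f))) fun {d} hd hdd => h31 d hd hdd⟩
      obtain ⟨b, hb⟩ : ∃ b, S.per 2 ν₀ = 3 ^ b := ⟨_, Nat.eq_prime_pow_of_unique_prime_dvd
        (S.per_pos ν₀).ne' fun {d} hd hdd => h33 d hd hdd⟩
      rcases le_total a b with hab | hab
      · -- the character over `ν₀` would be fixed by the first stabiliser
        have hdvd : S.t1 ∣ S.per 2 ν₀ := by rw [ha, hb]; exact pow_dvd_pow 3 hab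
        obtain ⟨ψ, d, hd, hd1, -, hfix, -⟩ := S.exists_nontrivial hZ hν₀
        refine hν₀ (S.eq_one_of_fix_two' hZ ((S.per_dvd_iff ν₀ _).mp dvd_rfl) (fun h => ?_) hdvd)
        exact S.D.not_f_dvd_os ψ hd hd1 (h.trans ((S.per_dvd_iff ν₀ _).mpr (hfix _ dvd_rfl)))
      · have hdvd : S.per 2 ν₀ ∣ S.t1 := by rw [ha, hb]; exact pow_dvd_pow 3 hab
        exact hν₀ (S.eq_one_of_fix_two' hZ ((S.per_dvd_iff ν₀ _).mp hdvd) (S.not_f_dvd_t1 hZ) dvd_rfl)
    obtain ⟨v, hv⟩ : ∃ v : Fin 3 → I, LinearIndependent (ZMod q) v :=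
      exists_linearIndependent_of_le_finrank (by obtain ⟨m, hm⟩ := heven; omega)
    have hv' : LinearIndependent (ZMod q) fun i => ((v i : S.moved)) :=
      hv.map' (I).subtype (Submodule.ker_subtype _)
    obtain ⟨a, ha, hea⟩ := (v 0 : S.moved).2
    obtain ⟨b, hb, heb⟩ := (v 1 : S.moved).2
    obtain ⟨d, hd, hed⟩ := (v 2 : S.moved).2
    refine Or.inr (Or.inr (Or.inr ⟨hq2, a, b, d,
      S.indep₃_of_linearIndependent hv' ha hb hd hea heb hed, hcen a b ?_, hcen a d ?_, hcen b d ?_⟩))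
    · rw [← br00, hea, heb]; exact hiso _ (v 0).2 _ (v 1).2
    · rw [← br00, hea, hed]; exact hiso _ (v 0).2 _ (v 2).2
    · rw [← br00, heb, hed]; exact hiso _ (v 1).2 _ (v 2).2

include S in
/-- Either there is a character of smallest degree fixed by `σ`, or there are commuting pairs. -/
theorem pairs :
    (∃ (ψ : IrrCharacter P) (d : ℕ), (ψ : P → ℂ) 1 = d ∧ d ≠ 1 ∧ d * d = S.D.Z0.index ∧
      os S.D.σ (ψ : P → ℂ) = 1) ∨
    (∃ a b, S.Indep a b ∧ ⁅a, b⁆ = 1) ∨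
    (q ≠ 2 ∧ ∃ a b, S.Indep a b ∧ CentralQ (q := q) ⁅a, b⁆) ∨
    (q = 2 ∧ ∃ a b d, S.Indep₃ a b d ∧ CentralQ (q := q) ⁅a, b⁆ ∧ CentralQ (q := q) ⁅a, d⁆ ∧
      CentralQ (q := q) ⁅b, d⁆) :=
  @pairs_aux _ _ _ _ _ S (AddCommGroup.zmodModule S.nsmul_moved)
    (AddCommGroup.zmodModule (S.nsmul_layer 0)) (AddCommGroup.zmodModule (S.nsmul_layer 1))

end QOp

end CfsgLib.NDDeg
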