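import Cfsg.Agent.Lib.NDDeg.Base
import Cfsg.Agent.Lib.NDDeg.NilTop
import Cfsg.Agent.Lib.NDDeg.Cyc

/-!
# A prime of the moved part dividing the derived subgroup
-/

set_option autoImplicit false
set_option linter.style.haveILetI false
set_option linter.unusedSectionVars false

namespace CfsgLib.NDDeg

open Cfsg CfsgLib.Char CfsgLib.NDTwoComp
open scoped ComplexConjugate CfsgLib.Char commutatorElement

universe u

variable {G : Type u} [Group G] [Finite G]

theorem pow_mul_swap {P : Type*} [Group P] {a b w : P} (h : a * b = b * a * w)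
    (hw : ∀ x : P, Commute x w) : ∀ i : ℕ, a ^ i * b = b * a ^ i * w ^ i := by
  intro i
  induction i with
  | zero => simp
  | succ i ih =>
    calc a ^ (i + 1) * b = a * (a ^ i * b) := by rw [pow_succ', mul_assoc]
      _ = a * b * (a ^ i * w ^ i) := by rw [ih]; group
      _ = b * a * (w * a ^ i) * w ^ i := by rw [h]; group
      _ = b * a * (a ^ i * w) * w ^ i := by rw [(hw (a ^ i)).eq]
      _ = b * (a * a ^ i) * (w * w ^ i) := by simp only [mul_assoc]
      _ = b * a ^ (i + 1) * w ^ (i + 1) := by rw [← pow_succ', ← pow_succ']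

namespace Frame

variable (F : Frame G)

/-- Another generator of the cyclic quotient. -/
noncomputable def pow (hnd : NoDivDeg G) (m : ℕ) (hm : m.Coprime F.K.index) : Frame G where
  K := F.K
  normal := F.normal
  c := F.c ^ m
  le := F.le
  gen g := by
    obtain ⟨i, k, hk, rfl⟩ := F.gen g
    haveI := F.normal
    obtain ⟨j, -, hj⟩ := Nat.exists_mul_mod_eq_one_of_coprime hm F.one_lt
    refine ⟨i * j, k * F.c ^ i * ((F.c ^ m) ^ (i * j))⁻¹, ?_, by rw [inv_mul_cancel_right]⟩
    rw [← QuotientGroup.eq_one_iff]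
    have h1 : (F.c : G ⧸ F.K) ^ F.K.index = 1 := by
      rw [← QuotientGroup.mk_pow, QuotientGroup.eq_one_iff]; exact F.pow_index_mem
    have h2 : (F.c : G ⧸ F.K) ^ (m * j) = F.c := by
      conv_lhs => rw [← Nat.mod_add_div (m * j) F.K.index, hj]
      rw [pow_add, pow_one, pow_mul, h1, one_pow, mul_one]
    simp only [QuotientGroup.mk_mul, QuotientGroup.mk_inv, QuotientGroup.mk_pow,
      (QuotientGroup.eq_one_iff k).mpr hk, one_mul]
    rw [← pow_mul, mul_inv_eq_one, show m * (i * j) = m * j * i by ring, pow_mul _ (m * j), h2]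
  one_lt := F.one_lt
  deg := F.deg
  moves := by
    haveI := F.normal
    obtain ⟨μ, hμ⟩ := F.exists_full hnd
    refine ⟨μ, ?_⟩
    by_contra h
    push Not at h
    have h1 : os F.σ (fun k => (μ k : ℂ)) ∣ m := (os_dvd_iff _ _ _).mpr fun k => by
      rw [σ, ← map_pow, h k]
    rw [hμ] at h1
    exact F.one_lt.ne' (Nat.eq_one_of_dvd_coprimes hm h1 dvd_rfl)
  noQuot := F.noQuot

theorem not_dvd_of_coprime {m : ℕ} (hm : m.Coprime F.K.index) : ¬ F.K.index ∣ m := fun h =>
  F.one_lt.ne' (Nat.eq_one_of_dvd_coprimes hm h dvd_rfl)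

theorem Z0_pow (hnd : NoDivDeg G) (m : ℕ) (hm : m.Coprime F.K.index) :
    ((F.pow hnd m hm).op hnd).Z0 = (F.op hnd).Z0 := by
  have hσ : (((F.pow hnd m hm).op hnd).σ : MulAut F.K) = (F.op hnd).σ ^ m :=
    (map_pow (MulAut.conjNormal (H := F.K)) F.c m).trans rfl
  have hk := (F.op hnd).ker_eq (j := m) (F.not_dvd_of_coprime hm)
  refine Subgroup.ext fun (k : F.K) => ?_
  refine (Op.mem_Z0 _).trans (Iff.trans ?_ (Op.mem_Z0 _).symm)
  have h := SetLike.ext_iff.mp hk (Abelianization.of k)
  rw [Op.mem_ker_dlHom, Op.mem_ker_dlHom, pow_one, Abelianization.map_of, Abelianization.map_of] at h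
  have e : ((F.pow hnd m hm).op hnd).σ k = ((F.op hnd).σ ^ m) k := DFunLike.congr_fun hσ k
  exact (Iff.of_eq (congrArg (fun y : F.K => Abelianization.of y = Abelianization.of k) e)).trans h

/-- The core of the case where the top quotient is a `q`-group. -/
theorem bounds_qgroup (hnd : NoDivDeg G) [Group.IsSolvable G] {q : ℕ} [hq : Fact q.Prime]
    (hqA : q ∣ (F.op hnd).Z0.index) (H : Subgroup F.K) [H.Normal] (hcop : (Nat.card H).Coprime q)
    {n : ℕ} (hidx : H.index = q ^ n) (hnab : ¬ commutator F.K ≤ H)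
    (hl : (⟨_, F.pow_index_mem⟩ : F.K) ∈ H) : Bounds G := by
  classical
  set D := F.op hnd with hD
  have hqf : ¬ q ∣ F.K.index := fun h =>
    hq.out.not_dvd_one (D.coprime_index.gcd_eq_one ▸ Nat.dvd_gcd hqA h)
  let mk : F.K →* F.K ⧸ H := QuotientGroup.mk' H
  have hmem : ∀ k : F.K, k ^ Nat.card H = 1 → k ∈ H := fun k hk => by
    rw [← QuotientGroup.eq_one_iff]
    have h1 : (k : F.K ⧸ H) ^ Nat.card H = 1 := by rw [← QuotientGroup.mk_pow, hk, QuotientGroup.mk_one]
    have h2 : (k : F.K ⧸ H) ^ q ^ n = 1 := by rw [← hidx]; exact pow_card_eq_one'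
    have := pow_gcd_eq_one.mpr ⟨h1, h2⟩
    rwa [(hcop.pow_right n : Nat.Coprime (Nat.card H) (q ^ n)), pow_one] at this
  have hHpow : ∀ h ∈ H, h ^ Nat.card H = 1 := fun h hh =>
    congrArg Subtype.val (pow_card_eq_one' (x := (⟨h, hh⟩ : H)))
  have hσH : ∀ h ∈ H, F.σ h ∈ H := fun h hh => hmem _ (by rw [← map_pow, hHpow h hh, map_one])
  -- the quotient
  have hmapeq : H.map F.σ.toMonoidHom = H := by
    refine Subgroup.eq_of_le_of_card_ge ?_ (le_of_eq ?_)
    · rintro _ ⟨h, hh, rfl⟩; exact hσH h hh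
    · exact Nat.card_congr (Subgroup.equivMapOfInjective H _ F.σ.injective).toEquiv
  let τ : MulAut (F.K ⧸ H) := QuotientGroup.congr H H F.σ hmapeq
  have hτ : ∀ (j : ℕ) (k : F.K), (τ ^ j) (mk k) = mk ((F.σ ^ j) k) := by
    intro j
    induction j with
    | zero => intro k; simp
    | succ j ih => intro k; rw [pow_succ', MulAut.mul_apply, ih, pow_succ', MulAut.mul_apply]; rfl
  have hinner : ∀ x, (τ ^ F.K.index) x = 1 * x * 1⁻¹ := fun x => by
    obtain ⟨k, rfl⟩ := QuotientGroup.mk'_surjective H x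
    rw [hτ, F.inner, map_mul, map_mul, map_inv,
      show mk ⟨_, F.pow_index_mem⟩ = 1 from (QuotientGroup.eq_one_iff _).mpr hl]
  have hos : ∀ f : F.K ⧸ H → ℂ, os τ f = os F.σ (fun k => f (mk k)) := fun f => by
    refine Nat.dvd_antisymm ((os_dvd_iff _ _ _).mpr fun x => ?_) ((os_dvd_iff _ _ _).mpr fun k => ?_)
    · obtain ⟨k, rfl⟩ := QuotientGroup.mk'_surjective H x
      have := (os_dvd_iff F.σ (fun k => f (mk k)) _).mp dvd_rfl k
      rwa [hτ]
    · have := (os_dvd_iff τ f _).mp dvd_rfl (mk k)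
      rwa [hτ] at this
  have hinfl : ∀ β : IrrCharacter (F.K ⧸ H), IsIrrCharacter F.K (fun k => (β : F.K ⧸ H → ℂ) (mk k)) :=
    fun β => isIrrCharacter_comp (f := mk) (QuotientGroup.mk'_surjective H) β.2
  -- the moved part is a `q`-group
  have hprime : ∀ r : ℕ, r.Prime → r ∣ D.Z0.index → r = q := by
    intro r hr hrA
    by_contra hne
    haveI := Fact.mk hr
    obtain ⟨P⟩ : Nonempty (Sylow r F.K) := inferInstance
    obtain ⟨x, hxP, hxZ⟩ : ∃ x ∈ (P : Subgroup F.K), x ∉ D.Z0 := by
      by_contra h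
      push Not at h
      exact P.not_dvd_index (hrA.trans (Subgroup.index_dvd_of_le h))
    have hxH : x ∈ H := by
      rw [← QuotientGroup.eq_one_iff]
      obtain ⟨a, ha⟩ := P.2.exists_card_eq
      have h1 : (x : F.K ⧸ H) ^ r ^ a = 1 := by
        rw [← QuotientGroup.mk_pow, ← ha, show x ^ Nat.card P = 1 from
          congrArg Subtype.val (pow_card_eq_one' (x := (⟨x, hxP⟩ : P))), QuotientGroup.mk_one]
      have h2 : (x : F.K ⧸ H) ^ q ^ n = 1 := by rw [← hidx]; exact pow_card_eq_one'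
      have := pow_gcd_eq_one.mpr ⟨h1, h2⟩
      rwa [(((Nat.coprime_primes hr hq.out).mpr hne).pow a n : Nat.Coprime (r ^ a) (q ^ n)),
        pow_one] at this
    refine hnab fun k hk => ?_
    obtain ⟨s, hs⟩ := isConj_iff.mp (D.isConj_of_notMem hxZ (z := x * k) (by
      rw [mul_inv_rev, mul_assoc, inv_mul_cancel, mul_one]; exact inv_mem hk)).symm
    have : x * k ∈ H := hs ▸ (inferInstance : H.Normal).conj_mem x hxH s
    exact (Subgroup.mul_mem_cancel_left H hxH).mp this
  obtain ⟨a₀, ha₀⟩ : ∃ a, D.Z0.index = q ^ a := ⟨_, Nat.eq_prime_pow_of_unique_prime_dvd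
    Subgroup.index_ne_zero_of_finite fun {d} hd hdd => hprime d hd hdd⟩
  have hrange : ∀ w ∈ (dlHom F.σ 1).range, w ^ q ^ a₀ = 1 := fun w hw => by
    rw [← ha₀, D.index_Z0]
    exact congrArg Subtype.val (pow_card_eq_one' (x := (⟨w, hw⟩ : (dlHom F.σ 1).range)))
  have hcopA : (Nat.card H).Coprime (q ^ a₀) := hcop.pow_right a₀
  -- the operator on the quotient
  let Dq : Op (F.K ⧸ H) :=
  { σ := τ
    f := F.K.index
    one_lt := F.one_lt
    l := 1
    inner := hinner
    nd := fun ψ φ a b ha hb h1 h2 h => by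
      simp only [hos] at h h1 h2 ⊢
      · exact F.nd hnd ⟨_, hinfl ψ⟩ ⟨_, hinfl φ⟩ a b (by simpa [mk] using ha) (by simpa [mk] using hb)
          h1 h2 h
    moved := by
      obtain ⟨⟨w, hw⟩, hwo⟩ := exists_prime_orderOf_dvd_card' (G := (dlHom F.σ 1).range) q
        (show q ∣ Nat.card (dlHom D.σ 1).range from D.index_Z0 ▸ hqA)
      rw [Subgroup.orderOf_mk] at hwo
      set HA : Subgroup (Abelianization F.K) := H.map Abelianization.of
      have hwHA : w ∉ HA := by
        rintro ⟨h, hh, rfl⟩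
        have := orderOf_dvd_of_pow_eq_one (x := Abelianization.of h) (n := Nat.card H)
          (by rw [← map_pow, hHpow h hh, map_one])
        rw [hwo] at this
        exact hq.out.not_dvd_one (hcop.gcd_eq_one ▸ Nat.dvd_gcd this dvd_rfl)
      obtain ⟨φ, hφ⟩ := CommGroup.exists_apply_ne_one_of_hasEnoughRootsOfUnity
        (Abelianization F.K ⧸ HA) ℂ (a := (w : Abelianization F.K ⧸ HA))
        (fun e => hwHA ((QuotientGroup.eq_one_iff w).mp e))
      set μ : F.K →* ℂˣ := (φ.comp (QuotientGroup.mk' HA)).comp Abelianization.of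
      have hμH : H ≤ μ.ker := fun h hh => by
        rw [MonoidHom.mem_ker]
        show φ ((Abelianization.of h : Abelianization F.K) : Abelianization F.K ⧸ HA) = 1
        rw [(QuotientGroup.eq_one_iff _).mpr (show Abelianization.of h ∈ HA from ⟨h, hh, rfl⟩), map_one]
      refine ⟨QuotientGroup.lift H μ hμH, ?_⟩
      rw [hos]
      rcases D.linear_os μ with h1 | h1
      · exfalso
        apply hφ
        obtain ⟨X, rfl⟩ := hw
        obtain ⟨k, rfl⟩ : ∃ k, Abelianization.of k = X := QuotientGroup.mk_surjective X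
        have h2 : μ (F.σ k) = μ k := Units.ext ((D.os_eq_one_iff _).mp h1 k)
        show (φ.comp (QuotientGroup.mk' HA)) (dlHom F.σ 1 (Abelianization.of k)) = 1
        rw [dlHom_of, pow_one, map_mul, map_inv, mul_inv_eq_one]
        exact h2
      · exact h1
    hnil := fun r hr hall hdvd => by
      have h1 : r ∣ q ^ n := hidx ▸ hdvd.trans ((Subgroup.card_subgroup_dvd_card _).trans
        (Subgroup.card_dvd_of_surjective Abelianization.of QuotientGroup.mk_surjective))
      have hrq : r = q := (Nat.prime_dvd_prime_iff_eq hr hq.out).mp (hr.dvd_of_dvd_pow h1)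
      obtain ⟨s, hs, hsf⟩ := Nat.exists_prime_and_dvd (show F.K.index ≠ 1 from F.one_lt.ne')
      exact hqf (hrq ▸ hall s hs hsf ▸ hsf) }
  let S : QOp (F.K ⧸ H) q :=
  { D := Dq
    hP := IsPGroup.of_card (n := n) hidx
    hper := MulEquiv.ext fun x => by
      show (τ ^ F.K.index) x = x
      rw [hinner, one_mul, inv_one, mul_one]
    hne := fun e => hnab fun k hk => by
      have : mk k ∈ commutator (F.K ⧸ H) := by
        rw [commutator_def, ← Subgroup.map_top_of_surjective mk (QuotientGroup.mk'_surjective H),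
          ← Subgroup.map_commutator]
        exact Subgroup.mem_map_of_mem _ hk
      rw [e, Subgroup.mem_bot] at this
      exact (QuotientGroup.eq_one_iff k).mp this }
  -- the fixed parts correspond
  have hZ0 : ∀ k : F.K, mk k ∈ S.D.Z0 ↔ k ∈ D.Z0 := by
    intro k
    have hmap : ∀ x : F.K, Abelianization.of (mk x) = Abelianization.map mk (Abelianization.of x) :=
      fun x => (Abelianization.map_of mk x).symm
    rw [Op.mem_Z0, Op.mem_Z0]
    show Abelianization.of (τ (mk k)) = Abelianization.of (mk k) ↔ _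
    rw [show τ (mk k) = mk (F.σ k) from rfl, hmap, hmap]
    constructor
    · intro e
      have h1 : mk (F.σ k * k⁻¹) ∈ commutator (F.K ⧸ H) := by
        rw [← of_eq_one, hmap, map_mul, map_inv, map_mul, map_inv, e, mul_inv_cancel]
      rw [commutator_def, ← Subgroup.map_top_of_surjective mk (QuotientGroup.mk'_surjective H),
        ← Subgroup.map_commutator] at h1
      obtain ⟨k', hk', he⟩ := h1
      have hh : k'⁻¹ * (F.σ k * k⁻¹) ∈ H := QuotientGroup.eq.mp he
      set w := Abelianization.of (F.σ k * k⁻¹)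
      have hw1 : w ^ Nat.card H = 1 := by
        have h2 := congrArg Abelianization.of (hHpow _ hh)
        rwa [map_pow, map_mul, map_inv, of_eq_one.mpr hk', inv_one, one_mul, map_one] at h2
      have hw2 : w ^ q ^ a₀ = 1 := hrange w ⟨Abelianization.of k, by
        rw [dlHom_of, pow_one]
        simp only [w, map_mul, map_inv]⟩
      have h3 := pow_gcd_eq_one.mpr ⟨hw1, hw2⟩
      rw [hcopA, pow_one] at h3
      simp only [w, map_mul, map_inv, mul_inv_eq_one] at h3
      exact h3
    · intro e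
      exact congrArg (Abelianization.map mk) e
  have hZidx : S.D.Z0.index = D.Z0.index := by
    rw [← Subgroup.index_comap_of_surjective S.D.Z0 (QuotientGroup.mk'_surjective H)]
    congr 1
    exact Subgroup.ext hZ0
  obtain ⟨χf, hχf⟩ := F.deg
  have hdegG : ∀ (β : IrrCharacter (F.K ⧸ H)) (b : ℕ), (β : F.K ⧸ H → ℂ) 1 = b →
      ∃ χ : IrrCharacter G, (χ : G → ℂ) 1 = ((os τ (β : F.K ⧸ H → ℂ) * b : ℕ) : ℂ) := by
    intro β b hb
    obtain ⟨χ, hχ⟩ := F.exists_deg ⟨_, hinfl β⟩ (a := b) (by simpa [mk] using hb)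
    exact ⟨χ, by rw [hos]; exact hχ⟩
  -- a character of smallest degree leaves three degrees
  rcases S.pairs with ⟨β, d, hd, hd1, hdd, hosd⟩ | hpairs
  · refine bounds_of_degrees F.K.index d fun χ a ha => ?_
    rcases F.degree_cases hnd χ ha with h | h | ⟨ψ, b, hb, hb1, hab⟩
    · exact Or.inl h
    · exact Or.inr (Or.inl h)
    · refine Or.inr (Or.inr ?_)
      have hdvd : d ∣ b := by
        have := D.index_dvd_sq ψ hb hb1
        rw [← hZidx, ← hdd, ← pow_two, ← pow_two] at this
        exact (Nat.pow_dvd_pow_iff two_ne_zero).mp this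
      obtain ⟨χ₀, hχ₀⟩ := hdegG β d hd
      rw [show os τ (β : F.K ⧸ H → ℂ) = 1 from hosd, one_mul] at hχ₀
      exact (hnd χ₀ χ d a hχ₀ ha hd1
        (fun e => hb1 (Nat.eq_one_of_mul_eq_one_left (e ▸ hab).symm))
        (hab ▸ hdvd.trans (dvd_mul_left _ _))).symm
  -- otherwise `K'` meets `H` trivially
  have hbot : commutator F.K ⊓ H = ⊥ := by
    by_contra hLne
    obtain ⟨W, ⟨hWn, hWle, hWne⟩, hWmin⟩ := Set.Finite.exists_minimal
      (s := {V : Subgroup F.K | V.Normal ∧ V ≤ commutator F.K ⊓ H ∧ V ≠ ⊥}) (Set.toFinite _)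
      ⟨_, inferInstance, le_rfl, hLne⟩
    haveI := hWn
    have hWab : ∀ a ∈ W, ∀ b ∈ W, a * b = b * a := by
      have h0 : ⁅W, W⁆ = ⊥ := by
        by_contra h
        have h1 := hWmin ⟨inferInstance, (Subgroup.commutator_le_left W W).trans hWle, h⟩
          (Subgroup.commutator_le_left W W)
        haveI : Nontrivial W := (Subgroup.nontrivial_iff_ne_bot W).mpr hWne
        have hlt := Group.IsSolvable.commutator_lt_top_of_nontrivial W
        refine hlt.ne (Subgroup.map_injective W.subtype_injective ?_)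
        rw [Subgroup.map_subtype_commutator, ← MonoidHom.range_eq_map, Subgroup.range_subtype]
        exact le_antisymm (Subgroup.commutator_le_left W W) h1
      intro a ha b hb
      rw [← commutatorElement_eq_one_iff_mul_comm, ← Subgroup.mem_bot, ← h0]
      exact Subgroup.commutator_mem_commutator ha hb
    -- `q`-elements outside the fixed part act without fixed points
    have hfpf : ∀ x : F.K, (∃ a, x ^ q ^ a = 1) → x ∉ D.Z0 → ∀ v ∈ W, x * v * x⁻¹ = v → v = 1 := by
      rintro x ⟨a, hxa⟩ hxZ v hv hcomm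
      obtain ⟨hvK, hvH⟩ := Subgroup.mem_inf.mp (hWle hv)
      obtain ⟨s, hs⟩ := isConj_iff.mp (D.isConj_of_notMem hxZ (z := x * v) (by
        rw [mul_inv_rev, mul_assoc, inv_mul_cancel, mul_one]; exact inv_mem hvK)).symm
      have hc : Commute x v := mul_inv_eq_iff_eq_mul.mp hcomm
      have h1 : (x * v) ^ q ^ a = 1 := by rw [← hs, conj_pow, hxa, mul_one, mul_inv_cancel]
      rw [hc.mul_pow, hxa, one_mul] at h1
      have h2 := pow_gcd_eq_one.mpr ⟨hHpow v hvH, h1⟩
      rwa [(hcop.pow_right a : Nat.Coprime (Nat.card H) (q ^ a)), pow_one] at h2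
    -- a homomorphic lift
    obtain ⟨P⟩ : Nonempty (Sylow q F.K) := inferInstance
    have hPtop : (P : Subgroup F.K).map mk = ⊤ := by
      have h := (P.mapSurjective (QuotientGroup.mk'_surjective H)).3 (Q := ⊤)
        (S.hP.to_subgroup ⊤) le_top
      simpa using h.symm
    let e : P →* F.K ⧸ H := mk.comp (P : Subgroup F.K).subtype
    have he : Function.Bijective e := by
      constructor
      · rw [injective_iff_map_eq_one]
        intro x hx
        have hxH : (x : F.K) ∈ H := (QuotientGroup.eq_one_iff _).mp hx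
        obtain ⟨a, ha⟩ := P.2.exists_card_eq
        have h1 : (x : F.K) ^ q ^ a = 1 := by
          rw [← ha]; exact congrArg Subtype.val (pow_card_eq_one' (x := x))
        have h2 := pow_gcd_eq_one.mpr ⟨hHpow _ hxH, h1⟩
        rw [(hcop.pow_right a : Nat.Coprime (Nat.card H) (q ^ a)), pow_one] at h2
        exact Subtype.ext h2
      · intro y
        obtain ⟨x, hx, rfl⟩ : y ∈ (P : Subgroup F.K).map mk := hPtop ▸ Subgroup.mem_top y
        exact ⟨⟨x, hx⟩, rfl⟩
    let s : F.K ⧸ H →* F.K :=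
      (P : Subgroup F.K).subtype.comp (MulEquiv.ofBijective e he).symm.toMonoidHom
    have hs : ∀ x, mk (s x) = x := fun x => (MulEquiv.ofBijective e he).apply_symm_apply x
    have hsq : ∀ x, ∃ a, s x ^ q ^ a = 1 := fun x => by
      obtain ⟨a, ha⟩ := S.hP x
      exact ⟨a, by rw [← map_pow, ha, map_one]⟩
    have hfpf' : ∀ x : F.K ⧸ H, ∀ V : Subgroup F.K, V ≤ W → V ≠ ⊥ →
        (∀ v ∈ V, s x * v * (s x)⁻¹ = v) → x ∈ S.D.Z0 := by
      intro x V hVW hV hfix
      by_contra hx
      obtain ⟨v, hv, hv1⟩ : ∃ v ∈ V, v ≠ 1 := by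
        by_contra hc
        push Not at hc
        exact hV ((Subgroup.eq_bot_iff_forall _).mpr hc)
      exact hv1 (hfpf (s x) (hsq x) (fun h => hx (hs x ▸ (hZ0 _).mpr h)) v (hVW hv) (hfix v hv))
    have hswap : ∀ a b, S.Indep a b → S.Indep b a := fun a b h i j hij =>
      And.symm (h j i ((inferInstance : S.D.Z0.Normal).mem_comm hij))
    have hstabW : ∀ x : F.K, Stable W x := fun x v hv => hWn.conj_mem v hv x
    -- a pair commuting on an invariant subgroup
    have hpair : ∀ a b, S.Indep a b → ∀ V : Subgroup F.K, V ≤ W → V ≠ ⊥ → Stable V (s a) →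
        Stable V (s b) → (∀ v ∈ V, s a * (s b * v * (s b)⁻¹) * (s a)⁻¹ =
          s b * (s a * v * (s a)⁻¹) * (s b)⁻¹) → False := by
      intro a b hab V hVW hV ha hb hc
      obtain ⟨k, V', hV', hne', h | h⟩ := exists_pow_trivial (q := q) hV
        (fun x hx y hy => hWab x (hVW hx) y (hVW hy)) ha hb (hsq a) (hsq b) hc
      · have := hfpf' (a ^ k * b) V' (hV'.trans hVW) hne' fun v hv => by
          rw [map_mul, map_pow]; exact h v hv
        exact hq.out.not_dvd_one (hab k 1 (by rwa [pow_one])).2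
      · have := hfpf' (b ^ k * a) V' (hV'.trans hVW) hne' fun v hv => by
          rw [map_mul, map_pow]; exact h v hv
        exact hq.out.not_dvd_one ((hswap a b hab) k 1 (by rwa [pow_one])).2
    -- the part of `W` centralised by an element
    have hstabC : ∀ x z : F.K, Commute x z → Stable (W ⊓ Subgroup.centralizer {z}) x := by
      intro x z hxz v hv
      obtain ⟨hvW, hvz⟩ := Subgroup.mem_inf.mp hv
      refine Subgroup.mem_inf.mpr ⟨hstabW x v hvW, ?_⟩
      rw [Subgroup.mem_centralizer_singleton_iff] at hvz ⊢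
      exact (((show Commute x z from hxz).mul_left (show Commute v z from hvz)).mul_left
        hxz.inv_left).eq
    have hact : ∀ a b : F.K ⧸ H, ∀ v : F.K, s ⁅a, b⁆ * v * (s ⁅a, b⁆)⁻¹ = v →
        v ∈ W → QOp.CentralQ (q := q) ⁅a, b⁆ →
          s a * (s b * v * (s b)⁻¹) * (s a)⁻¹ = s b * (s a * v * (s a)⁻¹) * (s b)⁻¹ := by
      intro a b v hv _ hcen
      have hab : s a * s b = s b * s a * s ⁅a, b⁆ := by
        rw [← map_mul, ← map_mul, ← map_mul, hcen.1]
        congr 1
        simp [commutatorElement_def, mul_assoc]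
      calc s a * (s b * v * (s b)⁻¹) * (s a)⁻¹ = (s a * s b) * v * (s a * s b)⁻¹ := by group
        _ = s b * s a * (s ⁅a, b⁆ * v * (s ⁅a, b⁆)⁻¹) * (s b * s a)⁻¹ := by rw [hab]; group
        _ = _ := by rw [hv]; group
    have hfree : ∀ a b, S.Indep a b → QOp.CentralQ (q := q) ⁅a, b⁆ → ∀ v ∈ W,
        s ⁅a, b⁆ * v * (s ⁅a, b⁆)⁻¹ = v → v = 1 := by
      intro a b hab hcen v hv hfix
      by_contra hv1
      set V := W ⊓ Subgroup.centralizer {s ⁅a, b⁆}
      have hVne : V ≠ ⊥ := fun e => hv1 (Subgroup.mem_bot.mp (e ▸ Subgroup.mem_inf.mpr ⟨hv,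
        Subgroup.mem_centralizer_singleton_iff.mpr (mul_inv_eq_iff_eq_mul.mp hfix).symm⟩))
      have hc : ∀ x, Commute (s x) (s ⁅a, b⁆) := fun x =>
        (show Commute x ⁅a, b⁆ from hcen.1 x).map s
      exact hpair a b hab V inf_le_left hVne (hstabC _ _ (hc a)) (hstabC _ _ (hc b)) fun u hu =>
        hact a b u (mul_inv_eq_iff_eq_mul.mpr
          (Subgroup.mem_centralizer_singleton_iff.mp (Subgroup.mem_inf.mp hu).2).symm)
          (Subgroup.mem_inf.mp hu).1 hcen
    have hmodZ : ∀ x y : F.K ⧸ H, Commute (x : (F.K ⧸ H) ⧸ S.D.Z0) y := fun x y => by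
      rw [commute_iff_eq, ← QuotientGroup.mk_mul, ← QuotientGroup.mk_mul, QuotientGroup.eq]
      refine S.D.commutator_le_Z0 ?_
      rw [show (x * y)⁻¹ * (y * x) = ⁅y⁻¹, x⁻¹⁆ by simp [commutatorElement_def, mul_assoc]]
      exact Subgroup.commutator_mem_commutator (Subgroup.mem_top _) (Subgroup.mem_top _)
    rcases hpairs with ⟨a, b, hab, hc1⟩ | ⟨hq2, a, b, hab, hcen⟩ |
      ⟨hq2, a, b, d, h3, hcab, hcad, hcbd⟩
    · refine hpair a b hab W le_rfl hWne (hstabW _) (hstabW _) fun v _ => ?_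
      have e : s a * s b = s b * s a := by
        rw [← map_mul, ← map_mul, commutatorElement_eq_one_iff_mul_comm.mp hc1]
      calc s a * (s b * v * (s b)⁻¹) * (s a)⁻¹ = (s a * s b) * v * (s a * s b)⁻¹ := by group
        _ = _ := by rw [e]; group
    · -- a central commutator, odd prime
      suffices key : ∀ a b, S.Indep a b → QOp.CentralQ (q := q) ⁅a, b⁆ → ∀ k : ℕ,
          ∀ V : Subgroup F.K, V ≤ W → V ≠ ⊥ →
            (∀ v ∈ V, ((s a ^ q) ^ k * s b ^ q) * v * ((s a ^ q) ^ k * s b ^ q)⁻¹ = v) → False by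
        have hpw := pow_mul_swap (a := a) (b := b) (w := ⁅a, b⁆)
          (by rw [hcen.1]; simp [commutatorElement_def, mul_assoc]) hcen.1
        have hqc : Commute (a ^ q) b := by
          show a ^ q * b = b * a ^ q
          rw [hpw q, hcen.2, mul_one]
        have hqq : Commute (s a ^ q) (s b ^ q) := by
          rw [← map_pow, ← map_pow]
          exact (hqc.pow_right q).map s
        have hpq : ∀ x, ∃ i, (s x ^ q) ^ q ^ i = 1 := fun x => by
          obtain ⟨i, hi⟩ := hsq x
          exact ⟨i, by rw [← pow_mul, mul_comm, pow_mul, hi, one_pow]⟩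
        obtain ⟨k, V, hV, hVne, h | h⟩ := exists_pow_trivial (q := q) hWne hWab (hstabW (s a ^ q))
          (hstabW (s b ^ q)) (hpq a) (hpq b) (fun v _ => by
            calc s a ^ q * (s b ^ q * v * (s b ^ q)⁻¹) * (s a ^ q)⁻¹
                = (s a ^ q * s b ^ q) * v * (s a ^ q * s b ^ q)⁻¹ := by group
              _ = _ := by rw [hqq.eq]; group)
        · exact key a b hab hcen k V hV hVne h
        · refine key b a (hswap a b hab) ?_ k V hV hVne h
          rw [← commutatorElement_inv a b]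
          exact ⟨fun x => (show Commute x ⁅a, b⁆ from hcen.1 x).inv_right.eq,
            by rw [inv_pow, hcen.2, inv_one]⟩
      clear hab hcen a b
      intro a b hab hcen k V hV hVne hfix
      set w := ⁅a, b⁆ with hw
      set y := a ^ k * b with hy
      have hwc : ∀ x, Commute x w := fun x => hcen.1 x
      -- the power of `y`
      obtain ⟨z, hzc, hzq, hba⟩ : ∃ z, (∀ x, Commute x z) ∧ z ^ q = 1 ∧
          b * a ^ k = a ^ k * b * z := by
        refine ⟨(w ^ k)⁻¹, fun x => ((hwc x).pow_right k).inv_right, by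
          rw [inv_pow, ← pow_mul, mul_comm k q, pow_mul, hcen.2, one_pow, inv_one], ?_⟩
        have h0 : a * b = b * a * w := by
          rw [hcen.1, hw]; simp [commutatorElement_def, mul_assoc]
        have h1 := pow_mul_swap h0 hwc
        rw [h1 k, mul_inv_cancel_right]
      have hpowy : ∀ m : ℕ, y ^ m = (a ^ k) ^ m * b ^ m * z ^ (m.choose 2) := by
        intro m
        induction m with
        | zero => simp
        | succ m ih =>
          have hbm := pow_mul_swap hba hzc
          rw [pow_succ, ih, hy, mul_assoc _ (z ^ _), ← ((hzc (a ^ k * b)).pow_right _).eq,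
            Nat.choose_succ_succ, Nat.choose_one_right, pow_add]
          calc (a ^ k) ^ m * b ^ m * (a ^ k * b * z ^ m.choose 2)
              = (a ^ k) ^ m * (b ^ m * a ^ k) * b * z ^ m.choose 2 := by group
            _ = (a ^ k) ^ m * a ^ k * b ^ m * (z ^ m * b) * z ^ m.choose 2 := by rw [hbm]; group
            _ = (a ^ k) ^ m * a ^ k * b ^ m * (b * z ^ m) * z ^ m.choose 2 := by
                rw [((hzc b).pow_right m).eq]
            _ = _ := by rw [← pow_succ (a ^ k), pow_succ b]; group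
      have hyq : y ^ q = (a ^ q) ^ k * b ^ q := by
        have h2 : 2 < q := lt_of_le_of_ne hq.out.two_le (Ne.symm hq2)
        obtain ⟨t, ht⟩ := hq.out.dvd_choose_self (show 2 ≠ 0 by norm_num) h2
        rw [hpowy q, ht, pow_mul z, hzq, one_pow, mul_one, ← pow_mul, ← pow_mul, mul_comm k q]
      set V₂ := W ⊓ Subgroup.centralizer {s y ^ q} with hV₂
      have hV₂ne : V₂ ≠ ⊥ := fun e => hVne (le_bot_iff.mp (e ▸ le_inf hV (fun v hv => by
        rw [Subgroup.mem_centralizer_singleton_iff, ← map_pow, hyq, map_mul, map_pow, map_pow,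
          map_pow]
        exact (mul_inv_eq_iff_eq_mul.mp (hfix v hv)).symm)))
      have hcy : Commute (s y) (s w) := (hwc y).map s
      obtain ⟨k', V', hV', hne', h | h⟩ := exists_pow_trivial (q := q) hV₂ne
        (fun x hx z hz => hWab x (Subgroup.mem_inf.mp hx).1 z (Subgroup.mem_inf.mp hz).1)
        (hstabC (s y) (s y ^ q) (Commute.self_pow _ q)) (hstabC (s w) (s y ^ q) (hcy.symm.pow_right q))
        (hsq y) (hsq w) (fun v _ => by
          calc s y * (s w * v * (s w)⁻¹) * (s y)⁻¹ = (s y * s w) * v * (s y * s w)⁻¹ := by group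
            _ = _ := by rw [hcy.eq]; group)
      · have hz := hfpf' (y ^ k' * w) V' (hV'.trans inf_le_left) hne' fun v hv => by
          rw [map_mul, map_pow]; exact h v hv
        have hwZ : w ∈ S.D.Z0 := S.D.commutator_le_Z0
          (Subgroup.commutator_mem_commutator (Subgroup.mem_top _) (Subgroup.mem_top _))
        rw [Subgroup.mul_mem_cancel_right _ hwZ, ← QuotientGroup.eq_one_iff, hy,
          QuotientGroup.mk_pow, QuotientGroup.mk_mul, (hmodZ _ _).mul_pow, ← QuotientGroup.mk_pow,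
          ← QuotientGroup.mk_pow, ← QuotientGroup.mk_mul, QuotientGroup.eq_one_iff, ← pow_mul] at hz
        obtain ⟨t, rfl⟩ := (hab _ _ hz).2
        obtain ⟨v, hv, hv1⟩ : ∃ v ∈ V', v ≠ 1 := by
          by_contra hc
          push Not at hc
          exact hne' ((Subgroup.eq_bot_iff_forall _).mpr hc)
        obtain ⟨hvW, hvq⟩ := Subgroup.mem_inf.mp (hV' hv)
        refine hv1 (hfree a b hab hcen v hvW ?_)
        have h1 := h v hv
        have h2 : Commute ((s y) ^ (q * t)) (s w * v * (s w)⁻¹) := by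
          have h3 := (Subgroup.mem_inf.mp (hstabC (s w) (s y ^ q) (hcy.symm.pow_right q) v (hV' hv))).2
          rw [Subgroup.mem_centralizer_singleton_iff] at h3
          rw [pow_mul]
          exact (show Commute (s y ^ q) _ from h3.symm).pow_left t
        rw [show s y ^ (q * t) * s w * v * (s y ^ (q * t) * s w)⁻¹ =
          s y ^ (q * t) * (s w * v * (s w)⁻¹) * (s y ^ (q * t))⁻¹ by group, h2.eq,
          mul_inv_cancel_right] at h1
        exact h1
      · have hz := hfpf' (w ^ k' * y) V' (hV'.trans inf_le_left) hne' fun v hv => by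
          rw [map_mul, map_pow]; exact h v hv
        have hwZ : w ∈ S.D.Z0 := S.D.commutator_le_Z0
          (Subgroup.commutator_mem_commutator (Subgroup.mem_top _) (Subgroup.mem_top _))
        rw [Subgroup.mul_mem_cancel_left _ (pow_mem hwZ k')] at hz
        exact hq.out.not_dvd_one (hab k 1 (by rwa [pow_one])).2
    · -- three commutators of order at most two
      subst hq2
      have hab : S.Indep a b := fun i j h =>
        ⟨(h3 i j 0 (by simpa using h)).1, (h3 i j 0 (by simpa using h)).2.1⟩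
      have had : S.Indep a d := fun i j h =>
        ⟨(h3 i 0 j (by simpa using h)).1, (h3 i 0 j (by simpa using h)).2.2⟩
      have hbd : S.Indep b d := fun i j h =>
        ⟨(h3 0 i j (by simpa using h)).2.1, (h3 0 i j (by simpa using h)).2.2⟩
      have hab_d : S.Indep (a * b) d := fun i j h => by
        have hm : a ^ i * b ^ i * d ^ j ∈ S.D.Z0 := by
          rw [← QuotientGroup.eq_one_iff] at h ⊢
          simpa only [QuotientGroup.mk_mul, QuotientGroup.mk_pow, (hmodZ a b).mul_pow] using h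
        exact ⟨(h3 i i j hm).1, (h3 i i j hm).2.2⟩
      have hinv : ∀ x y, S.Indep x y → QOp.CentralQ (q := 2) ⁅x, y⁆ → ∀ v ∈ W,
          s ⁅x, y⁆ * v * (s ⁅x, y⁆)⁻¹ = v⁻¹ := by
        intro x y hxy hcen v hv
        set t := s ⁅x, y⁆
        have ht : t * t = 1 := by rw [← map_mul, ← pow_two, hcen.2, map_one]
        have hti : t⁻¹ = t := inv_eq_of_mul_eq_one_right ht
        have h1 : v * (t * v * t⁻¹) = 1 := hfree x y hxy hcen _ (mul_mem hv (hstabW t v hv)) (by
          calc t * (v * (t * v * t⁻¹)) * t⁻¹ = (t * v * t⁻¹) * ((t * t) * v * (t * t)⁻¹) := by group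
            _ = (t * v * t⁻¹) * v := by rw [ht]; group
            _ = _ := hWab _ (hstabW t v hv) v hv)
        exact (inv_eq_of_mul_eq_one_right h1).symm
      have hcw : ⁅a * b, d⁆ = ⁅a, d⁆ * ⁅b, d⁆ := by
        rw [show ⁅a * b, d⁆ = a * ⁅b, d⁆ * a⁻¹ * ⁅a, d⁆ by simp [commutatorElement_def, mul_assoc],
          show a * ⁅b, d⁆ * a⁻¹ = ⁅b, d⁆ by rw [hcbd.1 a, mul_inv_cancel_right], hcad.1]
      have hcen : QOp.CentralQ (q := 2) ⁅a * b, d⁆ := by
        rw [hcw]
        exact ⟨fun x => (show Commute x _ from hcad.1 x).mul_right (hcbd.1 x),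
          by rw [(show Commute ⁅a, d⁆ ⁅b, d⁆ from hcbd.1 _).mul_pow, hcad.2, hcbd.2, one_mul]⟩
      obtain ⟨v, hv, hv1⟩ : ∃ v ∈ W, v ≠ 1 := by
        by_contra hc
        push Not at hc
        exact hWne ((Subgroup.eq_bot_iff_forall _).mpr hc)
      refine hv1 (hfree (a * b) d hab_d hcen v hv ?_)
      rw [hcw, map_mul]
      calc s ⁅a, d⁆ * s ⁅b, d⁆ * v * (s ⁅a, d⁆ * s ⁅b, d⁆)⁻¹
          = s ⁅a, d⁆ * (s ⁅b, d⁆ * v * (s ⁅b, d⁆)⁻¹) * (s ⁅a, d⁆)⁻¹ := by group
        _ = v := by rw [hinv b d hbd hcbd v hv, hinv a d had hcad _ (inv_mem hv), inv_inv]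
  -- so `H` is central and fixed, and the degrees come from the quotient
  have hcent : ∀ h ∈ H, ∀ g : F.K, ⁅g, h⁆ = 1 := fun h hh g => by
    rw [← Subgroup.mem_bot, ← hbot]
    refine Subgroup.mem_inf.mpr
      ⟨Subgroup.commutator_mem_commutator (Subgroup.mem_top g) (Subgroup.mem_top h), ?_⟩
    rw [commutatorElement_def]
    exact mul_mem ((inferInstance : H.Normal).conj_mem h hh g) (inv_mem hh)
  obtain ⟨e₁, e₂, htwo⟩ := S.two_values
  have hval : ∀ (ψ : IrrCharacter F.K) (b : ℕ), (ψ : F.K → ℂ) 1 = b → b ≠ 1 →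
      os F.σ (ψ : F.K → ℂ) * b = e₁ ∨ os F.σ (ψ : F.K → ℂ) * b = e₂ := by
    intro ψ b hb hb1
    obtain ⟨lam, hlam⟩ := exists_scalar_hom H ψ fun h hh g => by rw [hcent h hh g]
    set j : H →* Abelianization F.K := Abelianization.of.comp H.subtype
    have hj : Function.Injective j := by
      rw [injective_iff_map_eq_one]
      intro h hh
      rw [MonoidHom.comp_apply, ← MonoidHom.mem_ker, Abelianization.ker_of] at hh
      have : (h : F.K) ∈ commutator F.K ⊓ H := Subgroup.mem_inf.mpr ⟨hh, h.2⟩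
      rw [hbot, Subgroup.mem_bot] at this
      exact Subtype.ext this
    obtain ⟨φ, hφ⟩ := MonoidHom.domRestrict_surjective (M := ℂ) j.range
      (lam.comp (MonoidHom.ofInjective hj).symm.toMonoidHom)
    obtain ⟨e₀, he₀, hu⟩ := Nat.chineseRemainder hcopA.symm 0 1
    obtain ⟨u, rfl⟩ := Nat.modEq_zero_iff_dvd.mp he₀
    set e := q ^ a₀ * u
    set μ : F.K →* ℂˣ := ((powMonoidHom e).comp φ).comp Abelianization.of with hμ
    have hμH : ∀ h : H, μ h = lam h := fun h => by
      have h1 : φ (j h) = lam h := by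
        have := DFunLike.congr_fun hφ ⟨j h, h, rfl⟩
        simp only [MonoidHom.comp_apply, MulEquiv.coe_toMonoidHom] at this
        rw [show (MonoidHom.ofInjective hj).symm ⟨j h, h, rfl⟩ = h from
          (MonoidHom.ofInjective hj).injective (by rw [MulEquiv.apply_symm_apply]; rfl)] at this
        exact this
      show φ (j h) ^ e = lam h
      rw [h1, ← map_pow]
      congr 1
      rw [← pow_mod_natCard, show e % Nat.card H = 1 % Nat.card H from hu, pow_mod_natCard, pow_one]
    have hμσ : ∀ k, μ (F.σ k) = μ k := fun k => by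
      have h1 := hrange (dlHom F.σ 1 (Abelianization.of k)) ⟨_, rfl⟩
      rw [dlHom_of, pow_one] at h1
      have h2 := congrArg (fun X => φ X ^ u) h1
      simp only [map_pow, map_mul, map_inv, map_one, one_pow, ← pow_mul, mul_pow, inv_pow,
        mul_inv_eq_one] at h2
      exact h2
    let ψ' : IrrCharacter F.K := ⟨fun k => ((μ⁻¹ : F.K →* ℂˣ) k : ℂ) * (ψ : F.K → ℂ) k,
      haveI := Fintype.ofFinite F.K; isIrrCharacter_linear_mul ψ.2 μ⁻¹⟩
    have hψ'1 : (ψ' : F.K → ℂ) 1 = b := by simp [ψ', hb]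
    have hψ'os : os F.σ (ψ' : F.K → ℂ) = os F.σ (ψ : F.K → ℂ) := by
      have hpw : ∀ (i : ℕ) k, μ ((F.σ ^ i) k) = μ k := by
        intro i
        induction i with
        | zero => simp
        | succ i ih => intro k; rw [pow_succ', MulAut.mul_apply, hμσ, ih]
      refine Nat.dvd_antisymm ((os_dvd_iff _ _ _).mpr fun k => ?_) ((os_dvd_iff _ _ _).mpr fun k => ?_)
      · show ((μ⁻¹ : F.K →* ℂˣ) _ : ℂ) * _ = ((μ⁻¹ : F.K →* ℂˣ) k : ℂ) * _
        rw [MonoidHom.inv_apply, MonoidHom.inv_apply, hpw,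
          (os_dvd_iff F.σ (ψ : F.K → ℂ) _).mp dvd_rfl k]
      · have h1 : ((μ⁻¹ : F.K →* ℂˣ) ((F.σ ^ os F.σ (ψ' : F.K → ℂ)) k) : ℂ) *
            (ψ : F.K → ℂ) ((F.σ ^ os F.σ (ψ' : F.K → ℂ)) k) =
            ((μ⁻¹ : F.K →* ℂˣ) k : ℂ) * (ψ : F.K → ℂ) k :=
          (os_dvd_iff F.σ (ψ' : F.K → ℂ) _).mp dvd_rfl k
        rw [MonoidHom.inv_apply, MonoidHom.inv_apply, hpw] at h1
        exact mul_left_cancel₀ (Units.ne_zero _) h1
    obtain ⟨dim, ρ, hρ, he⟩ := ψ'.2
    have hker : H ≤ ρ.ker := fun h hh => by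
      suffices h0 : (ψ' : F.K → ℂ) h = (ψ' : F.K → ℂ) 1 by
        rw [← he, Representation.char_one, character_eq_finrank_iff] at h0
        rw [MonoidHom.mem_ker, h0, Module.End.one_eq_id]
      show ((μ⁻¹ : F.K →* ℂˣ) h : ℂ) * _ = ((μ⁻¹ : F.K →* ℂˣ) 1 : ℂ) * _
      have h1 := hlam ⟨h, hh⟩ 1
      rw [mul_one] at h1
      rw [h1, MonoidHom.inv_apply, hμH ⟨h, hh⟩, map_one, Units.val_one, one_mul, ← mul_assoc,
        Units.inv_mul, one_mul]
    let ρq : Representation ℂ (F.K ⧸ H) (Fin dim → ℂ) := QuotientGroup.lift H ρ hker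
    have hρq : ρq.IsIrreducible :=
      (CfsgLib.Blocks.isIrreducible_comp_of_surjective ρq mk (QuotientGroup.mk'_surjective H)).mp hρ
    let β : IrrCharacter (F.K ⧸ H) := ⟨ρq.character, dim, ρq, hρq, rfl⟩
    have hβ : (fun k => (β : F.K ⧸ H → ℂ) (mk k)) = (ψ' : F.K → ℂ) := by
      funext k; rw [← he]; rfl
    have hβ1 : (β : F.K ⧸ H → ℂ) 1 = b := by
      rw [← hψ'1, ← congrFun hβ 1, map_one]
    have h2 := htwo β b hβ1 hb1
    rw [show os S.D.σ (β : F.K ⧸ H → ℂ) = os F.σ (ψ : F.K → ℂ) by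
      show os τ _ = _
      rw [hos, hβ, hψ'os]] at h2
    exact h2
  constructor
  · have hsub : Cfsg.charDegrees G ⊆ ({1, F.K.index, e₁, e₂} : Set ℕ) := by
      rintro e ⟨χ, hχ⟩
      obtain ⟨a, -, ha⟩ := exists_nat_degree_irr χ.2
      rw [Extraspecial.charDegree_eq ha] at hχ
      subst hχ
      rcases F.degree_cases hnd χ ha with h | h | ⟨ψ, b, hb, hb1, hab⟩
      · exact Or.inl h
      · exact Or.inr (Or.inl h)
      · rcases hval ψ b hb hb1 with h' | h'
        · exact Or.inr (Or.inr (Or.inl (hab.trans h')))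
        · exact Or.inr (Or.inr (Or.inr (hab.trans h')))
    rw [Nat.card_coe_set_eq]
    refine (Set.ncard_le_ncard hsub (Set.toFinite _)).trans ?_
    have h1 := Set.ncard_insert_le 1 ({F.K.index, e₁, e₂} : Set ℕ)
    have h2 := Set.ncard_insert_le F.K.index ({e₁, e₂} : Set ℕ)
    have h3 := Set.ncard_insert_le e₁ ({e₂} : Set ℕ)
    rw [Set.ncard_singleton] at h3
    omega
  · have hK2 : ⁅commutator F.K, commutator F.K⁆ = ⊥ := by
      rw [← le_bot_iff, ← hbot]
      refine le_inf (Subgroup.commutator_le_left _ _) fun x hx => ?_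
      have h1 := Subgroup.mem_map_of_mem mk hx
      rw [Subgroup.map_commutator, commutator_def, Subgroup.map_commutator,
        Subgroup.map_top_of_surjective mk (QuotientGroup.mk'_surjective H), ← commutator_def,
        S.derived_comm, Subgroup.mem_bot] at h1
      exact (QuotientGroup.eq_one_iff x).mp h1
    have h3 : ⁅⁅F.K, F.K⁆, ⁅F.K, F.K⁆⁆ = ⊥ := by
      rw [← Subgroup.map_subtype_commutator F.K, ← Subgroup.map_commutator, hK2, Subgroup.map_bot]
    rw [CfsgLib.ThreeDegrees.derived_three_eq, ← le_bot_iff, ← h3]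
    exact Subgroup.commutator_mono (Subgroup.commutator_mono F.le F.le)
      (Subgroup.commutator_mono F.le F.le)

/-- The case of a prime of the moved part dividing the derived subgroup. -/
theorem bounds_top (hnd : NoDivDeg G) [Group.IsSolvable G] {q : ℕ} (hq : q.Prime)
    (hqA : q ∣ (F.op hnd).Z0.index) (hqL : q ∣ Nat.card (commutator F.K)) : Bounds G := by
  classical
  haveI := Fact.mk hq
  obtain ⟨H, hH, hcop, n, hidx⟩ := Cfsg.Agent.S4456.result (G := F.K) q hq (fun χ hχ => by
    obtain ⟨d, -, hd⟩ := exists_nat_degree_irr χ.2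
    rw [Extraspecial.charDegree_eq hd] at hχ ⊢
    exact hq.dvd_of_dvd_pow (n := 2) (by
      rw [pow_two]; exact hqA.trans ((F.op hnd).index_dvd_sq χ hd hχ)))
  haveI := hH
  have hnab : ¬ commutator F.K ≤ H := fun h =>
    hq.coprime_iff_not_dvd.mp hcop.symm (hqL.trans (Subgroup.card_dvd_of_le h))
  have hqf : q.Coprime F.K.index :=
    (F.op hnd).coprime_index.coprime_dvd_left hqA
  have hm : H.index.Coprime F.K.index := hidx ▸ hqf.pow_left n
  set F' := F.pow hnd H.index hm
  have hqA' : q ∣ (F'.op hnd).Z0.index := by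
    rw [show (F'.op hnd).Z0 = (F.op hnd).Z0 from F.Z0_pow hnd H.index hm]; exact hqA
  refine @Frame.bounds_qgroup G _ _ F' hnd _ q _ hqA' H hH hcop n hidx hnab ?_
  have := H.pow_index_mem (⟨_, F.pow_index_mem⟩ : F.K)
  have e : (⟨(F.c ^ H.index) ^ F.K.index, F'.pow_index_mem⟩ : F.K) =
      (⟨_, F.pow_index_mem⟩ : F.K) ^ H.index :=
    Subtype.ext (show (F.c ^ H.index) ^ F.K.index = (F.c ^ F.K.index) ^ H.index by
      rw [← pow_mul, ← pow_mul, mul_comm])
  exact (congrArg (fun y : F.K => y ∈ H) e).mpr this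

end Frame

end CfsgLib.NDDeg
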