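import Mathlib

/-!
# Covering an orbit by fixed points of fixed point free automorphisms
-/

set_option autoImplicit false

namespace CfsgLib.NDDeg

open Function

variable {Λ : Type*} [CommGroup Λ] [Finite Λ]

theorem mulAut_pow_apply_mem (e : MulAut Λ) (M : Subgroup Λ) (hM : ∀ b ∈ M, e b ∈ M) (k : ℕ) :
    ∀ b ∈ M, (e ^ k) b ∈ M := by
  induction k with
  | zero => exact fun b hb => by simpa using hb
  | succ k ih => exact fun b hb => by rw [pow_succ', MulAut.mul_apply]; exact hM _ (ih b hb)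

theorem card_modEq_one (e : MulAut Λ) {p n : ℕ} [Fact p.Prime] (hp : e ^ (p ^ n) = 1)
    (hfix : ∀ a, e a = a → a = 1) (M : Subgroup Λ) (hM : ∀ b ∈ M, e b ∈ M) :
    Nat.card M ≡ 1 [MOD p] := by
  classical
  haveI := Fintype.ofFinite M
  let g : Function.End M := fun m => ⟨e m, hM _ m.2⟩
  have hg : ∀ (k : ℕ) (m : M), ((g ^ k) m : Λ) = (e ^ k) m := by
    intro k
    induction k with
    | zero => exact fun m => rfl
    | succ k ih =>
      intro m
      rw [pow_succ', pow_succ', MulAut.mul_apply, ← ih m]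
      rfl
  have h1 : g ^ p ^ n = 1 := funext fun m => Subtype.ext (by rw [hg, hp]; rfl)
  have h := Equiv.Perm.card_fixedPoints_modEq h1
  rw [← Nat.card_eq_fintype_card, ← Nat.card_eq_fintype_card] at h
  have hu : Nat.card ↥(fixedPoints (g : M → M)) = 1 := by
    rw [Nat.card_eq_one_iff_unique]
    refine ⟨⟨fun a b => ?_⟩, ⟨⟨1, Subtype.ext (map_one e)⟩⟩⟩
    have ha := hfix _ (congrArg Subtype.val a.2)
    have hb := hfix _ (congrArg Subtype.val b.2)
    exact Subtype.ext (Subtype.ext (ha.trans hb.symm))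
  rwa [hu] at h

/-- The exponent attached to a prime divisor `p` of `t`. -/
def jOf (f t p : ℕ) : ℕ := ordCompl[p] f * p ^ (t.factorization p - 1)

theorem dvd_jOf {f t d p : ℕ} (hd : d ∣ f) (h : d.factorization p < t.factorization p) :
    d ∣ jOf f t p := by
  rw [← Nat.ordProj_mul_ordCompl_eq_self d p, jOf, mul_comm (ordCompl[p] f)]
  exact Nat.mul_dvd_mul (Nat.pow_dvd_pow p (by omega)) (Nat.ordCompl_dvd_ordCompl_of_dvd hd p)

theorem cover {Ω : Type*} (act : Λ → Ω → Ω) (h1 : ∀ y, act 1 y = y)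
    (hmul : ∀ a b y, act (a * b) y = act a (act b y)) (E : MulAut Λ) (T : Ω → Ω)
    (hT : ∀ a y, T (act a y) = act (E a) (T y)) {f t : ℕ} (ht : t ∣ f) (hf : f ≠ 0)
    (hE : E ^ f = 1) (x : Ω) (hTf : ∀ a, T^[f] (act a x) = act a x)
    (hfpf : ∀ j, ¬ t ∣ j → ∀ a, (E ^ j) a = a → a = 1)
    (h : ∀ a, ∃ j, ¬ t ∣ j ∧ T^[j] (act a x) = act a x) : ∀ a, act a x = x := by
  classical
  have hTj : ∀ (j : ℕ) a y, T^[j] (act a y) = act ((E ^ j) a) (T^[j] y) := by
    intro j
    induction j with
    | zero => intro a y; simp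
    | succ j ih =>
      intro a y
      rw [iterate_succ_apply', ih, hT, iterate_succ_apply', pow_succ', MulAut.mul_apply]
  have ht0 : t ≠ 0 := fun e => hf (Nat.eq_zero_of_zero_dvd (e ▸ ht))
  -- each translate is fixed by one of the chosen exponents
  have hp : ∀ a, ∃ p ∈ t.primeFactors, T^[jOf f t p] (act a x) = act a x := by
    intro a
    obtain ⟨j, hj, hfix⟩ := h a
    have hg : IsPeriodicPt T (Nat.gcd j f) (act a x) :=
      IsPeriodicPt.gcd (show IsPeriodicPt T j (act a x) from hfix) (hTf a)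
    have hgt : ¬ t ∣ Nat.gcd j f := fun e => hj (e.trans (Nat.gcd_dvd_left j f))
    have hg0 : Nat.gcd j f ≠ 0 := Nat.gcd_ne_zero_right hf
    obtain ⟨p, hpl⟩ : ∃ p, (Nat.gcd j f).factorization p < t.factorization p := by
      by_contra hc
      push Not at hc
      exact hgt ((Nat.factorization_le_iff_dvd ht0 hg0).mp fun p => hc p)
    refine ⟨p, ?_, hg.trans_dvd (dvd_jOf (Nat.gcd_dvd_right j f) hpl)⟩
    rw [← Nat.support_factorization, Finsupp.mem_support_iff]
    omega
  choose g hgt hgfix using hp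
  -- the stabiliser of x
  let M : Subgroup Λ :=
    { carrier := {b | act b x = x}
      one_mem' := h1 x
      mul_mem' := fun {a b} (ha : act a x = x) (hb : act b x = x) => by
        show act (a * b) x = x
        rw [hmul, hb, ha]
      inv_mem' := fun {a} (ha : act a x = x) => by
        show act a⁻¹ x = x
        nth_rw 1 [← ha]
        rw [← hmul, inv_mul_cancel, h1] }
  have hM : ∀ a b, act a x = act b x → b⁻¹ * a ∈ M := by
    intro a b hab
    show act (b⁻¹ * a) x = x
    rw [hmul, hab, ← hmul, inv_mul_cancel, h1]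
  have hMinv : ∀ a, ∀ b ∈ M, (E ^ jOf f t (g a)) b ∈ M := by
    intro a b hb
    have e : act (b * a) x = act a x := by rw [mul_comm, hmul, show act b x = x from hb]
    have e2 : act ((E ^ jOf f t (g a)) b * a) x = act a x := by
      conv_rhs => rw [← hgfix a, ← e, hmul, hTj, hgfix a]
      rw [hmul]
    have := hM _ _ e2
    rwa [mul_comm, mul_inv_cancel_right] at this
  have hfpfp : ∀ p ∈ t.primeFactors, ∀ a, (E ^ jOf f t p) a = a → a = 1 := by
    intro p hp
    obtain ⟨hpp, hpt, -⟩ := Nat.mem_primeFactors.mp hp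
    refine hfpf _ fun e => ?_
    have h0 : jOf f t p ≠ 0 :=
      mul_ne_zero (Nat.ordCompl_pos p hf).ne' (pow_ne_zero _ hpp.ne_zero)
    have h2 := (Nat.factorization_le_iff_dvd ht0 h0).mpr e p
    have h3 : (jOf f t p).factorization p = t.factorization p - 1 := by
      rw [jOf, Nat.factorization_mul (Nat.ordCompl_pos p hf).ne' (pow_ne_zero _ hpp.ne_zero),
        Finsupp.add_apply, hpp.factorization_pow, Finsupp.single_eq_same,
        Nat.factorization_eq_zero_of_not_dvd (Nat.not_dvd_ordCompl hpp hf), zero_add]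
    have h4 : 0 < t.factorization p := hpp.factorization_pos_of_dvd ht0 hpt
    omega
  -- the cosets are told apart by their exponents
  have hsep : ∀ a b, g a = g b → a⁻¹ * b ∈ M := by
    intro a b hab
    set e := E ^ jOf f t (g a) with he
    have hb' : T^[jOf f t (g a)] (act b x) = act b x := by rw [hab]; exact hgfix b
    set c := a⁻¹ * b
    have e1 : act (a * c) x = act b x := by rw [mul_inv_cancel_left]
    have e3 : act (e c) (act a x) = act c (act a x) := by
      conv_rhs => rw [← hmul, mul_comm, e1, ← hb', ← e1, mul_comm a c, hmul, hTj, hgfix a]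
    rw [← hmul, ← hmul] at e3
    have h5 : c⁻¹ * e c ∈ M := by
      have := hM _ _ e3
      rwa [mul_inv_rev, mul_assoc, mul_comm (e c) a, ← mul_assoc c⁻¹, mul_comm c⁻¹ a, mul_assoc,
        inv_mul_cancel_left] at this
    -- `e c / c` comes from `M`
    have hinj : Function.Injective fun m : M => (⟨(m : Λ)⁻¹ * e m,
        M.mul_mem (M.inv_mem m.2) (hMinv a m m.2)⟩ : M) := by
      intro m m' hmm
      have h6 : (m : Λ)⁻¹ * e m = (m' : Λ)⁻¹ * e m' := congrArg Subtype.val hmm
      have h7 : e ((m : Λ)⁻¹ * m') = (m : Λ)⁻¹ * m' := by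
        rw [map_mul, map_inv, show e m' = (m' : Λ) * ((m : Λ)⁻¹ * e m) by
          rw [h6, mul_inv_cancel_left], ← mul_assoc (m' : Λ), mul_comm (e m)⁻¹, mul_inv_cancel_right,
          mul_comm]
      exact Subtype.ext (inv_mul_eq_one.mp (hfpfp _ (hgt a) _ h7))
    obtain ⟨m, hm⟩ := Finite.surjective_of_injective hinj ⟨_, h5⟩
    have h6 : (m : Λ)⁻¹ * e m = c⁻¹ * e c := congrArg Subtype.val hm
    have h7 : e (c * (m : Λ)⁻¹) = c * (m : Λ)⁻¹ := by
      rw [map_mul, map_inv, show e c = c * ((m : Λ)⁻¹ * e m) by rw [h6, mul_inv_cancel_left],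
        ← mul_assoc c, mul_inv_cancel_right]
    have := hfpfp _ (hgt a) _ h7
    rw [mul_inv_eq_one.mp this]
    exact m.2
  -- counting
  haveI : Finite (Λ ⧸ M) := inferInstance
  set P := Finset.univ.filter fun p : t.primeFactors => ∃ a, g a = p with hP
  have hcard : Nat.card (Λ ⧸ M) ≤ P.card := by
    rw [← Nat.card_eq_finsetCard]
    refine Nat.card_le_card_of_injective
      (fun q => ⟨⟨g q.out, hgt q.out⟩, Finset.mem_filter.mpr ⟨Finset.mem_univ _, q.out, rfl⟩⟩) ?_
    intro q q' hqq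
    have := hsep _ _ (congrArg (fun r => r.1.1) hqq)
    rw [← q.out_eq, ← q'.out_eq, QuotientGroup.eq]
    exact this
  have hQ : Nat.card (Λ ⧸ M) = 1 := by
    by_contra hne
    have hpos : 0 < Nat.card (Λ ⧸ M) := Nat.card_pos
    have hsub : P.card ≤ (Finset.Icc 2 (Nat.card (Λ ⧸ M) - 1)).card := by
      refine Finset.card_le_card_of_injOn (fun p => p.1) (fun p hp => ?_)
        (fun a _ b _ e => Subtype.ext e)
      obtain ⟨a, ha⟩ := (Finset.mem_filter.mp hp).2
      obtain ⟨hpp, hpt, -⟩ := Nat.mem_primeFactors.mp p.2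
      haveI := Fact.mk hpp
      set e := E ^ jOf f t p with he
      have hord : e ^ p.1 ^ (f.factorization p - (t.factorization p - 1)) = 1 := by
        rw [he, ← pow_mul, jOf, mul_assoc, ← pow_add]
        have h2 := (Nat.factorization_le_iff_dvd ht0 hf).mpr ht p.1
        rw [Nat.add_sub_cancel' (by omega), mul_comm, Nat.ordProj_mul_ordCompl_eq_self, hE]
      have hMe : ∀ b ∈ M, e b ∈ M := by rw [he, ← ha]; exact hMinv a
      have c1 := card_modEq_one e hord (hfpfp _ p.2) M hMe
      have c2 := card_modEq_one e hord (hfpfp _ p.2) ⊤ fun _ _ => Subgroup.mem_top _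
      rw [Subgroup.card_top, Subgroup.card_eq_card_quotient_mul_card_subgroup M] at c2
      have c3 : Nat.card (Λ ⧸ M) * Nat.card M ≡ Nat.card (Λ ⧸ M) * 1 [MOD p] :=
        Nat.ModEq.mul_left _ c1
      rw [mul_one] at c3
      have c4 : p.1 ∣ Nat.card (Λ ⧸ M) - 1 :=
        (Nat.modEq_iff_dvd' hpos).mp (c2.symm.trans c3)
      have := Nat.le_of_dvd (by omega) c4
      simp only [Finset.coe_Icc, Set.mem_Icc]
      exact ⟨hpp.two_le, this⟩
    rw [Nat.card_Icc] at hsub
    omega
  intro a
  rw [← Subgroup.index_eq_card, Subgroup.index_eq_one] at hQ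
  exact (hQ ▸ Subgroup.mem_top a : a ∈ M)

end CfsgLib.NDDeg
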