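import Cfsg.Agent.Lib.NDDeg.Tools
import Cfsg.Agent.Lib.Higman.LowerCentralLie

/-!
# The first layers of a `q`-group with an automorphism without proper divisibilities
-/

set_option autoImplicit false
set_option linter.style.haveILetI false
set_option linter.unusedSectionVars false

namespace CfsgLib.NDDeg

open Cfsg CfsgLib.Char CfsgLib.NDTwoComp CfsgLib.Higman
open scoped ComplexConjugate CfsgLib.Char commutatorElement

universe u

/-- In an antichain of periods all periods are equal. -/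
theorem period_uniform {Γ : Type*} [CommGroup Γ] (E : MulAut Γ) (o : Γ → ℕ)
    (ho : ∀ a j, o a ∣ j ↔ (E ^ j) a = a)
    (hanti : ∀ a b, a ≠ 1 → b ≠ 1 → o a ∣ o b → o a = o b) {a b : Γ} (ha : a ≠ 1) (hb : b ≠ 1) :
    o a = o b := by
  have hinv : ∀ x, o x⁻¹ = o x := fun x => Nat.dvd_antisymm
    ((ho _ _).mpr (by rw [map_inv, (ho x _).mp dvd_rfl]))
    ((ho _ _).mpr (inv_injective (by rw [← map_inv, (ho x⁻¹ _).mp dvd_rfl])))
  by_contra hne
  by_cases hab : a * b = 1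
  · exact hne (by rw [eq_inv_of_mul_eq_one_right hab, hinv])
  set j := o (a * b)
  have hj : (E ^ j) a * (E ^ j) b = a * b := by rw [← map_mul]; exact (ho _ _).mp dvd_rfl
  set d := (E ^ j) a * a⁻¹ with hd
  have hd' : d = b * ((E ^ j) b)⁻¹ := by
    rw [hd, eq_mul_inv_iff_mul_eq, mul_right_comm, hj, mul_comm a b, mul_inv_cancel_right]
  have hcomm : ∀ (i : ℕ) x, (E ^ i) ((E ^ j) x) = (E ^ j) ((E ^ i) x) := fun i x => by
    rw [← MulAut.mul_apply, ← MulAut.mul_apply, ← pow_add, ← pow_add, add_comm]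
  by_cases hd1 : d = 1
  · have e1 : o a ∣ j := (ho _ _).mpr (mul_inv_eq_one.mp hd1)
    have e2 : o b ∣ j := (ho _ _).mpr (mul_inv_eq_one.mp (hd' ▸ hd1)).symm
    exact hne ((hanti a _ ha hab e1).trans (hanti b _ hb hab e2).symm)
  · have e1 : o d ∣ o a := (ho _ _).mpr (by
      rw [hd, map_mul, map_inv, hcomm, (ho a _).mp dvd_rfl])
    have e2 : o d ∣ o b := (ho _ _).mpr (by
      rw [hd', map_mul, map_inv, hcomm, (ho b _).mp dvd_rfl])
    exact hne ((hanti d a hd1 ha e1).symm.trans (hanti d b hd1 hb e2))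

variable {P : Type u} [Group P] [Finite P]

/-- A multiple of a linear character is irreducible only in degree one. -/
theorem degree_one_of_eq (ψ : IrrCharacter P) (ρ : P →* ℂˣ)
    (he : ∀ g, (ψ : P → ℂ) g = (ρ g : ℂ) * (ψ : P → ℂ) 1) : (ψ : P → ℂ) 1 = 1 := by
  classical
  haveI := Fintype.ofFinite P
  by_contra hne
  have hρ : (ψ : P → ℂ) ≠ fun k => (ρ k : ℂ) := fun e => hne (by rw [e]; simp)
  have h1 := classInner_irr ψ.2 (isIrrCharacter_monoidHom ρ)
  rw [if_neg hρ, show (ψ : P → ℂ) = (ψ : P → ℂ) 1 • fun k => (ρ k : ℂ) from funext fun g => by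
    rw [Pi.smul_apply, smul_eq_mul, he g, mul_comm], classInner_smul_left,
    classInner_irr_self (isIrrCharacter_monoidHom ρ), mul_one] at h1
  exact irr_degree_ne_zero ψ.2 h1

namespace Op

variable (D : Op P)

/-- A character supported on a subgroup acting by scalars. -/
theorem supported (N : Subgroup P) (hσN : ∀ n ∈ N, D.σ n ∈ N) (ψ : IrrCharacter P)
    {d : ℕ} (hd : (ψ : P → ℂ) 1 = d) (hvan : ∀ g, g ∉ N → (ψ : P → ℂ) g = 0)
    (μ : N →* ℂˣ) (hμ : ∀ (n : N) (g : P), (ψ : P → ℂ) ((n : P) * g) = (μ n : ℂ) * (ψ : P → ℂ) g) :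
    d * d = N.index ∧ ∀ j, os D.σ (ψ : P → ℂ) ∣ j ↔
      ∀ n : N, μ ⟨(D.σ ^ j) n, D.pow_mem_of_apply_mem hσN j n n.2⟩ = μ n := by
  classical
  haveI := Fintype.ofFinite P
  haveI := Fintype.ofFinite N
  have hval : ∀ n : N, (ψ : P → ℂ) n = (μ n : ℂ) * d := fun n => by
    have := hμ n 1
    rwa [mul_one, hd] at this
  constructor
  · have h1 := classInner_irr_self ψ.2
    simp only [classInner] at h1
    have h2 : ∑ g : P, (ψ : P → ℂ) g * conj ((ψ : P → ℂ) g) = (Nat.card N : ℂ) * (d * d) := by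
      rw [← Finset.sum_subset (Finset.subset_univ (Finset.univ.filter (· ∈ N))) fun g _ hg => by
          rw [hvan g (fun h => hg (by simp [h])), zero_mul],
        Finset.sum_subtype (p := (· ∈ N)) (F := inferInstance) (Finset.univ.filter (· ∈ N)) (by simp)
          (fun g => (ψ : P → ℂ) g * conj ((ψ : P → ℂ) g))]
      rw [Finset.sum_eq_card_nsmul (b := ((d : ℂ) * d)), nsmul_eq_mul, Finset.card_univ,
        ← Nat.card_eq_fintype_card]
      intro n _
      rw [hval, map_mul, map_natCast, mul_mul_mul_comm]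
      have := CfsgLib.ThreeDegrees.linear_mul_conj μ n
      rw [this, one_mul]
    rw [h2, inv_mul_eq_one₀ (Nat.cast_ne_zero.mpr Nat.card_pos.ne'), ← N.card_mul_index] at h1
    have h3 : Nat.card N * N.index = Nat.card N * (d * d) := by exact_mod_cast h1
    exact (Nat.eq_of_mul_eq_mul_left Nat.card_pos h3).symm
  · intro j
    rw [os_dvd_iff]
    have hd0 : (d : ℂ) ≠ 0 := hd ▸ irr_degree_ne_zero ψ.2
    have hinj : Function.Injective fun n : N =>
        (⟨(D.σ ^ j) n, D.pow_mem_of_apply_mem hσN j n n.2⟩ : N) := fun a b e =>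
      Subtype.ext ((D.σ ^ j).injective (congrArg Subtype.val e))
    constructor
    · intro h n
      have := h n
      rw [hval ⟨_, D.pow_mem_of_apply_mem hσN j n n.2⟩, hval] at this
      exact Units.ext (mul_right_cancel₀ hd0 this)
    · intro h g
      by_cases hg : g ∈ N
      · rw [hval ⟨_, D.pow_mem_of_apply_mem hσN j g hg⟩, hval ⟨g, hg⟩, h ⟨g, hg⟩]
      · rw [hvan g hg, hvan]
        intro hmem
        obtain ⟨m, hm⟩ := Finite.surjective_of_injective hinj ⟨_, hmem⟩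
        exact hg ((D.σ ^ j).injective (congrArg Subtype.val hm) ▸ m.2)

end Op

/-- A `q`-group with an automorphism of order prime to `q` without proper divisibilities. -/
structure QOp (P : Type u) [Group P] (q : ℕ) where
  D : Op P
  hP : IsPGroup q P
  hper : D.σ ^ D.f = 1
  hne : commutator P ≠ ⊥

namespace QOp

variable {q : ℕ} [Fact q.Prime] (S : QOp P q)

theorem gam_one : gam P 1 = commutator P := rfl

theorem apply_gam {i : ℕ} {g : P} (hg : g ∈ gam P i) (j : ℕ) : (S.D.σ ^ j) g ∈ gam P i :=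
  apply_mem_gam _ hg

theorem gam_le_Z0 {i : ℕ} (hi : 1 ≤ i) : gam P i ≤ S.D.Z0 := (gam_anti hi).trans S.D.commutator_le_Z0

include S in
theorem gam_succ_lt {i : ℕ} (h : gam P i ≠ ⊥) : ¬ gam P i ≤ gam P (i + 1) := fun hle => by
  haveI : Group.IsNilpotent P := IsPGroup.isNilpotent S.hP
  obtain ⟨n, hn⟩ := Subgroup.nilpotent_iff_lowerCentralSeries.mp (inferInstance : Group.IsNilpotent P)
  have hall : ∀ k, gam P i ≤ gam P k := by
    intro k
    induction k with
    | zero => exact gam_anti (Nat.zero_le _)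
    | succ k ih => exact hle.trans (Subgroup.commutator_mono ih le_rfl)
  exact h (le_bot_iff.mp ((hall n).trans hn.le))

theorem exists_index_Z0 : ∃ x : P, x ∉ S.D.Z0 := by
  obtain ⟨μ, hμ⟩ := S.D.moved
  by_contra h
  push Not at h
  have : os S.D.σ (fun k => (μ k : ℂ)) = 1 := (S.D.os_eq_one_iff _).mpr fun k => by
    have h1 := congrArg (Abelianization.lift μ) (S.D.mem_Z0.mp (h k))
    simpa using congrArg Units.val h1
  have := S.D.one_lt
  omega

theorem index_pow : ∃ k, 0 < k ∧ S.D.Z0.index = q ^ k := by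
  obtain ⟨k, hk⟩ := S.hP.index S.D.Z0
  refine ⟨k, Nat.pos_of_ne_zero fun h => ?_, hk⟩
  obtain ⟨x, hx⟩ := S.exists_index_Z0
  rw [h, pow_zero, Subgroup.index_eq_one] at hk
  exact hx (hk ▸ Subgroup.mem_top x)

theorem coprime_card : S.D.f.Coprime (Nat.card P) := by
  obtain ⟨k, hk0, hk⟩ := S.index_pow
  obtain ⟨n, hn⟩ := S.hP.exists_card_eq
  have h := S.D.coprime_index
  rw [hk, Nat.coprime_pow_left_iff hk0] at h
  rw [hn]
  exact (h.pow_left n).symm

theorem not_dvd_f : ¬ q ∣ S.D.f := by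
  obtain ⟨k, hk0, hk⟩ := S.index_pow
  have h := S.D.coprime_index
  rw [hk, Nat.coprime_pow_left_iff hk0] at h
  exact (Nat.Prime.coprime_iff_not_dvd Fact.out).mp h

/-- The moved part. -/
noncomputable def Rm : Subgroup P := (dlHom S.D.σ 1).range.comap Abelianization.of

theorem mem_gam_one_of {r : P} (hr : r ∈ S.Rm) (hz : r ∈ S.D.Z0) : r ∈ gam P 1 := by
  have h : Abelianization.of r ∈ (dlHom S.D.σ 1).range ⊓ (dlHom S.D.σ 1).ker :=
    Subgroup.mem_inf.mpr ⟨hr, hz⟩
  rw [S.D.range_inf_ker, Subgroup.mem_bot, ← MonoidHom.mem_ker, Abelianization.ker_of] at h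
  exact h

theorem apply_Rm {r : P} (hr : r ∈ S.Rm) (j : ℕ) : (S.D.σ ^ j) r ∈ S.Rm := by
  obtain ⟨x, hx⟩ := hr
  obtain ⟨k, rfl⟩ : ∃ k, Abelianization.of k = x := QuotientGroup.mk_surjective x
  refine ⟨Abelianization.of ((S.D.σ ^ j) k), ?_⟩
  rw [dlHom_of, pow_one] at hx ⊢
  have := congrArg (Abelianization.map (S.D.σ ^ j).toMonoidHom) hx
  rw [map_mul, map_inv] at this
  simp only [Abelianization.map_of, MulEquiv.coe_toMonoidHom] at this
  rw [← this, ← MulAut.mul_apply, ← MulAut.mul_apply, ← pow_succ, ← pow_succ']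

theorem exists_decomp (k : P) :
    ∃ r ∈ S.Rm, ∃ c, S.D.σ c = c ∧ ∃ w ∈ gam P 1, k = r * c * w := by
  obtain ⟨x, ⟨y, hy⟩, z, hz, hk⟩ := S.D.exists_decomp (Abelianization.of k)
  obtain ⟨r, rfl⟩ : ∃ r, Abelianization.of r = x := QuotientGroup.mk_surjective x
  obtain ⟨z', rfl⟩ : ∃ z', Abelianization.of z' = z := QuotientGroup.mk_surjective z
  rw [MonoidHom.mem_ker, dlHom_of, pow_one, mul_inv_eq_one] at hz
  obtain ⟨c, hc, hzc⟩ := exists_fixed_mem_coset S.D.σ S.hper S.coprime_card (commutator P)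
    (fun n hn => apply_mem_gam (i := 1) S.D.σ hn) z' (by
      rw [← Abelianization.ker_of, MonoidHom.mem_ker, map_mul, map_inv, hz, inv_mul_cancel])
  refine ⟨r, ⟨y, hy⟩, c, hc, (r * c)⁻¹ * k, ?_, (mul_inv_cancel_left _ _).symm⟩
  rw [gam_one, ← Abelianization.ker_of, MonoidHom.mem_ker, map_mul, map_inv, map_mul]
  have : Abelianization.of c = Abelianization.of z' := by
    rw [← Abelianization.ker_of, MonoidHom.mem_ker, map_mul, map_inv, inv_mul_eq_one] at hzc
    exact hzc.symm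
  rw [this, hk, inv_mul_cancel]

theorem exists_decomp_Z0 {z : P} (hz : z ∈ S.D.Z0) :
    ∃ c, S.D.σ c = c ∧ ∃ w ∈ gam P 1, z = c * w := by
  obtain ⟨c, hc, hzc⟩ := exists_fixed_mem_coset S.D.σ S.hper S.coprime_card (commutator P)
    (fun n hn => apply_mem_gam (i := 1) S.D.σ hn) z (by
      rw [S.D.mem_Z0] at hz
      rw [← Abelianization.ker_of, MonoidHom.mem_ker, map_mul, map_inv, hz, inv_mul_cancel])
  refine ⟨c, hc, c⁻¹ * z, ?_, (mul_inv_cancel_left _ _).symm⟩
  have := inv_mem hzc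
  rwa [mul_inv_rev, inv_inv] at this

theorem fixed_mem_Z0 {c : P} (hc : S.D.σ c = c) : c ∈ S.D.Z0 := by rw [S.D.mem_Z0, hc]

theorem fixed_pow {c : P} (hc : S.D.σ c = c) (j : ℕ) : (S.D.σ ^ j) c = c := by
  induction j with
  | zero => simp
  | succ j ih => rw [pow_succ, MulAut.mul_apply, hc, ih]

theorem exists_Rm_notMem : ∃ r ∈ S.Rm, r ∉ S.D.Z0 := by
  obtain ⟨x, hx⟩ := S.exists_index_Z0
  obtain ⟨r, hr, c, hc, w, hw, rfl⟩ := S.exists_decomp x
  exact ⟨r, hr, fun h => hx (mul_mem (mul_mem h (S.fixed_mem_Z0 hc)) (S.gam_le_Z0 le_rfl hw))⟩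

/-- The commutators with an element outside `Z0` fill the derived subgroup. -/
theorem exists_comm {a : P} (ha : a ∉ S.D.Z0) {w : P} (hw : w ∈ gam P 1) : ∃ s : P, ⁅s, a⁆ = w := by
  obtain ⟨s, hs⟩ := isConj_iff.mp (S.D.isConj_of_notMem ha (z := w * a) (by
    rw [mul_inv_rev]
    have := (inferInstance : (commutator P).Normal).conj_mem _ (inv_mem (gam_one (P := P) ▸ hw)) a⁻¹
    simpa [mul_assoc] using this)).symm
  exact ⟨s, by rw [commutatorElement_def, hs, mul_inv_cancel_right]⟩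

/-- The induced map on a factor of the lower central series. -/
noncomputable def sQ (i : ℕ) (j : ℕ) : Q P i →* Q P i :=
  QuotientGroup.map _ _
    { toFun := fun g : gam P i => (⟨(S.D.σ ^ j) g, S.apply_gam g.2 j⟩ : gam P i)
      map_one' := Subtype.ext (map_one _)
      map_mul' := fun a b => Subtype.ext (map_mul (S.D.σ ^ j) (a : P) b) }
    fun g hg => S.apply_gam (i := i + 1) hg j

theorem sQ_mk (i j : ℕ) (g : gam P i) :
    S.sQ i j (QuotientGroup.mk g) = QuotientGroup.mk ⟨(S.D.σ ^ j) g, S.apply_gam g.2 j⟩ := rfl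

/-- A linear character of a factor is fixed by a power of `σ`. -/
def Fix (i : ℕ) (ν : Q P i →* ℂˣ) (j : ℕ) : Prop := ∀ x, ν (S.sQ i j x) = ν x

/-- The value of a linear character of a factor. -/
noncomputable def val {i : ℕ} (ν : Q P i →* ℂˣ) (g : P) : ℂˣ :=
  open Classical in if h : g ∈ gam P i then ν (QuotientGroup.mk ⟨g, h⟩) else 1

theorem val_of_mem {i : ℕ} (ν : Q P i →* ℂˣ) {g : P} (h : g ∈ gam P i) :
    val ν g = ν (QuotientGroup.mk ⟨g, h⟩) := dif_pos h

theorem val_mul {i : ℕ} (ν : Q P i →* ℂˣ) {g h : P} (hg : g ∈ gam P i) (hh : h ∈ gam P i) :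
    val ν (g * h) = val ν g * val ν h := by
  rw [val_of_mem ν hg, val_of_mem ν hh, val_of_mem ν (mul_mem hg hh), ← map_mul]
  rfl

theorem val_succ {i : ℕ} (ν : Q P i →* ℂˣ) {g : P} (hg : g ∈ gam P (i + 1)) : val ν g = 1 := by
  have h := gam_anti (Nat.le_succ i) hg
  rw [val_of_mem ν h, (QuotientGroup.eq_one_iff _).mpr (Subgroup.mem_subgroupOf.mpr hg), map_one]

theorem val_one {i : ℕ} (ν : Q P i →* ℂˣ) : val ν (1 : P) = 1 := val_succ ν (one_mem _)

theorem val_inv {i : ℕ} (ν : Q P i →* ℂˣ) {g : P} (hg : g ∈ gam P i) :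
    val ν g⁻¹ = (val ν g)⁻¹ := by
  rw [eq_inv_iff_mul_eq_one, ← val_mul ν (inv_mem hg) hg, inv_mul_cancel, val_one]

theorem val_conj {i : ℕ} (ν : Q P i →* ℂˣ) {g : P} (hg : g ∈ gam P i) (x : P) :
    val ν (x * g * x⁻¹) = val ν g := by
  have hc : ⁅x, g⁆ ∈ gam P (i + 1) := by
    have := comm_mem (i := 0) (j := i) (Subgroup.mem_top x) hg
    rwa [Nat.zero_add] at this
  rw [show x * g * x⁻¹ = ⁅x, g⁆ * g by simp [commutatorElement_def, mul_assoc],
    val_mul ν (gam_anti (Nat.le_succ i) hc) hg, val_succ ν hc, one_mul]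

theorem Fix.val_eq {i j : ℕ} {ν : Q P i →* ℂˣ} (h : S.Fix i ν j) {g : P} (hg : g ∈ gam P i) :
    val ν ((S.D.σ ^ j) g) = val ν g := by
  rw [val_of_mem ν hg, val_of_mem ν (S.apply_gam hg j)]
  exact h (QuotientGroup.mk ⟨g, hg⟩)

theorem fix_of_val {i j : ℕ} {ν : Q P i →* ℂˣ}
    (h : ∀ g ∈ gam P i, val ν ((S.D.σ ^ j) g) = val ν g) : S.Fix i ν j := fun x => by
  obtain ⟨g, rfl⟩ := QuotientGroup.mk_surjective x
  have := h g g.2
  rwa [val_of_mem ν g.2, val_of_mem ν (S.apply_gam g.2 j)] at this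

theorem mem_succ_of_val {i : ℕ} {g : P} (hg : g ∈ gam P i)
    (h : ∀ ν : Q P i →* ℂˣ, val ν g = 1) : g ∈ gam P (i + 1) := by
  by_contra hn
  have hne : (QuotientGroup.mk ⟨g, hg⟩ : Q P i) ≠ 1 := fun e =>
    hn (Subgroup.mem_subgroupOf.mp ((QuotientGroup.eq_one_iff _).mp e))
  obtain ⟨φ, hφ⟩ := CommGroup.exists_apply_ne_one_of_hasEnoughRootsOfUnity _ ℂ hne
  exact hφ ((val_of_mem φ hg).symm.trans (h φ))

/-- A character above a nontrivial linear character of a factor. -/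
theorem exists_above {i : ℕ} (hi : 1 ≤ i) {ν : Q P i →* ℂˣ} (hν : ν ≠ 1) :
    ∃ (ψ : IrrCharacter P) (d : ℕ), (ψ : P → ℂ) 1 = d ∧ d ≠ 1 ∧
      (∀ g ∈ gam P i, (ψ : P → ℂ) g = (val ν g : ℂ) * d) ∧
      ∀ j, os S.D.σ (ψ : P → ℂ) ∣ j → S.Fix i ν j := by
  classical
  haveI := Fintype.ofFinite P
  haveI := Fintype.ofFinite (gam P i)
  let μ : gam P i →* ℂˣ := ν.comp (QuotientGroup.mk' _)
  obtain ⟨ψ, hψ⟩ := exists_over (gam P i) ⟨_, isIrrCharacter_monoidHom μ⟩
  haveI : (gam P i).Normal := Subgroup.lowerCentralSeries_normal ⊤ i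
  have hres := clifford_invariant (gam P i) ψ.2 (isIrrCharacter_monoidHom μ) (fun g => funext fun n => by
    simp only [conjBy]
    have h1 : μ ⟨g * n * g⁻¹, (inferInstance : (gam P i).Normal).conj_mem n n.2 g⟩ = μ n := by
      show ν (QuotientGroup.mk _) = ν (QuotientGroup.mk n)
      rw [← val_of_mem ν (g := g * n * g⁻¹), val_conj ν n.2, val_of_mem ν n.2]
    rw [h1]) hψ
  obtain ⟨d, -, hd⟩ := exists_nat_degree_irr ψ.2
  have h1 := congrFun hres 1
  simp only [Pi.smul_apply, smul_eq_mul, map_one, Units.val_one, mul_one, OneMemClass.coe_one] at h1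
  have hval : ∀ g ∈ gam P i, (ψ : P → ℂ) g = (val ν g : ℂ) * d := fun g hg => by
    have h2 := congrFun hres ⟨g, hg⟩
    simp only [Pi.smul_apply, smul_eq_mul] at h2
    rw [h2, ← hd, h1, val_of_mem ν hg, mul_comm]
    rfl
  refine ⟨ψ, d, hd, fun hd1 => hν ?_, hval, fun j hj => S.fix_of_val fun g hg => ?_⟩
  · refine MonoidHom.ext fun x => ?_
    obtain ⟨g, rfl⟩ := QuotientGroup.mk_surjective x
    rw [MonoidHom.one_apply]
    refine Units.ext ?_
    have hg : (g : P) ∈ commutator P := gam_anti hi g.2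
    have hle : commutator P ≤ (linearHom (isCharacter_of_isIrr ψ.2) (by rw [hd, hd1, Nat.cast_one])).ker :=
      Abelianization.commutator_subset_ker _
    have := congrArg Units.val (MonoidHom.mem_ker.mp (hle hg))
    rw [linearHom_apply, hval g g.2, hd1, Nat.cast_one, mul_one, val_of_mem ν g.2] at this
    simpa using this
  · have h := (os_dvd_iff _ _ _).mp hj g
    rw [hval g hg, hval _ (S.apply_gam hg j)] at h
    exact Units.ext (mul_right_cancel₀ (hd ▸ irr_degree_ne_zero ψ.2) h)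

/-- The commutator pairing with a fixed element. -/
noncomputable def pairHom {i : ℕ} (ν : Q P i →* ℂˣ) (z : P) (hz : ∀ x : P, ⁅x, z⁆ ∈ gam P i) :
    P →* ℂˣ where
  toFun x := val ν ⁅x, z⁆
  map_one' := by rw [commutatorElement_one_left, val_one]
  map_mul' x y := by
    rw [show ⁅x * y, z⁆ = x * ⁅y, z⁆ * x⁻¹ * ⁅x, z⁆ by simp [commutatorElement_def, mul_assoc],
      val_mul ν ((Subgroup.lowerCentralSeries_normal ⊤ i).conj_mem _ (hz y) x) (hz x),
      val_conj ν (hz y), mul_comm]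

/-- Commutators of the moved part with an element whose image is fixed. -/
theorem val_comm_eq_one {i j : ℕ} {ν : Q P i →* ℂˣ} (hν : S.Fix i ν j) (hj : ¬ S.D.f ∣ j)
    {z : P} (hz : ∀ x : P, ⁅x, z⁆ ∈ gam P i)
    (hσz : ∀ x : P, ⁅x, z⁻¹ * (S.D.σ ^ j) z⁆ ∈ gam P (i + 1)) {r : P} (hr : r ∈ S.Rm) :
    val ν ⁅r, z⁆ = 1 := by
  set χ := pairHom ν z hz
  have hfix : ∀ x, χ ((S.D.σ ^ j) x) = χ x := fun x => by
    show val ν ⁅(S.D.σ ^ j) x, z⁆ = val ν ⁅x, z⁆
    rw [← hν.val_eq S (hz x), map_commutatorElement]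
    set x' := (S.D.σ ^ j) x
    set w := z⁻¹ * (S.D.σ ^ j) z
    rw [show (S.D.σ ^ j) z = z * w from (mul_inv_cancel_left _ _).symm,
      show ⁅x', z * w⁆ = ⁅x', z⁆ * (z * ⁅x', w⁆ * z⁻¹) by simp [commutatorElement_def, mul_assoc],
      val_mul ν (hz x') ((Subgroup.lowerCentralSeries_normal ⊤ i).conj_mem _
        (gam_anti (Nat.le_succ i) (hσz x')) z),
      val_conj ν (gam_anti (Nat.le_succ i) (hσz x')), val_succ ν (hσz x'), mul_one]
  obtain ⟨x, hx⟩ : Abelianization.of r ∈ (dlHom S.D.σ j).range := S.D.range_eq hj ▸ hr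
  obtain ⟨k, rfl⟩ : ∃ k, Abelianization.of k = x := QuotientGroup.mk_surjective x
  have := congrArg (Abelianization.lift χ) hx
  rw [dlHom_of, map_mul, map_inv] at this
  simp only [Abelianization.lift_apply_of, hfix, mul_inv_cancel] at this
  exact this.symm

theorem comm_fixed {i : ℕ} (hi : 1 ≤ i) {c : P} (hc : S.D.σ c = c)
    (hz : ∀ x : P, ⁅x, c⁆ ∈ gam P i) {r : P} (hr : r ∈ S.Rm) : ⁅r, c⁆ ∈ gam P (i + 1) := by
  refine mem_succ_of_val (hz r) fun ν => ?_
  by_cases hν : ν = 1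
  · subst hν
    rw [val_of_mem _ (hz r), MonoidHom.one_apply]
  obtain ⟨ψ, d, hd, hd1, -, hfix⟩ := S.exists_above hi hν
  exact S.val_comm_eq_one (hfix _ dvd_rfl) (S.D.not_f_dvd_os ψ hd hd1) hz (fun x => by
    rw [S.fixed_pow hc, inv_mul_cancel, commutatorElement_one_right]; exact one_mem _) hr

theorem comm_gam_one (x y : P) : ⁅x, y⁆ ∈ gam P 1 :=
  Subgroup.commutator_mem_commutator (Subgroup.mem_top x) (Subgroup.mem_top y)

theorem comm_gam {i : ℕ} {g : P} (hg : g ∈ gam P i) (x : P) : ⁅x, g⁆ ∈ gam P (i + 1) := by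
  have := comm_mem (i := 0) (j := i) (Subgroup.mem_top x) hg
  rwa [Nat.zero_add] at this

theorem comm_Rm_Z0 {r z : P} (hr : r ∈ S.Rm) (hz : z ∈ S.D.Z0) : ⁅r, z⁆ ∈ gam P 2 := by
  obtain ⟨c, hc, w, hw, rfl⟩ := S.exists_decomp_Z0 hz
  rw [show ⁅r, c * w⁆ = ⁅r, c⁆ * (c * ⁅r, w⁆ * c⁻¹) by simp [commutatorElement_def, mul_assoc]]
  exact mul_mem (S.comm_fixed le_rfl hc (fun x => comm_gam_one x c) hr)
    ((Subgroup.lowerCentralSeries_normal ⊤ 2).conj_mem _ (comm_gam hw r) c)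

/-- The second layer consists of commutators of the moved part. -/
theorem exists_comm_Rm {a : P} (ha : a ∈ S.Rm) (haZ : a ∉ S.D.Z0) {w : P} (hw : w ∈ gam P 1) :
    ∃ r ∈ S.Rm, el 1 ⁅r, a⁆ = el 1 w := by
  obtain ⟨s, hs⟩ := S.exists_comm haZ hw
  obtain ⟨r, hr, c, hc, v, hv, rfl⟩ := S.exists_decomp s
  refine ⟨r, hr, ?_⟩
  have hcv : ⁅c * v, a⁆ ∈ gam P 2 := by
    rw [← commutatorElement_inv]
    exact inv_mem (S.comm_Rm_Z0 ha (mul_mem (S.fixed_mem_Z0 hc) (S.gam_le_Z0 le_rfl hv)))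
  rw [← hs, mul_assoc r c v,
    show ⁅r * (c * v), a⁆ = r * ⁅c * v, a⁆ * r⁻¹ * ⁅r, a⁆ by simp [commutatorElement_def, mul_assoc],
    el_mul ((Subgroup.lowerCentralSeries_normal ⊤ 1).conj_mem _ (gam_anti (by omega) hcv) r)
      (comm_gam_one r a),
    el_conj (gam_anti (by omega) hcv), el_of_mem_succ hcv, zero_add]

theorem el_pow {i : ℕ} {g : P} (hg : g ∈ gam P i) (n : ℕ) : el i (g ^ n) = n • el i g := by
  induction n with
  | zero => rw [pow_zero, el_one, zero_smul]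
  | succ n ih => rw [pow_succ, el_mul (pow_mem hg n) hg, ih, succ_nsmul]

theorem el_comm_pow_left (g : P) (hg : g ∈ gam P 0) {j : ℕ} {h : P} (hh : h ∈ gam P j) (n : ℕ) :
    el (0 + j + 1) ⁅g ^ n, h⁆ = n • el (0 + j + 1) ⁅g, h⁆ := by
  induction n with
  | zero => rw [pow_zero, commutatorElement_one_left, el_one, zero_smul]
  | succ n ih => rw [pow_succ, el_comm_mul_left (pow_mem hg n) hg hh, ih, succ_nsmul]

/-- The moved part has exponent `q` modulo the derived subgroup. -/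
theorem pow_mem_gam_one {r : P} (hr : r ∈ S.Rm) : r ^ q ∈ gam P 1 := by
  by_contra hn
  have hZ : r ^ q ∉ S.D.Z0 := fun h => hn (S.mem_gam_one_of (pow_mem hr q) h)
  -- every element of the second layer would be a `q`-th power
  have hsurj : Function.Surjective fun x : Q P 1 => x ^ q := fun x => by
    obtain ⟨w, rfl⟩ := QuotientGroup.mk_surjective x
    obtain ⟨s, hs⟩ := S.exists_comm hZ w.2
    refine ⟨QuotientGroup.mk ⟨⁅s, r⁆, comm_gam_one s r⟩, ?_⟩
    show _ ^ q = _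
    rw [← QuotientGroup.mk_pow, QuotientGroup.eq, Subgroup.mem_subgroupOf]
    have hm : ⁅s, r⁆ ^ q ∈ gam P 1 := pow_mem (comm_gam_one s r) q
    refine (el_eq_zero_iff (mul_mem (inv_mem hm) w.2)).mp ?_
    rw [el_mul (inv_mem hm) w.2, el_inv hm, el_pow (comm_gam_one s r), ← hs]
    have e := el_comm_pow_left r (Subgroup.mem_top r) (j := 0) (Subgroup.mem_top s) q
    have e2 := el_comm_swap (i := 0) (j := 0) (Subgroup.mem_top (r ^ q)) (Subgroup.mem_top s)
    simp only [Nat.zero_add] at e e2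
    rw [e2, e, el_comm_swap (i := 0) (j := 0) (Subgroup.mem_top r) (Subgroup.mem_top s)]
    simp
  have hinj := Finite.injective_iff_surjective.mpr hsurj
  refine S.gam_succ_lt (i := 1) S.hne fun g hg => ?_
  by_contra hg2
  obtain ⟨k, hk⟩ : ∃ k, (QuotientGroup.mk ⟨g, hg⟩ : Q P 1) ^ q ^ k = 1 := by
    obtain ⟨k, hk⟩ := S.hP g
    exact ⟨k, by rw [← QuotientGroup.mk_pow, QuotientGroup.eq_one_iff, Subgroup.mem_subgroupOf,
      Subgroup.coe_pow, hk]; exact one_mem _⟩
  have key : ∀ k (x : Q P 1), x ^ q ^ k = 1 → x = 1 := by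
    intro k
    induction k with
    | zero => intro x hx; simpa using hx
    | succ k ih => intro x hx; exact ih x (hinj (by simp only [one_pow, ← pow_mul, ← pow_succ, hx]))
  exact hg2 (Subgroup.mem_subgroupOf.mp ((QuotientGroup.eq_one_iff _).mp (key k _ hk)))

include S in
/-- The factors of the lower central series have exponent `q`. -/
theorem nsmul_el {i : ℕ} {g : P} (hg : g ∈ gam P (i + 1)) : q • el (i + 1) g = 0 := by
  induction i generalizing g with
  | zero =>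
    obtain ⟨a, ha, haZ⟩ := S.exists_Rm_notMem
    obtain ⟨r, hr, he⟩ := S.exists_comm_Rm ha haZ hg
    rw [← he]
    have e := el_comm_pow_left r (Subgroup.mem_top r) (j := 0) (Subgroup.mem_top a) q
    simp only [Nat.zero_add] at e
    rw [← e]
    exact el_of_mem_succ (comm_gam (i := 1) (S.pow_mem_gam_one hr) a |> fun h =>
      commutatorElement_inv a (r ^ q) ▸ inv_mem h)
  | succ i ih =>
    let T : Subgroup P :=
      { carrier := {x | x ∈ gam P (i + 2) ∧ q • el (i + 2) x = 0}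
        one_mem' := ⟨one_mem _, by rw [el_one, smul_zero]⟩
        mul_mem' := fun {a b} ha hb => ⟨mul_mem ha.1 hb.1, by
          rw [el_mul ha.1 hb.1, nsmul_add, ha.2, hb.2, add_zero]⟩
        inv_mem' := fun {a} ha => ⟨inv_mem ha.1, by rw [el_inv ha.1, smul_neg, ha.2, neg_zero]⟩ }
    have hle : gam P (i + 2) ≤ T := by
      rw [gam_succ (i + 1), Subgroup.commutator_le]
      intro a ha x hx
      have hm := comm_mem (j := 0) ha hx
      rw [Nat.add_zero] at hm
      refine ⟨hm, ?_⟩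
      rw [← br_el_el (i := i + 1) (j := 0) ha hx, ← AddMonoidHom.nsmul_apply, ← map_nsmul, ih ha,
        map_zero, AddMonoidHom.zero_apply]
    exact (hle hg).2

end QOp

end CfsgLib.NDDeg
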