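import Cfsg.Agent.Lib.NDDeg.CaseSplit
import Cfsg.Agent.Lib.NDDeg.CaseTwo

/-!
# Solvable groups without proper divisibilities among the nonlinear degrees
-/

set_option autoImplicit false
set_option linter.style.haveILetI false
set_option linter.unusedSectionVars false

namespace CfsgLib.NDDeg

open Cfsg CfsgLib.Char CfsgLib.NDTwoComp
open scoped ComplexConjugate CfsgLib.Char

universe u

variable {G : Type u} [Group G] [Finite G]

/-- At most four degrees, and derived length at most three. -/
theorem bounds [Group.IsSolvable G] (hnd : NoDivDeg G) : Bounds G := by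
  rcases bounds_or_frame hnd with h | ⟨⟨F⟩⟩
  · exact h
  set D := F.op hnd
  obtain ⟨q, hq, hqA⟩ := Nat.exists_prime_and_dvd (show D.Z0.index ≠ 1 from fun e => by
    obtain ⟨μ, hμ⟩ := D.moved
    have h1 : os D.σ (fun k => (μ k : ℂ)) = 1 := (D.os_eq_one_iff _).mpr fun k => by
      have hk : k ∈ D.Z0 := Subgroup.index_eq_one.mp e ▸ Subgroup.mem_top k
      have h2 := congrArg (Abelianization.lift μ) (D.mem_Z0.mp hk)
      simpa using congrArg Units.val h2
    have := D.one_lt
    omega)
  by_cases hqL : q ∣ Nat.card (commutator F.K)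
  · exact F.bounds_top hnd hq hqA hqL
  · exact F.bounds_split hnd hq hqA hqL

end CfsgLib.NDDeg
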