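import Cfsg.Agent.Lib.NDTwoComp.Basic
import Cfsg.Agent.Lib.NDDeg.Cover

/-!
# An automorphism with few orbit lengths on the linear characters

`Op K` records an automorphism `σ` of `K` whose `f`-th power is inner, such that the degrees
`(orbit length) * ψ 1` of the characters do not divide one another properly.
-/

set_option autoImplicit false
set_option linter.style.haveILetI false

namespace CfsgLib.NDDeg

open Cfsg CfsgLib.Char Function
open scoped ComplexConjugate CfsgLib.Char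

universe u

variable {K : Type u} [Group K]

/-- The twist of a function by an automorphism. -/
def twist (σ : MulAut K) (θ : K → ℂ) : K → ℂ := fun k => θ (σ k)

theorem twist_iterate (σ : MulAut K) (θ : K → ℂ) (j : ℕ) :
    (twist σ)^[j] θ = fun k => θ ((σ ^ j) k) := by
  induction j with
  | zero => rfl
  | succ j ih =>
    rw [iterate_succ_apply', ih]
    funext k
    rw [twist, pow_succ, MulAut.mul_apply]

/-- The length of the orbit of a function. -/
noncomputable def os (σ : MulAut K) (θ : K → ℂ) : ℕ := minimalPeriod (twist σ) θ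

theorem os_dvd_iff (σ : MulAut K) (θ : K → ℂ) (j : ℕ) :
    os σ θ ∣ j ↔ ∀ k, θ ((σ ^ j) k) = θ k := by
  rw [os, ← isPeriodicPt_iff_minimalPeriod_dvd, IsPeriodicPt, IsFixedPt, twist_iterate, funext_iff]

/-- The action of a power of `σ` on the abelianization, divided by the identity. -/
noncomputable def dlHom (σ : MulAut K) (j : ℕ) : Abelianization K →* Abelianization K :=
  Abelianization.map (σ ^ j).toMonoidHom * (MonoidHom.id _)⁻¹

theorem dlHom_of (σ : MulAut K) (j : ℕ) (k : K) :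
    dlHom σ j (Abelianization.of k) = Abelianization.of ((σ ^ j) k) * (Abelianization.of k)⁻¹ := rfl

/-- An automorphism without proper divisibilities. -/
structure Op (K : Type u) [Group K] where
  σ : MulAut K
  f : ℕ
  one_lt : 1 < f
  l : K
  inner : ∀ k, (σ ^ f) k = l * k * l⁻¹
  nd : ∀ (ψ φ : IrrCharacter K) (a b : ℕ), (ψ : K → ℂ) 1 = a → (φ : K → ℂ) 1 = b →
    os σ (ψ : K → ℂ) * a ≠ 1 → os σ (φ : K → ℂ) * b ≠ 1 →
    os σ (ψ : K → ℂ) * a ∣ os σ (φ : K → ℂ) * b → os σ (ψ : K → ℂ) * a = os σ (φ : K → ℂ) * b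
  moved : ∃ μ : K →* ℂˣ, os σ (fun k => (μ k : ℂ)) = f
  hnil : ∀ r : ℕ, r.Prime → (∀ s : ℕ, s.Prime → s ∣ f → s = r) →
    ¬ r ∣ Nat.card ↥(dlHom σ 1).range

namespace Op

variable (D : Op K)

theorem f_pos : 0 < D.f := by have := D.one_lt; omega

theorem os_dvd {θ : K → ℂ} (hθ : IsClassFunction K θ) : os D.σ θ ∣ D.f :=
  (os_dvd_iff _ _ _).mpr fun k => by rw [D.inner]; exact hθ k D.l

theorem os_pos {θ : K → ℂ} (hθ : IsClassFunction K θ) : 0 < os D.σ θ :=
  Nat.pos_of_dvd_of_pos (D.os_dvd hθ) D.f_pos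

theorem os_eq_one_iff (θ : K → ℂ) : os D.σ θ = 1 ↔ ∀ k, θ (D.σ k) = θ k := by
  rw [← Nat.dvd_one, os_dvd_iff, pow_one]

/-- Linear characters are fixed or have full orbits. -/
theorem linear_os (μ : K →* ℂˣ) :
    os D.σ (fun k => (μ k : ℂ)) = 1 ∨ os D.σ (fun k => (μ k : ℂ)) = D.f := by
  by_cases h : os D.σ (fun k => (μ k : ℂ)) = 1
  · exact Or.inl h
  obtain ⟨ν, hν⟩ := D.moved
  have := D.one_lt
  have h2 := D.nd ⟨_, isIrrCharacter_monoidHom μ⟩ ⟨_, isIrrCharacter_monoidHom ν⟩ 1 1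
    (by simp) (by simp) (by rwa [mul_one]) (by rw [mul_one, hν]; omega)
    (by rw [mul_one, mul_one, hν]; exact D.os_dvd (isClassFunction_of_isCharacter
      (isCharacter_monoidHom μ)))
  rw [mul_one, mul_one, hν] at h2
  exact Or.inr h2

theorem linear_fixed (μ : K →* ℂˣ) {j : ℕ} (hj : ¬ D.f ∣ j) (h : ∀ k, μ ((D.σ ^ j) k) = μ k)
    (k : K) : μ (D.σ k) = μ k := by
  rcases D.linear_os μ with h1 | h1
  · exact Units.ext ((D.os_eq_one_iff _).mp h1 k)
  · refine absurd ?_ hj
    rw [← h1, os_dvd_iff]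
    exact fun k => congrArg Units.val (h k)

/-- A nonlinear character has a short orbit. -/
theorem os_lt (ψ : IrrCharacter K) {a : ℕ} (ha : (ψ : K → ℂ) 1 = a) (ha1 : a ≠ 1) :
    os D.σ (ψ : K → ℂ) < D.f := by
  refine lt_of_le_of_ne (Nat.le_of_dvd D.f_pos (D.os_dvd (isClassFunction_irr ψ))) fun e => ha1 ?_
  obtain ⟨μ, hμ⟩ := D.moved
  have := D.one_lt
  have ha0 : a ≠ 0 := fun h => irr_degree_ne_zero ψ.2 (by rw [ha, h, Nat.cast_zero])
  have h2 := D.nd ⟨_, isIrrCharacter_monoidHom μ⟩ ψ 1 a (by simp) ha (by rw [hμ]; omega)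
    (fun h => ha1 (Nat.eq_one_of_mul_eq_one_left h)) (by rw [hμ, mul_one, e]; exact dvd_mul_right _ _)
  rw [hμ, mul_one, e] at h2
  exact (Nat.mul_eq_left (by omega)).mp h2.symm

theorem not_f_dvd_os (ψ : IrrCharacter K) {a : ℕ} (ha : (ψ : K → ℂ) 1 = a) (ha1 : a ≠ 1) :
    ¬ D.f ∣ os D.σ (ψ : K → ℂ) := fun h =>
  absurd (Nat.le_of_dvd (D.os_pos (isClassFunction_irr ψ)) h) (not_le.mpr (D.os_lt ψ ha ha1))

theorem map_pow_add (i j : ℕ) (x : Abelianization K) :
    Abelianization.map (D.σ ^ (i + j)).toMonoidHom x =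
      Abelianization.map (D.σ ^ i).toMonoidHom (Abelianization.map (D.σ ^ j).toMonoidHom x) := by
  obtain ⟨k, rfl⟩ : ∃ k, Abelianization.of k = x := QuotientGroup.mk_surjective x
  simp only [Abelianization.map_of, MulEquiv.coe_toMonoidHom, pow_add, MulAut.mul_apply]

theorem map_pow_f (x : Abelianization K) :
    Abelianization.map (D.σ ^ D.f).toMonoidHom x = x := by
  obtain ⟨k, rfl⟩ : ∃ k, Abelianization.of k = x := QuotientGroup.mk_surjective x
  rw [Abelianization.map_of, MulEquiv.coe_toMonoidHom, D.inner, map_mul, map_mul, map_inv,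
    mul_comm (Abelianization.of D.l), mul_inv_cancel_right]

theorem map_pow_zero (x : Abelianization K) :
    Abelianization.map (D.σ ^ 0).toMonoidHom x = x := by
  obtain ⟨k, rfl⟩ : ∃ k, Abelianization.of k = x := QuotientGroup.mk_surjective x
  rw [Abelianization.map_of, MulEquiv.coe_toMonoidHom, pow_zero, MulAut.one_apply]

theorem mem_ker_dlHom (j : ℕ) (x : Abelianization K) :
    x ∈ (dlHom D.σ j).ker ↔ Abelianization.map (D.σ ^ j).toMonoidHom x = x := by
  rw [MonoidHom.mem_ker]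
  exact mul_inv_eq_one

theorem dlHom_apply (j : ℕ) (x : Abelianization K) :
    dlHom D.σ j x = Abelianization.map (D.σ ^ j).toMonoidHom x * x⁻¹ := rfl

theorem ker_le (j : ℕ) : (dlHom D.σ 1).ker ≤ (dlHom D.σ j).ker := by
  intro x hx
  rw [mem_ker_dlHom] at hx ⊢
  induction j with
  | zero => exact D.map_pow_zero x
  | succ j ih => rw [map_pow_add, hx, ih]

theorem range_le (j : ℕ) : (dlHom D.σ j).range ≤ (dlHom D.σ 1).range := by
  rintro _ ⟨x, rfl⟩
  induction j generalizing x with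
  | zero => rw [dlHom_apply, map_pow_zero, mul_inv_cancel]; exact one_mem _
  | succ j ih =>
    have e : dlHom D.σ (j + 1) x =
        dlHom D.σ j (Abelianization.map (D.σ ^ 1).toMonoidHom x) * dlHom D.σ 1 x := by
      rw [dlHom_apply, dlHom_apply, dlHom_apply, map_pow_add, ← mul_assoc, inv_mul_cancel_right]
    rw [e]
    exact mul_mem (ih _) ⟨x, rfl⟩

variable [Finite K]

theorem range_eq {j : ℕ} (hj : ¬ D.f ∣ j) : (dlHom D.σ j).range = (dlHom D.σ 1).range := by
  refine le_antisymm (D.range_le j) ?_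
  rintro y hy
  by_contra hyj
  have hne : (y : Abelianization K ⧸ (dlHom D.σ j).range) ≠ 1 :=
    fun e => hyj ((QuotientGroup.eq_one_iff y).mp e)
  obtain ⟨φ, hφ⟩ := CommGroup.exists_apply_ne_one_of_hasEnoughRootsOfUnity _ ℂ hne
  set φ' := φ.comp (QuotientGroup.mk' (dlHom D.σ j).range) with hφ'
  have hker : ∀ x, φ' (dlHom D.σ j x) = 1 := fun x => by
    have hm : dlHom D.σ j x ∈ (dlHom D.σ j).range := ⟨x, rfl⟩
    rw [hφ', MonoidHom.comp_apply, QuotientGroup.mk'_apply, (QuotientGroup.eq_one_iff _).mpr hm,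
      map_one]
  have hfix := D.linear_fixed (φ'.comp Abelianization.of) hj fun k => by
    have := hker (Abelianization.of k)
    rw [dlHom_of, map_mul, map_inv, mul_inv_eq_one] at this
    exact this
  obtain ⟨x, rfl⟩ := hy
  obtain ⟨k, rfl⟩ : ∃ k, Abelianization.of k = x := QuotientGroup.mk_surjective x
  refine hφ ?_
  show φ' (dlHom D.σ 1 (Abelianization.of k)) = 1
  rw [dlHom_of, pow_one, map_mul, map_inv, mul_inv_eq_one]
  exact hfix k

theorem ker_eq {j : ℕ} (hj : ¬ D.f ∣ j) : (dlHom D.σ j).ker = (dlHom D.σ 1).ker := by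
  symm
  refine Subgroup.eq_of_le_of_card_ge (D.ker_le j) ?_
  have h1 := (dlHom D.σ 1).ker.card_mul_index
  have h2 := (dlHom D.σ j).ker.card_mul_index
  rw [Subgroup.index_ker] at h1 h2
  rw [D.range_eq hj] at h2
  exact le_of_eq (Nat.eq_of_mul_eq_mul_right Nat.card_pos (h2.trans h1.symm))

/-- A moved point has no fixed part. -/
theorem range_inf_ker : (dlHom D.σ 1).range ⊓ (dlHom D.σ 1).ker = ⊥ := by
  rw [eq_bot_iff]
  intro w hw
  obtain ⟨hwR, hwk⟩ := Subgroup.mem_inf.mp hw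
  rw [Subgroup.mem_bot]
  have hfix := (D.mem_ker_dlHom 1 w).mp hwk
  have hr : ∀ r : ℕ, r.Prime → r ∣ D.f → w ^ r = 1 := by
    intro r hr hrf
    have hi : ¬ D.f ∣ D.f / r := fun e => by
      have h1 := Nat.div_lt_self D.f_pos hr.one_lt
      have h2 := Nat.le_of_dvd (Nat.div_pos (Nat.le_of_dvd D.f_pos hrf) hr.pos) e
      omega
    obtain ⟨x, hx⟩ := (D.range_eq hi).symm ▸ hwR
    rw [dlHom_apply, mul_inv_eq_iff_eq_mul] at hx
    have hw' : ∀ n, Abelianization.map (D.σ ^ n).toMonoidHom w = w :=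
      fun n => (D.mem_ker_dlHom n w).mp (D.ker_le n hwk)
    have hn : ∀ n, Abelianization.map (D.σ ^ (D.f / r * n)).toMonoidHom x = w ^ n * x := by
      intro n
      induction n with
      | zero => rw [Nat.mul_zero, D.map_pow_zero, pow_zero, one_mul]
      | succ n ih => rw [Nat.mul_succ, map_pow_add, hx, map_mul, hw', ih, ← mul_assoc, ← pow_succ']
    have := hn r
    rw [Nat.div_mul_cancel hrf, map_pow_f] at this
    exact mul_eq_right.mp this.symm
  obtain ⟨r, hr1, hrf⟩ := Nat.exists_prime_and_dvd (show D.f ≠ 1 by have := D.one_lt; omega)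
  by_cases hall : ∀ s : ℕ, s.Prime → s ∣ D.f → s = r
  · have hd : orderOf w ∣ r := orderOf_dvd_of_pow_eq_one (hr r hr1 hrf)
    rcases (Nat.dvd_prime hr1).mp hd with h | h
    · exact orderOf_eq_one_iff.mp h
    · exact absurd (h ▸ (Subgroup.orderOf_coe (⟨w, hwR⟩ : ↥(dlHom D.σ 1).range)).symm ▸
        orderOf_dvd_natCard (⟨w, hwR⟩ : ↥(dlHom D.σ 1).range)) (D.hnil r hr1 hall)
  · push Not at hall
    obtain ⟨s, hs, hsf, hne⟩ := hall
    have h1 := orderOf_dvd_of_pow_eq_one (hr r hr1 hrf)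
    have h2 := orderOf_dvd_of_pow_eq_one (hr s hs hsf)
    have := Nat.dvd_gcd h1 h2
    rw [((Nat.coprime_primes hr1 hs).mpr (Ne.symm hne)).gcd_eq_one] at this
    exact orderOf_eq_one_iff.mp (Nat.dvd_one.mp this)

/-- The moved part has order prime to `f`. -/
theorem coprime_range : (Nat.card ↥(dlHom D.σ 1).range).Coprime D.f := by
  classical
  refine Nat.coprime_of_dvd fun p hp hpR hpf => ?_
  haveI := Fact.mk hp
  set R := (dlHom D.σ 1).range
  set P : Subgroup (Abelianization K) := R ⊓ (powMonoidHom p).ker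
  haveI := Fintype.ofFinite P
  have hsmap : ∀ (j : ℕ), ∀ w ∈ R, Abelianization.map (D.σ ^ j).toMonoidHom w ∈ R := by
    rintro j _ ⟨x, rfl⟩
    refine ⟨Abelianization.map (D.σ ^ j).toMonoidHom x, ?_⟩
    rw [dlHom_apply, dlHom_apply, map_mul, map_inv, ← map_pow_add, ← map_pow_add, add_comm]
  have hpP : p ∣ Nat.card P := by
    obtain ⟨⟨w, hw⟩, hwo⟩ := exists_prime_orderOf_dvd_card' (G := R) p hpR
    rw [Subgroup.orderOf_mk] at hwo
    have hwP : w ∈ P := Subgroup.mem_inf.mpr ⟨hw, by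
      rw [MonoidHom.mem_ker, powMonoidHom_apply]
      exact hwo ▸ pow_orderOf_eq_one w⟩
    have := orderOf_dvd_natCard (⟨w, hwP⟩ : P)
    rwa [Subgroup.orderOf_mk, hwo] at this
  have hi : ¬ D.f ∣ D.f / p := fun e => by
    have h1 := Nat.div_lt_self D.f_pos hp.one_lt
    have h2 := Nat.le_of_dvd (Nat.div_pos (Nat.le_of_dvd D.f_pos hpf) hp.pos) e
    omega
  set j := D.f / p with hj
  let g : Function.End P := fun w => ⟨Abelianization.map (D.σ ^ j).toMonoidHom w, by
    obtain ⟨h1, h2⟩ := Subgroup.mem_inf.mp w.2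
    refine Subgroup.mem_inf.mpr ⟨hsmap j _ h1, ?_⟩
    rw [MonoidHom.mem_ker, powMonoidHom_apply] at h2 ⊢
    rw [← map_pow, h2, map_one]⟩
  have hg : ∀ (n : ℕ) (w : P), ((g ^ n) w : Abelianization K) =
      Abelianization.map (D.σ ^ (j * n)).toMonoidHom w := by
    intro n
    induction n with
    | zero => intro w; rw [Nat.mul_zero, D.map_pow_zero]; rfl
    | succ n ih => intro w; rw [pow_succ, Nat.mul_succ, map_pow_add]; exact ih _
  have hgp : g ^ p ^ 1 = 1 := funext fun w => Subtype.ext (by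
    rw [hg, pow_one, Nat.div_mul_cancel hpf, map_pow_f]; rfl)
  have h := Equiv.Perm.card_fixedPoints_modEq hgp
  rw [← Nat.card_eq_fintype_card, ← Nat.card_eq_fintype_card] at h
  have hu : Nat.card ↥(fixedPoints (g : P → P)) = 1 := by
    rw [Nat.card_eq_one_iff_unique]
    refine ⟨⟨fun a b => ?_⟩, ⟨⟨1, Subtype.ext (map_one _)⟩⟩⟩
    have key : ∀ a : ↥(fixedPoints (g : P → P)), ((a : P) : Abelianization K) = 1 := by
      intro a
      have h1 : ((a : P) : Abelianization K) ∈ (dlHom D.σ j).ker :=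
        (D.mem_ker_dlHom j _).mpr (congrArg Subtype.val a.2)
      rw [D.ker_eq hi] at h1
      exact Subgroup.mem_bot.mp (D.range_inf_ker ▸
        Subgroup.mem_inf.mpr ⟨(Subgroup.mem_inf.mp (a : P).2).1, h1⟩)
    exact Subtype.ext (Subtype.ext ((key a).trans (key b).symm))
  rw [hu] at h
  have := (Nat.modEq_iff_dvd' Nat.card_pos).mp h.symm
  have h2 : p ∣ 1 := by
    have := Nat.dvd_sub hpP this
    rwa [Nat.sub_sub_self Nat.card_pos] at this
  exact hp.not_dvd_one h2

/-- The elements whose class in the abelianization is fixed. -/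
noncomputable def Z0 : Subgroup K := ((dlHom D.σ 1).comp Abelianization.of).ker

instance : D.Z0.Normal := MonoidHom.normal_ker _

theorem mem_Z0 {k : K} : k ∈ D.Z0 ↔ Abelianization.of (D.σ k) = Abelianization.of k := by
  rw [Z0, MonoidHom.mem_ker, MonoidHom.comp_apply, dlHom_of, pow_one, mul_inv_eq_one]

theorem commutator_le_Z0 : commutator K ≤ D.Z0 := fun k hk => by
  rw [Z0, MonoidHom.mem_ker, MonoidHom.comp_apply,
    show Abelianization.of k = 1 by rwa [← MonoidHom.mem_ker, Abelianization.ker_of], map_one]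

theorem index_Z0 : D.Z0.index = Nat.card ↥(dlHom D.σ 1).range := by
  have hs : Function.Surjective (Abelianization.of : K →* Abelianization K) :=
    QuotientGroup.mk_surjective
  rw [Z0, Subgroup.index_ker, MonoidHom.range_comp, MonoidHom.range_eq_top.mpr hs,
    ← MonoidHom.range_eq_map]

theorem coprime_index : D.Z0.index.Coprime D.f := D.index_Z0 ▸ D.coprime_range

theorem exists_decomp (x : Abelianization K) :
    ∃ r ∈ (dlHom D.σ 1).range, ∃ z ∈ (dlHom D.σ 1).ker, x = r * z := by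
  set R := (dlHom D.σ 1).range
  have hinj : Function.Injective fun r : R => (⟨dlHom D.σ 1 r, r, rfl⟩ : R) := by
    intro a b hab
    have h1 : dlHom D.σ 1 a = dlHom D.σ 1 b := congrArg Subtype.val hab
    have h2 : ((a : Abelianization K) * (b : Abelianization K)⁻¹) ∈ R ⊓ (dlHom D.σ 1).ker :=
      Subgroup.mem_inf.mpr ⟨mul_mem a.2 (inv_mem b.2), by
        rw [MonoidHom.mem_ker, map_mul, map_inv, h1, mul_inv_cancel]⟩
    rw [D.range_inf_ker, Subgroup.mem_bot, mul_inv_eq_one] at h2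
    exact Subtype.ext h2
  obtain ⟨r, hr⟩ := Finite.surjective_of_injective hinj ⟨dlHom D.σ 1 x, x, rfl⟩
  refine ⟨r, r.2, (r : Abelianization K)⁻¹ * x, ?_, by rw [mul_inv_cancel_left]⟩
  rw [MonoidHom.mem_ker, map_mul, map_inv, show dlHom D.σ 1 r = dlHom D.σ 1 x from
    congrArg Subtype.val hr, inv_mul_cancel]

/-- The fixed point freeness on the linear characters of `K ⧸ Z0`. -/
theorem hom_eq_one (μ : K →* ℂˣ) (hμ : ∀ z ∈ D.Z0, μ z = 1) {j : ℕ} (hj : ¬ D.f ∣ j)
    (h : ∀ k, μ ((D.σ ^ j) k) = μ k) : μ = 1 := by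
  have hfix := D.linear_fixed μ hj h
  ext k
  obtain ⟨r, ⟨x, rfl⟩, z, hz, hk⟩ := D.exists_decomp (Abelianization.of k)
  obtain ⟨a, rfl⟩ : ∃ a, Abelianization.of a = x := QuotientGroup.mk_surjective x
  obtain ⟨b, rfl⟩ : ∃ b, Abelianization.of b = z := QuotientGroup.mk_surjective z
  have := congrArg (Abelianization.lift μ) hk
  simp only [dlHom_of, map_mul, map_inv, Abelianization.lift_apply_of, pow_one, hfix,
    mul_inv_cancel, one_mul] at this
  rw [this, hμ b (by rwa [Z0, MonoidHom.mem_ker, MonoidHom.comp_apply, ← MonoidHom.mem_ker]),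
    MonoidHom.one_apply]

/-- The powers of `σ` act without fixed points modulo `Z0`. -/
theorem mem_Z0_of_fixed {j : ℕ} (hj : ¬ D.f ∣ j) {k : K} (h : k⁻¹ * (D.σ ^ j) k ∈ D.Z0) :
    k ∈ D.Z0 := by
  set x := Abelianization.of k
  have h1 : dlHom D.σ j x ∈ (dlHom D.σ 1).range ⊓ (dlHom D.σ 1).ker := by
    refine Subgroup.mem_inf.mpr ⟨D.range_le j ⟨x, rfl⟩, ?_⟩
    rw [MonoidHom.mem_ker, dlHom_of]
    rw [Z0, MonoidHom.mem_ker, MonoidHom.comp_apply, map_mul, map_inv] at h
    rw [mul_comm]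
    exact h
  rw [D.range_inf_ker, Subgroup.mem_bot, ← MonoidHom.mem_ker, D.ker_eq hj] at h1
  exact h1

theorem apply_mem_Z0 {k : K} (hk : k ∈ D.Z0) : D.σ k ∈ D.Z0 := by
  rw [mem_Z0] at hk ⊢
  have := congrArg (Abelianization.map D.σ.toMonoidHom) hk
  simpa using this

end Op

end CfsgLib.NDDeg
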