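import Cfsg.Agent.Lib.NDDeg.Uniform
import Cfsg.Agent.Lib.NDDeg.Alg

/-!
# The layers as spaces over the prime field, and the bound on the class
-/

set_option autoImplicit false
set_option linter.style.haveILetI false
set_option linter.unusedSectionVars false

namespace CfsgLib.NDDeg

open Cfsg CfsgLib.Char CfsgLib.NDTwoComp CfsgLib.Higman Module
open scoped ComplexConjugate CfsgLib.Char commutatorElement

universe u

variable {P : Type u} [Group P] [Finite P]

theorem mem0 (x : P) : x ∈ gam P 0 := Subgroup.mem_top x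

theorem br00 (a b : P) : br P (el 0 a) (el 0 b) = el 1 ⁅a, b⁆ := by
  rw [br_el_el (i := 0) (j := 0) (mem0 a) (mem0 b)]

theorem br_right0 (i : ℕ) {g : P} (hg : g ∈ gam P i) (b : P) :
    br P (el i g) (el 0 b) = el (i + 1) ⁅g, b⁆ := by
  rw [br_el_el (i := i) (j := 0) hg (mem0 b)]

theorem br_left0 (i : ℕ) {g : P} (hg : g ∈ gam P i) (b : P) :
    br P (el 0 b) (el i g) = el (i + 1) ⁅b, g⁆ := by
  rw [br_el_el (i := 0) (j := i) (mem0 b) hg, Nat.zero_add]

theorem br11 {g h : P} (hg : g ∈ gam P 1) (hh : h ∈ gam P 1) :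
    br P (el 1 g) (el 1 h) = el 3 ⁅g, h⁆ := br_el_el (i := 1) (j := 1) hg hh

theorem el_three_right {v : P} (hv : v ∈ gam P 2) (x y : P) :
    el 3 ⁅v, x * y⁆ = el 3 ⁅v, x⁆ + el 3 ⁅v, y⁆ :=
  el_comm_mul_right (i := 2) (j := 0) hv (mem0 x) (mem0 y)

attribute [local irreducible] CfsgLib.Higman.el CfsgLib.Higman.br Subgroup.lowerCentralSeries

theorem finrank_card {q : ℕ} [Fact q.Prime] (M : Type*) [AddCommGroup M] [Module (ZMod q) M]
    [Finite M] : Nat.card M = q ^ finrank (ZMod q) M := by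
  rw [Module.natCard_eq_pow_finrank (K := ZMod q), Nat.card_zmod]

namespace QOp

variable {q : ℕ} [Fact q.Prime] (S : QOp P q)

/-- A factor of the lower central series in the Lie ring. -/
def layer (i : ℕ) : AddSubgroup (Gr P) where
  carrier := {x | ∃ g ∈ gam P i, el i g = x}
  zero_mem' := ⟨1, one_mem _, el_one i⟩
  add_mem' := by rintro _ _ ⟨a, ha, rfl⟩ ⟨b, hb, rfl⟩; exact ⟨a * b, mul_mem ha hb, el_mul ha hb⟩
  neg_mem' := by rintro _ ⟨a, ha, rfl⟩; exact ⟨a⁻¹, inv_mem ha, el_inv ha⟩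

/-- The moved part of the first factor. -/
def moved : AddSubgroup (Gr P) where
  carrier := {x | ∃ g ∈ S.Rm, el 0 g = x}
  zero_mem' := ⟨1, one_mem _, el_one 0⟩
  add_mem' := by
    rintro _ _ ⟨a, ha, rfl⟩ ⟨b, hb, rfl⟩
    exact ⟨a * b, mul_mem ha hb, el_mul (mem0 a) (mem0 b)⟩
  neg_mem' := by rintro _ ⟨a, ha, rfl⟩; exact ⟨a⁻¹, inv_mem ha, el_inv (mem0 a)⟩

theorem finite_layer (i : ℕ) : Finite (layer (P := P) i) := by
  refine Finite.of_surjective (fun g : gam P i => (⟨el i g, g, g.2, rfl⟩ : layer (P := P) i)) ?_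
  rintro ⟨_, g, hg, rfl⟩
  exact ⟨⟨g, hg⟩, rfl⟩

theorem finite_moved : Finite S.moved := by
  refine Finite.of_surjective (fun g : S.Rm => (⟨el 0 g, g, g.2, rfl⟩ : S.moved)) ?_
  rintro ⟨_, g, hg, rfl⟩
  exact ⟨⟨g, hg⟩, rfl⟩

include S in
theorem nsmul_layer (i : ℕ) (x : layer (P := P) (i + 1)) : q • x = 0 := by
  obtain ⟨_, g, hg, rfl⟩ := x
  exact Subtype.ext (S.nsmul_el hg)

theorem nsmul_moved (x : S.moved) : q • x = 0 := by
  obtain ⟨_, g, hg, rfl⟩ := x
  exact Subtype.ext (by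
    show q • el 0 g = 0
    rw [← el_pow (mem0 g)]
    exact el_of_mem_succ (S.pow_mem_gam_one hg))

theorem el_zero_eq {r : P} (hr : r ∈ S.Rm) : el 0 r = 0 ↔ r ∈ S.D.Z0 :=
  (el_eq_zero_iff (mem0 r)).trans
    ⟨fun h => S.gam_le_Z0 le_rfl h, fun h => S.mem_gam_one_of hr h⟩

theorem br_moved {x y : Gr P} (hx : x ∈ S.moved) (hy : y ∈ S.moved) :
    br P x y ∈ layer (P := P) 1 := by
  obtain ⟨a, -, rfl⟩ := hx
  obtain ⟨b, -, rfl⟩ := hy
  exact ⟨⁅a, b⁆, comm_gam_one a b, (br00 a b).symm⟩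

theorem br_layer_moved {i : ℕ} {x y : Gr P} (hx : x ∈ layer (P := P) i) (hy : y ∈ S.moved) :
    br P x y ∈ layer (P := P) (i + 1) := by
  obtain ⟨a, ha, rfl⟩ := hx
  obtain ⟨b, -, rfl⟩ := hy
  exact ⟨⁅a, b⁆, comm_gam' ha b, (br_right0 i ha b).symm⟩

theorem br_layer_one {x y : Gr P} (hx : x ∈ layer (P := P) 1) (hy : y ∈ layer (P := P) 1) :
    br P x y ∈ layer (P := P) 3 := by
  obtain ⟨a, ha, rfl⟩ := hx
  obtain ⟨b, hb, rfl⟩ := hy
  exact ⟨⁅a, b⁆, comm_mem (i := 1) (j := 1) ha hb, (br11 ha hb).symm⟩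

theorem el_comm_add {i : ℕ} {x y z : P} (hx : ⁅x, z⁆ ∈ gam P i) (hy : ⁅y, z⁆ ∈ gam P i) :
    el i ⁅x * y, z⁆ = el i ⁅x, z⁆ + el i ⁅y, z⁆ := by
  rw [comm_mul_left', el_mul (conj_mem_gam hy x) hx, el_conj hy, add_comm]

section Three

variable [Module (ZMod q) S.moved] [Module (ZMod q) (layer (P := P) 1)]
  [Module (ZMod q) (layer (P := P) 2)]

/-- The commutator on the moved part. -/
noncomputable def cMap : S.moved →ₗ[ZMod q] S.moved →ₗ[ZMod q] layer (P := P) 1 :=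
  (AddMonoidHom.mk' (fun a => (AddMonoidHom.mk' (fun b : S.moved =>
    (⟨br P a.1 b.1, S.br_moved a.2 b.2⟩ : layer (P := P) 1))
      (fun _ _ => Subtype.ext (map_add _ _ _))).toZModLinearMap q)
    (fun _ _ => LinearMap.ext fun _ => Subtype.ext (by
      show br P (_ + _) _ = _
      rw [map_add, AddMonoidHom.add_apply]
      rfl))).toZModLinearMap q

theorem cMap_apply (a b : S.moved) : (S.cMap a b : Gr P) = br P a.1 b.1 := rfl

/-- The commutator between the second layer and the moved part. -/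
noncomputable def bMap : S.moved →ₗ[ZMod q] layer (P := P) 1 →ₗ[ZMod q] layer (P := P) 2 :=
  (AddMonoidHom.mk' (fun a => (AddMonoidHom.mk' (fun u : layer (P := P) 1 =>
    (⟨br P u.1 a.1, S.br_layer_moved u.2 a.2⟩ : layer (P := P) 2))
      (fun _ _ => Subtype.ext (by
        show br P (_ + _) _ = _
        rw [map_add, AddMonoidHom.add_apply]
        rfl))).toZModLinearMap q)
    (fun _ _ => LinearMap.ext fun _ => Subtype.ext (map_add _ _ _))).toZModLinearMap q

theorem bMap_apply (a : S.moved) (u : layer (P := P) 1) : (S.bMap a u : Gr P) = br P u.1 a.1 := rfl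

variable (hZ : S.Zc) (h2 : gam P 2 ≠ ⊥)

include hZ in
theorem el_comm_decomp {s : P} {r c v g : P} (hc : S.D.σ c = c) (hv : v ∈ gam P 1)
    (hs : s = r * c * v) (hg : g ∈ gam P 1) :
    el 2 ⁅s, g⁆ = el 2 ⁅r, g⁆ := by
  subst hs
  have h3 : ⁅c * v, g⁆ ∈ gam P 3 := by
    rw [comm_mul_left']
    exact mul_mem (conj_mem_gam (comm_mem (i := 1) (j := 1) hv hg) c) (S.comm_fixed_gam_two hc hg)
  rw [mul_assoc, el_comm_add (comm_gam hg r) (gam_anti (by omega) h3), el_of_mem_succ h3, add_zero]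

include hZ h2 in
theorem bMap_surj (u : layer (P := P) 1) (hu : u ≠ 0) :
    Function.Surjective fun a => S.bMap a u := by
  obtain ⟨_, g, hg, rfl⟩ := u
  have hgW : g ∉ S.W3 := S.notMem_W3 hZ h2 hg fun h => hu (Subtype.ext (el_of_mem_succ h))
  rintro ⟨_, w, hw, rfl⟩
  obtain ⟨s, hs⟩ := S.exists_comm_two hZ hgW hw
  obtain ⟨r, hr, c, hc, v, hv, hsd⟩ := S.exists_decomp s
  refine ⟨-⟨el 0 r, r, hr, rfl⟩, Subtype.ext ?_⟩
  show br P (el 1 g) (-(el 0 r)) = el 2 w
  rw [map_neg, br_right0 1 hg r, ← hs, S.el_comm_decomp hZ hc hv hsd hg,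
    ← el_inv (comm_gam' hg r), commutatorElement_inv]

theorem cMap_surj (a : S.moved) (ha : a ≠ 0) : Function.Surjective (S.cMap a) := by
  obtain ⟨_, r, hr, rfl⟩ := a
  have hrZ : r ∉ S.D.Z0 := fun h => ha (Subtype.ext ((S.el_zero_eq hr).mpr h))
  rintro ⟨_, w, hw, rfl⟩
  obtain ⟨r', hr', he⟩ := S.exists_comm_Rm hr hrZ hw
  refine ⟨-⟨el 0 r', r', hr', rfl⟩, Subtype.ext ?_⟩
  show br P (el 0 r) (-(el 0 r')) = el 1 w
  rw [map_neg, br00 r r', ← he,
    ← el_inv (comm_gam_one r r'), commutatorElement_inv]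

include hZ in
theorem cMap_reach [Finite S.moved] [Finite (layer (P := P) 1)] [Finite (layer (P := P) 2)]
    (a : S.moved) (ha : a ≠ 0) : finrank (ZMod q) (layer (P := P) 2) + 1 ≤
      finrank (ZMod q) (LinearMap.range (S.bMap a)) +
        finrank (ZMod q) (LinearMap.ker (S.cMap a)) := by
  obtain ⟨r0, hr0, hr0a⟩ := a.2
  have hr0Z : r0 ∉ S.D.Z0 := fun h => ha (Subtype.ext (hr0a ▸ (S.el_zero_eq hr0).mpr h))
  set N := LinearMap.ker (S.cMap a)
  have haN : a ∈ N := LinearMap.mem_ker.mpr (Subtype.ext (by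
    rw [cMap_apply]; exact br_self _))
  set A0 : Submodule (ZMod q) N := Submodule.span (ZMod q) {⟨a, haN⟩}
  have hlift : ∀ k : N, ∃ r ∈ S.Rm, el 0 r = ((k : S.moved) : Gr P) ∧ ⁅r, r0⁆ ∈ gam P 2 := by
    rintro ⟨⟨_, r, hr, rfl⟩, hk⟩
    refine ⟨r, hr, rfl, (el_eq_zero_iff (comm_gam_one r r0)).mp ?_⟩
    have h1 := congrArg (fun x : layer (P := P) 1 => (x : Gr P)) (LinearMap.mem_ker.mp hk)
    rw [cMap_apply, ← hr0a, br00 r0 r,
      ← commutatorElement_inv, el_inv (comm_gam_one r r0)] at h1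
    exact neg_eq_zero.mp h1
  choose rk hrk hrk0 hrk2 using hlift
  let F : LinearMap.range (S.bMap a) × (N ⧸ A0) → layer (P := P) 2 := fun p =>
    p.1.1 + ⟨el 2 ⁅rk p.2.out, r0⁆, _, hrk2 _, rfl⟩
  have hF : Function.Surjective F := by
    rintro ⟨_, w, hw, rfl⟩
    obtain ⟨s, hs⟩ := S.exists_comm hr0Z (gam_anti (i := 1) (by omega) hw)
    obtain ⟨r, hr, c, hc, v, hv, rfl⟩ := S.exists_decomp s
    have hcv : ⁅c * v, r0⁆ ∈ gam P 2 := by
      rw [← commutatorElement_inv]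
      exact inv_mem (S.comm_Rm_Z0 hr0 (mul_mem (S.fixed_mem_Z0 hc) (S.gam_le_Z0 le_rfl hv)))
    have hr2 : ⁅r, r0⁆ ∈ gam P 2 := by
      rw [mul_assoc, comm_mul_left'] at hs
      have := mul_mem (inv_mem (conj_mem_gam hcv r)) (hs.symm ▸ hw)
      rwa [inv_mul_cancel_left] at this
    have hk : (⟨el 0 r, r, hr, rfl⟩ : S.moved) ∈ N := LinearMap.mem_ker.mpr (Subtype.ext (by
      rw [cMap_apply, ← hr0a, br00 r0 r,
        ← commutatorElement_inv, el_of_mem_succ (inv_mem hr2)]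
      rfl))
    set k : N ⧸ A0 := Submodule.Quotient.mk ⟨_, hk⟩
    obtain ⟨m, hm⟩ := Submodule.mem_span_singleton.mp
      ((Submodule.Quotient.eq A0).mp (Quotient.out_eq k).symm)
    have hel : el 0 r = ((m.val • a : S.moved) : Gr P) + el 0 (rk k.out) := by
      have h2 := congrArg (fun x : N => (((x : S.moved)) : Gr P)) hm
      rw [← ZMod.natCast_zmod_val m, Nat.cast_smul_eq_nsmul] at h2
      simp only [Submodule.coe_smul_of_tower, Submodule.coe_sub, AddSubgroup.coe_sub] at h2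
      rw [h2, ← hrk0 k.out, sub_add_cancel]
    set r1 := r0 ^ m.val * rk k.out
    set v1 := r1⁻¹ * r
    have hv1 : v1 ∈ gam P 1 := (el_eq_zero_iff (mem0 _)).mp (by
      rw [el_mul (mem0 _) (mem0 _), el_inv (mem0 _),
        el_mul (mem0 _) (mem0 _), el_pow (mem0 _), hr0a, hel,
        AddSubmonoidClass.coe_nsmul, neg_add_cancel])
    have hv1' : ⁅v1, r0⁆ ∈ gam P 2 := comm_gam' hv1 r0
    have hpow : ⁅r0 ^ m.val, r0⁆ = 1 :=
      commutatorElement_eq_one_iff_mul_comm.mpr ((Commute.refl r0).pow_left _).eq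
    have hr1' : ⁅r1, r0⁆ ∈ gam P 2 := by
      rw [comm_mul_left', hpow, mul_one]
      exact conj_mem_gam (hrk2 _) _
    have e1 : el 2 ⁅r, r0⁆ = el 2 ⁅rk k.out, r0⁆ + el 2 ⁅v1, r0⁆ := by
      rw [show r = r1 * v1 from (mul_inv_cancel_left _ _).symm, el_comm_add hr1' hv1',
        el_comm_add (hpow ▸ one_mem _) (hrk2 _), hpow, el_one, zero_add]
    have hc3 : ⁅c, r0⁆ ∈ gam P 3 := by
      rw [← commutatorElement_inv]; exact inv_mem (S.comm_fixed_three hZ r0 hc)
    have e2 : el 2 w = el 2 ⁅rk k.out, r0⁆ + (el 2 ⁅v1, r0⁆ + el 2 ⁅v, r0⁆) := by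
      rw [← hs, mul_assoc, el_comm_add hr2 hcv, e1,
        el_comm_add (gam_anti (by omega) hc3) (comm_gam' hv r0), el_of_mem_succ hc3, zero_add,
        add_assoc]
    refine ⟨(⟨_, LinearMap.mem_range_self _ (⟨el 1 (v1 * v), _, mul_mem hv1 hv, rfl⟩ :
      layer (P := P) 1)⟩, k), Subtype.ext ?_⟩
    show br P (el 1 (v1 * v)) a.1 + el 2 ⁅rk k.out, r0⁆ = el 2 w
    rw [e2, add_comm, el_mul hv1 hv, map_add, AddMonoidHom.add_apply, ← hr0a,
      br_right0 1 hv1 r0, br_right0 1 hv r0]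
  haveI : Finite (N ⧸ A0) := Finite.of_surjective _ (Submodule.mkQ_surjective A0)
  have hle := Nat.card_le_card_of_surjective F hF
  rw [Nat.card_prod, finrank_card (q := q) (layer (P := P) 2),
    finrank_card (q := q) (LinearMap.range (S.bMap a)), finrank_card (q := q) (N ⧸ A0),
    ← pow_add] at hle
  have hle' := (Nat.pow_le_pow_iff_right (Nat.Prime.one_lt Fact.out)).mp hle
  have h1 := A0.finrank_quotient_add_finrank
  have h2 : finrank (ZMod q) A0 = 1 := finrank_span_singleton fun h => ha (congrArg (fun x : N => (x : S.moved)) h)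
  omega

include hZ h2 in
/-- The commutator maps of the first three layers. -/
noncomputable def alg [Finite S.moved] [Finite (layer (P := P) 1)] [Finite (layer (P := P) 2)] :
    Alg q S.moved (layer (P := P) 1) (layer (P := P) 2) where
  c := S.cMap
  B := S.bMap
  calt a := Subtype.ext (by rw [cMap_apply]; exact br_self _)
  jac x y z := Subtype.ext (by
    simp only [AddSubgroup.coe_add, bMap_apply, cMap_apply]
    have h := lie_jacobi (x.1 : Gr P) y.1 z.1
    show ⁅⁅(y.1 : Gr P), z.1⁆, (x.1 : Gr P)⁆ + ⁅⁅(z.1 : Gr P), x.1⁆, (y.1 : Gr P)⁆ +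
      ⁅⁅(x.1 : Gr P), y.1⁆, (z.1 : Gr P)⁆ = 0
    rw [← lie_skew ⁅(y.1 : Gr P), z.1⁆, ← lie_skew ⁅(z.1 : Gr P), x.1⁆,
      ← lie_skew ⁅(x.1 : Gr P), y.1⁆, ← neg_add, ← neg_add, h, neg_zero])
  c_surj := S.cMap_surj
  B_surj := S.bMap_surj hZ h2
  reach := S.cMap_reach hZ

end Three

section Four

variable (hZ : S.Zc) (h2 : gam P 2 ≠ ⊥)

include hZ h2 in
/-- An element of the second layer with all characters nontrivial on the fourth vanishing. -/
theorem no_layer_four [Module (ZMod q) S.moved] [Module (ZMod q) (layer (P := P) 1)]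
    [Module (ZMod q) (layer (P := P) 2)] [Module (ZMod q) (layer (P := P) 3)] : gam P 3 = ⊥ := by
  classical
  by_contra h3
  haveI := S.finite_moved
  haveI := finite_layer (P := P) 1
  haveI := finite_layer (P := P) 2
  haveI := finite_layer (P := P) 3
  let Al := S.alg hZ h2
  haveI : Nontrivial S.moved := by
    obtain ⟨r, hr, hrZ⟩ := S.exists_Rm_notMem
    exact ⟨⟨el 0 r, r, hr, rfl⟩, 0, fun e => hrZ ((S.el_zero_eq hr).mp (congrArg Subtype.val e))⟩
  have hnt : ∀ i, gam P i ≠ ⊥ → Nontrivial (layer (P := P) i) := fun i hi => by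
    obtain ⟨g, hg, hg'⟩ := Set.not_subset.mp (S.gam_succ_lt hi)
    exact ⟨⟨el i g, g, hg, rfl⟩, 0, fun e => hg' ((el_eq_zero_iff hg).mp (congrArg Subtype.val e))⟩
  haveI := hnt 1 (by rw [gam_one]; exact S.hne)
  haveI := hnt 2 h2
  haveI := hnt 3 h3
  -- functionals on the fourth layer
  let T : Dual (ZMod q) (layer (P := P) 3) →
      (S.moved →ₗ[ZMod q] Dual (ZMod q) (layer (P := P) 2)) := fun ν =>
    (AddMonoidHom.mk' (fun a : S.moved => (AddMonoidHom.mk' (fun w : layer (P := P) 2 =>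
      ν ⟨br P w.1 a.1, S.br_layer_moved w.2 a.2⟩) (fun x y => by
        rw [← map_add]
        congr 1
        exact Subtype.ext (by
          show br P (x.1 + y.1) _ = _
          rw [map_add, AddMonoidHom.add_apply]
          rfl))).toZModLinearMap q) (fun a b => LinearMap.ext fun w => by
      show ν _ = ν _ + ν _
      rw [← map_add]
      congr 1
      exact Subtype.ext (map_add (br P w.1) a.1 b.1))).toZModLinearMap q
  let φ : Dual (ZMod q) (layer (P := P) 3) →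
      (layer (P := P) 1 →ₗ[ZMod q] layer (P := P) 1 →ₗ[ZMod q] ZMod q) := fun ν =>
    (AddMonoidHom.mk' (fun u : layer (P := P) 1 => (AddMonoidHom.mk' (fun v : layer (P := P) 1 =>
      ν ⟨br P u.1 v.1, br_layer_one u.2 v.2⟩) (fun x y => by
        rw [← map_add]
        congr 1
        exact Subtype.ext (map_add (br P u.1) x.1 y.1))).toZModLinearMap q) (fun a b =>
      LinearMap.ext fun v => by
        show ν _ = ν _ + ν _
        rw [← map_add]
        congr 1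
        exact Subtype.ext (by
          show br P (a.1 + b.1) _ = _
          rw [map_add, AddMonoidHom.add_apply]
          rfl))).toZModLinearMap q
  have hid : ∀ ν x y u, T ν y (Al.B x u) - T ν x (Al.B y u) = φ ν u (Al.c x y) := by
    intro ν x y u
    show ν _ - ν _ = ν _
    rw [← map_sub]
    congr 1
    refine Subtype.ext ?_
    show br P (br P u.1 x.1) y.1 - br P (br P u.1 y.1) x.1 = br P u.1 (br P x.1 y.1)
    rw [br_leibniz u.1 x.1 y.1, eq_neg_of_add_eq_zero_left (br_skew x.1 (br P u.1 y.1))]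
    abel
  -- the fourth layer is spanned by brackets with the moved part
  have hc4 : ∀ c, S.D.σ c = c → ∀ v ∈ gam P 2, ⁅c, v⁆ ∈ gam P 4 := by
    intro c hc v hv
    obtain ⟨u, hu⟩ := exists_ne (0 : layer (P := P) 1)
    obtain ⟨a, ha⟩ := Al.B_surj u hu ⟨el 2 v, v, hv, rfl⟩
    have ha' : br P u.1 a.1 = el 2 v := congrArg Subtype.val ha
    obtain ⟨g, hg, hgu⟩ := u.2
    obtain ⟨r, -, hra⟩ := a.2
    have hm := comm_gam hv c
    refine (el_eq_zero_iff hm).mp ?_
    have h1 := br_left0 2 hv c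
    rw [← h1, ← ha', ← hgu, ← hra, br_leibniz, br_left0 1 hg c,
      el_of_mem_succ (i := 1 + 1) (S.comm_fixed_gam_two hc hg), map_zero,
      AddMonoidHom.zero_apply, zero_add, br00 c r,
      el_of_mem_succ (i := 1) (g := ⁅c, r⁆) (by
        rw [← commutatorElement_inv]
        exact inv_mem (S.comm_Z0 hZ r (S.fixed_mem_Z0 hc))), map_zero]
  have hT : ∀ ν, ν ≠ 0 → T ν ≠ 0 := by
    intro ν hν hT
    refine hν (LinearMap.ext ?_)
    rintro ⟨_, g, hg, rfl⟩
    let K : Subgroup P :=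
      { carrier := {g | ∃ hg : g ∈ gam P 3, ν ⟨el 3 g, g, hg, rfl⟩ = 0}
        one_mem' := ⟨one_mem _, by
          rw [← map_zero ν]; congr 1; exact Subtype.ext (el_one 3)⟩
        mul_mem' := fun {a b} ⟨ha, ha'⟩ ⟨hb, hb'⟩ => ⟨mul_mem ha hb, by
          rw [show (⟨el 3 (a * b), a * b, mul_mem ha hb, rfl⟩ : layer (P := P) 3) =
            ⟨el 3 a, a, ha, rfl⟩ + ⟨el 3 b, b, hb, rfl⟩ from Subtype.ext (el_mul ha hb),
            map_add, ha', hb', add_zero]⟩
        inv_mem' := fun {a} ⟨ha, ha'⟩ => ⟨inv_mem ha, by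
          rw [← neg_zero, ← ha', ← map_neg]; congr 1; exact Subtype.ext (el_inv ha)⟩ }
    have hle : gam P 3 ≤ K := by
      rw [gam_succ 2, Subgroup.commutator_le]
      intro v hv x _
      refine ⟨comm_gam' hv x, ?_⟩
      obtain ⟨r, hr, c, hc, w, hw, rfl⟩ := S.exists_decomp x
      have h1 : el 3 ⁅v, r * c * w⁆ = el 3 ⁅v, r⁆ := by
        have e1 : el 3 ⁅v, w⁆ = 0 :=
          el_comm_eq_zero (i := 2) (j := 0) hv (mem0 w) (Or.inr hw)
        have e2 : el 3 ⁅v, c⁆ = 0 := el_of_mem_succ (i := 3) (by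
          rw [← commutatorElement_inv]; exact inv_mem (hc4 c hc v hv))
        rw [mul_assoc, el_three_right hv, el_three_right hv, e1, e2, add_zero, add_zero]
      have := LinearMap.congr_fun (LinearMap.congr_fun hT ⟨el 0 r, r, hr, rfl⟩) ⟨el 2 v, v, hv, rfl⟩
      rw [LinearMap.zero_apply, LinearMap.zero_apply] at this
      rw [← this]
      show ν _ = ν _
      congr 1
      exact Subtype.ext (h1.trans (br_right0 2 hv r).symm)
    obtain ⟨_, h⟩ := hle hg
    exact h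
  have hφ : ∀ ν, ν ≠ 0 → φ ν ≠ 0 := fun ν hν => Al.phi_ne_zero (T ν) (φ ν) (hid ν) (hT ν hν)
  -- every functional is fixed by the first stabiliser
  set τ := S.D.σ ^ S.t1 with hτ
  have hτu : ∀ u ∈ gam P 1, u⁻¹ * τ u ∈ gam P 2 := S.congr_t1 hZ dvd_rfl
  have hfix : ∀ (ν : Dual (ZMod q) (layer (P := P) 3)) g (hg : g ∈ gam P 3),
      ν ⟨el 3 (τ g), τ g, apply_mem_gam τ hg, rfl⟩ = ν ⟨el 3 g, g, hg, rfl⟩ := by
    intro ν
    let ν' : Dual (ZMod q) (layer (P := P) 3) := (AddMonoidHom.mk' (fun x : layer (P := P) 3 =>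
      ν ⟨grMap τ x.1, by
        obtain ⟨g, hg, e⟩ := x.2
        exact ⟨τ g, apply_mem_gam τ hg, by rw [← e, grMap_el τ hg]⟩⟩) (fun x y => by
      rw [← map_add]; congr 1; exact Subtype.ext (map_add _ _ _))).toZModLinearMap q - ν
    have hν' : ν' = 0 := by
      by_contra hne
      refine hφ ν' hne (LinearMap.ext fun u => LinearMap.ext fun v => ?_)
      obtain ⟨_, g, hg, rfl⟩ := u
      obtain ⟨_, g', hg', rfl⟩ := v
      show ν _ - ν _ = 0
      rw [sub_eq_zero]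
      congr 1
      refine Subtype.ext ?_
      show grMap τ (br P (el 1 g) (el 1 g')) = br P (el 1 g) (el 1 g')
      have e : ∀ g ∈ gam P 1, el 1 (τ g) = el 1 g := fun g hg => by
        rw [show τ g = g * (g⁻¹ * τ g) by group, el_mul hg (gam_anti (by omega) (hτu g hg)),
          el_of_mem_succ (hτu g hg), add_zero]
      rw [show br P (el 1 g) (el 1 g') = ⁅el 1 g, el 1 g'⁆ from rfl, grMap_lie, grMap_el τ hg,
        grMap_el τ hg', e g hg, e g' hg']
    intro g hg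
    have := LinearMap.congr_fun hν' ⟨el 3 g, g, hg, rfl⟩
    refine Eq.trans ?_ (sub_eq_zero.mp this)
    show ν _ = ν _
    congr 1
    exact Subtype.ext (grMap_el τ hg).symm
  obtain ⟨ν, hν⟩ : ∃ ν : Dual (ZMod q) (layer (P := P) 3), ν ≠ 0 := exists_ne 0
  obtain ⟨u, hu, hrad⟩ := Al.phi_degenerate (T ν) (φ ν) (fun u => by
    show ν _ = 0
    rw [← map_zero ν]; congr 1; exact Subtype.ext (br_self _)) (hid ν)
  obtain ⟨g, hg, hgu⟩ := u.2
  -- a fixed lift
  obtain ⟨p, hpτ, hgp⟩ := exists_fixed_mem_coset τ (f := S.D.f)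
    (by rw [hτ, ← pow_mul, mul_comm, pow_mul, S.hper, one_pow]) S.coprime_card (gam P 2)
    (fun n hn => apply_mem_gam τ hn) g (hτu g hg)
  have hp1 : p ∈ gam P 1 := by
    have := mul_mem hg (gam_anti (i := 1) (by omega) hgp)
    rwa [mul_inv_cancel_left] at this
  have help : el 1 p = el 1 g := by
    rw [show p = g * (g⁻¹ * p) by group, el_mul hg (gam_anti (by omega) hgp), el_of_mem_succ hgp,
      add_zero]
  have hp2 : p ∉ gam P 2 := fun h => hu (Subtype.ext (by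
    rw [← hgu, ← help, el_of_mem_succ h]; rfl))
  -- the linear character on the fourth layer
  obtain ⟨ω, hω⟩ : ∃ ω : Multiplicative (ZMod q) →* ℂˣ, Function.Injective ω := by
    obtain ⟨μ, hμ⟩ := CommGroup.exists_apply_ne_one_of_hasEnoughRootsOfUnity
      (Multiplicative (ZMod q)) ℂ (show Multiplicative.ofAdd (1 : ZMod q) ≠ 1 from
        fun h => one_ne_zero (Multiplicative.ofAdd.injective h))
    refine ⟨μ, (MonoidHom.ker_eq_bot_iff μ).mp ?_⟩
    haveI : Fact (Nat.card (Multiplicative (ZMod q))).Prime := ⟨by simpa using (Fact.out : q.Prime)⟩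
    exact μ.ker.eq_bot_or_eq_top_of_prime_card.resolve_right fun h => hμ (MonoidHom.mem_ker.mp
      (h ▸ Subgroup.mem_top _))
  let νc : Q P 3 →* ℂˣ := QuotientGroup.lift _
    { toFun := fun g : gam P 3 => ω (Multiplicative.ofAdd (ν ⟨el 3 g, g, g.2, rfl⟩))
      map_one' := by
        rw [show (⟨el 3 ((1 : gam P 3) : P), _, (1 : gam P 3).2, rfl⟩ : layer (P := P) 3) = 0 from
          Subtype.ext (el_one 3), map_zero, ofAdd_zero, map_one]
      map_mul' := fun a b => by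
        rw [show (⟨el 3 ((a * b : gam P 3) : P), _, (a * b).2, rfl⟩ : layer (P := P) 3) =
          ⟨el 3 a, _, a.2, rfl⟩ + ⟨el 3 b, _, b.2, rfl⟩ from Subtype.ext (el_mul a.2 b.2),
          map_add, ofAdd_add, map_mul] }
    fun g hg => by
      show ω (Multiplicative.ofAdd (ν _)) = 1
      rw [show (⟨el 3 (g : P), _, g.2, rfl⟩ : layer (P := P) 3) = 0 from
        Subtype.ext (el_of_mem_succ hg), map_zero, ofAdd_zero, map_one]
  have hval : ∀ g (hg : g ∈ gam P 3),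
      val νc g = ω (Multiplicative.ofAdd (ν ⟨el 3 g, g, hg, rfl⟩)) := fun g hg =>
    val_of_mem νc hg
  have hνc : νc ≠ 1 := by
    intro e
    refine hν (LinearMap.ext ?_)
    rintro ⟨_, g, hg, rfl⟩
    have := hval g hg
    rw [e, val_of_mem _ hg, MonoidHom.one_apply, ← map_one ω] at this
    exact (Multiplicative.ofAdd.injective (hω this)).symm
  obtain ⟨ψ, d, hd, hd1, hψval, hψfix⟩ := S.exists_above (by omega) hνc
  have hψnt : ∃ g ∈ gam P 2, (ψ : P → ℂ) g ≠ (ψ : P → ℂ) 1 := by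
    by_contra h
    push Not at h
    refine hνc (eq_one_of_val fun g hg => ?_)
    have := h g (gam_anti (by omega) hg)
    rw [hψval g hg, hd] at this
    exact Units.ext ((mul_eq_right₀ (hd ▸ irr_degree_ne_zero ψ.2)).mp this)
  -- radical elements
  have hrad' : ∀ v ∈ gam P 1, val νc ⁅p, v⁆ = 1 := by
    intro v hv
    have hm : ⁅p, v⁆ ∈ gam P 3 := comm_mem (i := 1) (j := 1) hp1 hv
    rw [hval _ hm, show (⟨el 3 ⁅p, v⁆, _, hm, rfl⟩ : layer (P := P) 3) =
      ⟨br P (el 1 g) (el 1 v), br_layer_one ⟨g, hg, rfl⟩ ⟨v, hv, rfl⟩⟩ from Subtype.ext (by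
        show el 3 ⁅p, v⁆ = br P (el 1 g) (el 1 v)
        rw [← help, br11 hp1 hv])]
    have := hrad ⟨el 1 v, v, hv, rfl⟩
    rw [show u = ⟨el 1 g, g, hg, rfl⟩ from Subtype.ext hgu.symm] at this
    rw [show ν ⟨br P (el 1 g) (el 1 v), _⟩ = 0 from this, ofAdd_zero, map_one]
  have hνcfix : ∀ g ∈ gam P 3, val νc (τ g) = val νc g := fun g hg => by
    rw [hval _ hg, hval _ (apply_mem_gam τ hg), hfix ν g hg]
  -- the moved elements centralising `p` far enough
  have hchi : ∀ r ∈ S.Rm, ⁅p, r⁆ ∈ gam P 3 → val νc ⁅p, r⁆ = 1 := by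
    have hmul : ∀ a b : P, ⁅p, a⁆ ∈ gam P 3 → ⁅p, b⁆ ∈ gam P 3 →
        val νc ⁅p, a * b⁆ = val νc ⁅p, a⁆ * val νc ⁅p, b⁆ := fun a b ha hb => by
      rw [comm_mul_right', val_mul νc ha (conj_mem_gam hb a), val_conj νc hb]
    let X : Set S.moved := {x | ∃ r ∈ S.Rm, ⁅p, r⁆ ∈ gam P 3 ∧ el 0 r = x.1}
    let dlt : X → X := fun x => ⟨⟨grMap τ x.1.1 - x.1.1, by
        obtain ⟨r, hr, -, e⟩ := x.2
        rw [← e, grMap_el τ (mem0 r), sub_eq_neg_add, ← el_inv (mem0 r),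
          ← el_mul (mem0 _) (mem0 _)]
        exact ⟨_, mul_mem (inv_mem hr) (S.apply_Rm hr S.t1), rfl⟩⟩, by
      obtain ⟨r, hr, hrp, e⟩ := x.2
      refine ⟨r⁻¹ * τ r, mul_mem (inv_mem hr) (S.apply_Rm hr S.t1), ?_, ?_⟩
      · rw [comm_mul_right']
        refine mul_mem ?_ (conj_mem_gam ?_ _)
        · rw [show ⁅p, r⁻¹⁆ = r⁻¹ * ⁅p, r⁆⁻¹ * r⁻¹⁻¹ by simp [commutatorElement_def, mul_assoc]]
          exact conj_mem_gam (inv_mem hrp) _
        · rw [← hpτ, ← map_commutatorElement]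
          exact apply_mem_gam τ hrp
      · show el 0 (r⁻¹ * τ r) = grMap τ x.1.1 - x.1.1
        rw [← e, grMap_el τ (mem0 r), el_mul (mem0 _) (mem0 _),
          el_inv (mem0 r), sub_eq_neg_add]⟩
    have hinj : Function.Injective dlt := by
      intro x y hxy
      have h1 : grMap τ x.1.1 - x.1.1 = grMap τ y.1.1 - y.1.1 :=
        congrArg (fun z : X => z.1.1) hxy
      obtain ⟨r, hr, e⟩ := (x.1 - y.1).2
      have h2 : grMap τ (x.1 - y.1 : S.moved).1 - (x.1 - y.1 : S.moved).1 = 0 := by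
        rw [AddSubgroup.coe_sub, map_sub, sub_sub_sub_comm, h1, sub_self]
      rw [← e, grMap_el τ (mem0 r), sub_eq_neg_add, ← el_inv (mem0 r),
        ← el_mul (mem0 _) (mem0 _), el_eq_zero_iff (mem0 _)] at h2
      have h3 : r ∈ S.D.Z0 := S.D.mem_Z0_of_fixed (S.not_f_dvd_t1 hZ) (S.gam_le_Z0 le_rfl h2)
      have h4 : x.1 - y.1 = 0 := Subtype.ext (e ▸ (S.el_zero_eq hr).mpr h3)
      exact Subtype.ext (sub_eq_zero.mp h4)
    intro r hr hrp
    obtain ⟨x, hx⟩ := Finite.surjective_of_injective hinj ⟨⟨el 0 r, r, hr, rfl⟩, r, hr, hrp, rfl⟩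
    obtain ⟨s, hs, hsp, e⟩ := x.2
    have hx' : el 0 (s⁻¹ * τ s) = el 0 r := by
      have h1 : grMap τ x.1.1 - x.1.1 = el 0 r := congrArg (fun z : X => z.1.1) hx
      rw [← h1, ← e, grMap_el τ (mem0 s), el_mul (mem0 _) (mem0 _),
        el_inv (mem0 s), sub_eq_neg_add]
    set v := (s⁻¹ * τ s)⁻¹ * r
    have hv : v ∈ gam P 1 := (el_eq_zero_iff (mem0 _)).mp (by
      rw [el_mul (mem0 _) (mem0 _), el_inv (mem0 _), hx',
        neg_add_cancel])
    have hτs : ⁅p, τ s⁆ ∈ gam P 3 := by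
      rw [← hpτ, ← map_commutatorElement]; exact apply_mem_gam τ hsp
    have hsi : ⁅p, s⁻¹⁆ ∈ gam P 3 := by
      rw [show ⁅p, s⁻¹⁆ = s⁻¹ * ⁅p, s⁆⁻¹ * s⁻¹⁻¹ by simp [commutatorElement_def, mul_assoc]]
      exact conj_mem_gam (inv_mem hsp) _
    have hval0 : val νc ⁅p, s⁻¹ * τ s⁆ = 1 := by
      rw [hmul _ _ hsi hτs, show val νc ⁅p, τ s⁆ = val νc ⁅p, s⁆ by
        conv_lhs => rw [← hpτ, ← map_commutatorElement]
        exact hνcfix _ hsp, ← hmul _ _ hsi hsp, inv_mul_cancel, commutatorElement_one_right, val_one]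
    have hm : ⁅p, s⁻¹ * τ s⁆ ∈ gam P 3 := by
      rw [comm_mul_right']; exact mul_mem hsi (conj_mem_gam hτs _)
    rw [show r = (s⁻¹ * τ s) * v from (mul_inv_cancel_left _ _).symm,
      hmul _ _ hm (comm_mem (i := 1) (j := 1) hp1 hv), hval0, one_mul]
    exact hrad' v hv
  -- the class of `p`
  obtain ⟨w, hw, hwν⟩ : ∃ w ∈ gam P 3, val νc w ≠ 1 := by
    by_contra h
    push Not at h
    exact hνc (eq_one_of_val h)
  obtain ⟨s, hs⟩ := S.exists_comm_two hZ (S.notMem_W3 hZ h2 hp1 hp2) (gam_anti (by omega) hw)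
  obtain ⟨r, hr, c, hc, v, hv, rfl⟩ := S.exists_decomp s
  have hc3 : ⁅c, p⁆ ∈ gam P 3 := S.comm_fixed_gam_two hc hp1
  have hv3 : ⁅v, p⁆ ∈ gam P 3 := comm_mem (i := 1) (j := 1) hv hp1
  have hcv3 : ⁅c * v, p⁆ ∈ gam P 3 := by
    rw [comm_mul_left']; exact mul_mem (conj_mem_gam hv3 c) hc3
  have hr3 : ⁅r, p⁆ ∈ gam P 3 := by
    rw [mul_assoc, comm_mul_left'] at hs
    have := mul_mem (inv_mem (conj_mem_gam hcv3 r)) (hs.symm ▸ hw)
    rwa [inv_mul_cancel_left] at this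
  -- the pairing with the fixed element
  have hρ : val νc ⁅c, p⁆ = 1 := by
    let μ : Q P 1 →* ℂˣ := QuotientGroup.lift _
      { toFun := fun x : gam P 1 => val νc ⁅c, (x : P)⁆
        map_one' := by rw [Subgroup.coe_one, commutatorElement_one_right, val_one]
        map_mul' := fun a b => by
          rw [Subgroup.coe_mul, comm_mul_right',
            val_mul νc (S.comm_fixed_gam_two hc a.2)
              (conj_mem_gam (S.comm_fixed_gam_two hc b.2) _),
            val_conj νc (S.comm_fixed_gam_two hc b.2)] }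
      fun x hx => val_succ νc (hc4 c hc _ hx)
    have hμ : μ = 1 := by
      by_contra hμ
      refine S.not_t1_dvd hZ ψ hψnt (S.t1_dvd_of_fix hZ hμ fun y => ?_)
      obtain ⟨x, rfl⟩ := QuotientGroup.mk_surjective y
      show val νc ⁅c, (S.D.σ ^ os S.D.σ (ψ : P → ℂ)) (x : P)⁆ = val νc ⁅c, (x : P)⁆
      conv_lhs => rw [← S.fixed_pow hc (os S.D.σ (ψ : P → ℂ)), ← map_commutatorElement]
      exact (hψfix _ dvd_rfl).val_eq S (S.comm_fixed_gam_two hc x.2)
    exact DFunLike.congr_fun hμ (QuotientGroup.mk ⟨p, hp1⟩)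
  refine hwν ?_
  rw [← hs, mul_assoc, comm_mul_left', val_mul νc (conj_mem_gam hcv3 r) hr3, val_conj νc hcv3,
    comm_mul_left', val_mul νc (conj_mem_gam hv3 c) hc3, val_conj νc hv3, hρ, mul_one,
    ← commutatorElement_inv, val_inv νc (show ⁅p, v⁆ ∈ gam P 3 from comm_mem (i := 1) (j := 1) hp1 hv), hrad' v hv,
    inv_one, one_mul, ← commutatorElement_inv,
    val_inv νc (show ⁅p, r⁆ ∈ gam P 3 from commutatorElement_inv r p ▸ inv_mem hr3),
    hchi r hr (commutatorElement_inv r p ▸ inv_mem hr3), inv_one]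

end Four

end QOp

end CfsgLib.NDDeg
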