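import Cfsg.Agent.Lib.NDTwoComp.Module

/-!
# Point stabilisers in a group with a cyclic top over a semiregular abelian part

`H` has a normal abelian subgroup `W = R × Z` with cyclic quotient, `Z = W ⊓ H0` is central
and the elements of `H0` outside `W` act without fixed points on `R`. When `H` acts on an
abelian group so that the orders of the point stabilisers form an antichain for divisibility,
all stabilisers look the same, and then `R` is large.
-/

set_option autoImplicit false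
set_option linter.style.haveILetI false
set_option linter.unusedSectionVars false

namespace CfsgLib.NDDeg

universe u v

/-- The operator group. -/
structure Sys (H : Type u) [Group H] where
  W : Subgroup H
  R : Subgroup H
  H0 : Subgroup H
  normal : W.Normal
  c : H
  c_mem : c ∈ H0
  gen : ∀ h : H, ∃ i : ℕ, ∃ w ∈ W, h = w * c ^ i
  commW : ∀ a ∈ W, ∀ b ∈ W, a * b = b * a
  comm0 : ∀ a ∈ H0, ∀ b ∈ H0, a * b = b * a
  hRW : R ≤ W
  conjR : ∀ h ∈ H0, ∀ r ∈ R, h * r * h⁻¹ ∈ R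
  inf0 : ∀ r ∈ R, r ∈ H0 → r = 1
  decomp : ∀ w ∈ W, ∃ r ∈ R, ∃ z ∈ H0, w = r * z
  fpf : ∀ h ∈ H0, h ∉ W → ∀ r ∈ R, h * r * h⁻¹ = r → r = 1
  ne_bot : R ≠ ⊥

namespace Sys

variable {H : Type u} [Group H] (S : Sys H)

instance : S.W.Normal := S.normal

theorem exists_decomp (h : H) : ∃ r ∈ S.R, ∃ h0 ∈ S.H0, h = r * h0 := by
  obtain ⟨i, w, hw, rfl⟩ := S.gen h
  obtain ⟨r, hr, z, hz, rfl⟩ := S.decomp w hw
  exact ⟨r, hr, z * S.c ^ i, mul_mem hz (pow_mem S.c_mem i), mul_assoc _ _ _⟩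

theorem central {z : H} (hzW : z ∈ S.W) (hz0 : z ∈ S.H0) (h : H) : h * z = z * h := by
  obtain ⟨r, hr, h0, hh0, rfl⟩ := S.exists_decomp h
  rw [mul_assoc, S.comm0 h0 hh0 z hz0, ← mul_assoc, S.commW r (S.hRW hr) z hzW, mul_assoc]

theorem mk_conj {s : H} (hs : s ∈ S.W) (g : H) :
    ((s * g * s⁻¹ : H) : H ⧸ S.W) = (g : H ⧸ S.W) := by
  rw [QuotientGroup.mk_mul, QuotientGroup.mk_mul, (QuotientGroup.eq_one_iff s).mpr hs,
    QuotientGroup.mk_inv, (QuotientGroup.eq_one_iff s).mpr hs, one_mul, inv_one, mul_one]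

variable [Finite H]

/-- An element outside `W` is conjugate under `R` into `H0`. -/
theorem exists_conj {g : H} (hg : g ∉ S.W) : ∃ s ∈ S.R, s * g * s⁻¹ ∈ S.H0 := by
  obtain ⟨r, hr, h0, hh0, rfl⟩ := S.exists_decomp g
  have hh0W : h0 ∉ S.W := fun h => hg (mul_mem (S.hRW hr) h)
  let φ : S.R → S.R := fun s => ⟨s * (h0 * (s : H)⁻¹ * h0⁻¹),
    mul_mem s.2 (S.conjR h0 hh0 _ (inv_mem s.2))⟩
  have hφ : Function.Injective φ := by
    intro a b hab
    have h1 : (a : H) * (h0 * (a : H)⁻¹ * h0⁻¹) = b * (h0 * (b : H)⁻¹ * h0⁻¹) :=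
      congrArg Subtype.val hab
    have h2 : h0 * ((a : H)⁻¹ * b) * h0⁻¹ = (a : H)⁻¹ * b := by
      calc h0 * ((a : H)⁻¹ * b) * h0⁻¹ = (h0 * (a : H)⁻¹ * h0⁻¹) * (h0 * (b : H)⁻¹ * h0⁻¹)⁻¹ := by
            group
        _ = (a : H)⁻¹ * ((a : H) * (h0 * (a : H)⁻¹ * h0⁻¹)) * (h0 * (b : H)⁻¹ * h0⁻¹)⁻¹ := by
            group
        _ = _ := by rw [h1]; group
    exact Subtype.ext (inv_mul_eq_one.mp
      (S.fpf h0 hh0 hh0W _ (mul_mem (inv_mem a.2) b.2) h2))
  obtain ⟨s, hs⟩ := Finite.surjective_of_injective hφ ⟨r⁻¹, inv_mem hr⟩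
  have hs' : (s : H) * (h0 * (s : H)⁻¹ * h0⁻¹) = r⁻¹ := congrArg Subtype.val hs
  refine ⟨s, s.2, ?_⟩
  have : (s : H) * (r * h0) * (s : H)⁻¹ = h0 := by
    calc (s : H) * (r * h0) * (s : H)⁻¹ = (s * r) * (h0 * (s : H)⁻¹ * h0⁻¹) * h0 := by group
      _ = r * ((s : H) * (h0 * (s : H)⁻¹ * h0⁻¹)) * h0 := by
          rw [S.commW s (S.hRW s.2) r (S.hRW hr)]; group
      _ = h0 := by rw [hs']; group
  rw [this]
  exact hh0

section Action

variable {V : Type v} [CommGroup V] [Finite V] (α : H →* MulAut V)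
  (hfree : ∀ w ∈ S.W, w ∉ S.H0 → ∀ x, α w x = x → x = 1)

/-- The stabiliser of a point. -/
def stab (x : V) : Subgroup H where
  carrier := {h | α h x = x}
  one_mem' := by simp
  mul_mem' := fun {a b} ha hb => by
    show α (a * b) x = x
    rw [map_mul, MulAut.mul_apply, show α b x = x from hb, show α a x = x from ha]
  inv_mem' := fun {a} ha => by
    show α a⁻¹ x = x
    conv_lhs => rw [← (show α a x = x from ha)]
    simp

variable {α}

theorem mem_stab {x : V} {h : H} : h ∈ stab α x ↔ α h x = x := Iff.rfl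

theorem mem_stab_apply {x : V} {g h : H} : h ∈ stab α (α g x) ↔ g⁻¹ * h * g ∈ stab α x := by
  rw [mem_stab, mem_stab]
  constructor
  · intro e
    rw [map_mul, map_mul, MulAut.mul_apply, MulAut.mul_apply, e, map_inv, MulAut.inv_apply_self]
  · intro e
    have h1 := congrArg (α g) e
    simpa [mul_assoc] using h1

theorem card_stab_apply (x : V) (g : H) : Nat.card (stab α (α g x)) = Nat.card (stab α x) := by
  refine Nat.card_congr
    { toFun := fun h => ⟨g⁻¹ * h * g, mem_stab_apply.mp h.2⟩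
      invFun := fun h => ⟨g * h * g⁻¹, mem_stab_apply.mpr (by simpa [mul_assoc] using h.2)⟩
      left_inv := fun h => Subtype.ext (by simp [mul_assoc])
      right_inv := fun h => Subtype.ext (by simp [mul_assoc]) }

include hfree in
theorem stab_inf_le {x : V} (hx : x ≠ 1) : stab α x ⊓ S.W ≤ S.H0 := fun w hw => by
  by_contra h0
  exact hx (hfree w hw.2 h0 x hw.1)

include hfree in
theorem free_R {r : H} (hr : r ∈ S.R) (hr1 : r ≠ 1) {x : V} (h : α r x = x) : x = 1 :=
  hfree r (S.hRW hr) (fun h0 => hr1 (S.inf0 r hr h0)) x h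

include hfree in
theorem card_R_dvd : Nat.card S.R ∣ Nat.card V - 1 :=
  CfsgLib.NDTwoComp.card_dvd_pred (α.comp S.R.subtype) fun u hu _ h =>
    S.free_R hfree u.2 (fun e => hu (Subtype.ext e)) h

include hfree in
/-- A power condition produces a fixed point. -/
theorem exists_fixed {U : Subgroup H} (hU : U ≤ S.W ⊓ S.H0) {x : V} (hx : x ≠ 1)
    (hxU : U ≤ stab α x) {h : H} (hh : h ∈ S.H0) {n : ℕ} (hn : 0 < n) (hnU : h ^ n ∈ U)
    (hlt : ∀ i, 0 < i → i < n → h ^ i ∉ S.W) :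
    ∃ y, y ≠ 1 ∧ U ≤ stab α y ∧ h ∈ stab α y := by
  classical
  haveI := Fintype.ofFinite S.R
  by_contra hno
  push Not at hno
  have hfixU : ∀ u ∈ U, ∀ g : H, α (u * g) x = α g x := fun u hu g => by
    rw [← S.central (hU hu).1 (hU hu).2 g, map_mul, MulAut.mul_apply, hxU hu]
  let N : S.R → V := fun s => ∏ i ∈ Finset.range n, α (h ^ i * (s : H)) x
  have hN : ∀ s, N s = 1 := fun s => by
    by_contra hne
    refine hno (N s) hne (fun u hu => ?_) ?_
    · rw [mem_stab, map_prod]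
      refine Finset.prod_congr rfl fun i _ => ?_
      rw [← MulAut.mul_apply, ← map_mul, hfixU u hu]
    · rw [mem_stab, map_prod]
      obtain ⟨m, rfl⟩ := Nat.exists_eq_succ_of_ne_zero hn.ne'
      simp only [N, ← MulAut.mul_apply, ← map_mul, ← mul_assoc, ← pow_succ']
      rw [Finset.prod_range_succ (fun i => α (h ^ (i + 1) * (s : H)) x),
        Finset.prod_range_succ' (fun i => α (h ^ i * (s : H)) x), pow_zero, one_mul,
        hfixU _ hnU]
  have key : ∏ i ∈ Finset.range n, ∏ s : S.R, α ((s : H)⁻¹ * h ^ i * (s : H)) x = 1 := by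
    rw [Finset.prod_comm]
    refine Finset.prod_eq_one fun s _ => ?_
    have h1 := congrArg (α (s : H)⁻¹) (hN s)
    rw [map_one, map_prod] at h1
    rw [← h1]
    refine Finset.prod_congr rfl fun i _ => ?_
    rw [← MulAut.mul_apply, ← map_mul, mul_assoc]
  rw [Finset.prod_eq_single 0] at key
  · simp only [pow_zero, mul_one, inv_mul_cancel, map_one, MulAut.one_apply,
      Finset.prod_const, Finset.card_univ, ← Nat.card_eq_fintype_card] at key
    have h1 := orderOf_dvd_of_pow_eq_one key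
    have h2 : orderOf x ∣ 1 := by
      have h3 := Nat.dvd_sub (orderOf_dvd_natCard x) (h1.trans (S.card_R_dvd hfree))
      rwa [Nat.sub_sub_self Nat.card_pos] at h3
    exact hx (orderOf_eq_one_iff.mp (Nat.dvd_one.mp h2))
  · intro i hi hi0
    have hiW := hlt i (Nat.pos_of_ne_zero hi0) (Finset.mem_range.mp hi)
    have hi0' : h ^ i ∈ S.H0 := pow_mem hh i
    let ψ : S.R → S.R := fun s => ⟨(s : H)⁻¹ * (h ^ i * s * (h ^ i)⁻¹),
      mul_mem (inv_mem s.2) (S.conjR _ hi0' _ s.2)⟩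
    have hψ : Function.Injective ψ := by
      intro a b hab
      have h1 : (a : H)⁻¹ * (h ^ i * a * (h ^ i)⁻¹) = (b : H)⁻¹ * (h ^ i * b * (h ^ i)⁻¹) :=
        congrArg Subtype.val hab
      have h2 : h ^ i * ((b : H) * (a : H)⁻¹) * (h ^ i)⁻¹ = (b : H) * (a : H)⁻¹ := by
        calc h ^ i * ((b : H) * (a : H)⁻¹) * (h ^ i)⁻¹
            = b * ((b : H)⁻¹ * (h ^ i * b * (h ^ i)⁻¹)) * (h ^ i * a * (h ^ i)⁻¹)⁻¹ := by group
          _ = _ := by rw [← h1]; group
      exact Subtype.ext (mul_inv_eq_one.mp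
        (S.fpf _ hi0' hiW _ (mul_mem b.2 (inv_mem a.2)) h2)).symm
    have hsum : ∏ s : S.R, α ((s : H)⁻¹ * h ^ i * (s : H)) x =
        ∏ r : S.R, α (r : H) (α (h ^ i) x) := by
      refine Fintype.prod_bijective ψ (Finite.injective_iff_bijective.mp hψ) _ _ fun s => ?_
      rw [← MulAut.mul_apply, ← map_mul]
      congr 2
      simp only [ψ]
      group
    rw [hsum]
    obtain ⟨r₀, hr₀, hr₀1⟩ : ∃ r ∈ S.R, r ≠ 1 := by
      by_contra hc
      push Not at hc
      exact S.ne_bot ((Subgroup.eq_bot_iff_forall _).mpr hc)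
    refine S.free_R hfree hr₀ hr₀1 ?_
    rw [map_prod]
    refine Fintype.prod_equiv (Equiv.mulLeft (⟨r₀, hr₀⟩ : S.R)) _ _ fun r => ?_
    rw [← MulAut.mul_apply, ← map_mul]
    rfl
  · intro h0
    exact absurd (Finset.mem_range.mpr hn) h0

/-- The image in the cyclic quotient. -/
abbrev img (I : Subgroup H) : Subgroup (H ⧸ S.W) := I.map (QuotientGroup.mk' S.W)

theorem card_eq_mul (I : Subgroup H) :
    Nat.card I = Nat.card ↥(I ⊓ S.W) * Nat.card ↥(S.img I) := by
  have h1 := Subgroup.card_mul_index ((I ⊓ S.W).subgroupOf I)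
  rw [Nat.card_congr (Subgroup.subgroupOfEquivOfLe inf_le_left).toEquiv] at h1
  rw [← h1]
  congr 1
  have h2 : ((QuotientGroup.mk' S.W).comp I.subtype).ker = (I ⊓ S.W).subgroupOf I := by
    ext a
    simp [Subgroup.mem_subgroupOf]
  rw [← h2, Subgroup.index_ker, MonoidHom.range_comp, Subgroup.range_subtype]

theorem isCyclic_quotient : IsCyclic (H ⧸ S.W) := by
  refine ⟨⟨(S.c : H ⧸ S.W), fun x => ?_⟩⟩
  obtain ⟨h, rfl⟩ := QuotientGroup.mk_surjective x
  obtain ⟨i, w, hw, rfl⟩ := S.gen h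
  exact ⟨i, by simp [(QuotientGroup.eq_one_iff w).mpr hw]⟩

theorem exists_gen (I : Subgroup H) :
    ∃ g ∈ I, S.img I = Subgroup.zpowers (g : H ⧸ S.W) := by
  haveI := S.isCyclic_quotient
  obtain ⟨⟨e, g, hg, rfl⟩, he⟩ := IsCyclic.exists_generator (α := S.img I)
  refine ⟨g, hg, le_antisymm (fun x hx => ?_) (Subgroup.zpowers_le.mpr ⟨g, hg, rfl⟩)⟩
  obtain ⟨k, hk⟩ := he ⟨x, hx⟩
  exact ⟨k, congrArg Subtype.val hk⟩

include hfree in
/-- A subgroup with central part inside a stabiliser is dominated by a stabiliser. -/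
theorem exists_dom {U : Subgroup H} (hU : U ≤ S.W ⊓ S.H0) {x : V} (hx : x ≠ 1)
    (hxU : U ≤ stab α x) {I : Subgroup H} (hI : ∀ a ∈ I, a ∈ S.W → a ∈ U) :
    ∃ y, y ≠ 1 ∧ U ≤ stab α y ∧ S.img I ≤ S.img (stab α y) := by
  obtain ⟨g, hgI, hg⟩ := S.exists_gen I
  by_cases hgW : g ∈ S.W
  · refine ⟨x, hx, hxU, ?_⟩
    rw [hg, (QuotientGroup.eq_one_iff g).mpr hgW, Subgroup.zpowers_one_eq_bot]
    exact bot_le
  obtain ⟨s, hs, hh⟩ := S.exists_conj hgW
  set h := s * g * s⁻¹ with hhdef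
  have hmk : (h : H ⧸ S.W) = (g : H ⧸ S.W) := S.mk_conj (S.hRW hs) g
  set n := orderOf (g : H ⧸ S.W) with hn
  have hgn : g ^ n ∈ S.W := by
    rw [← QuotientGroup.eq_one_iff, QuotientGroup.mk_pow]
    exact pow_orderOf_eq_one _
  have hhn : h ^ n ∈ U := by
    have hgU := hI _ (pow_mem hgI n) hgn
    rw [hhdef, conj_pow, S.central (hU hgU).1 (hU hgU).2 s, mul_assoc, mul_inv_cancel, mul_one]
    exact hgU
  obtain ⟨y, hy, hyU, hyh⟩ := S.exists_fixed hfree hU hx hxU hh
    (orderOf_pos (g : H ⧸ S.W)) hhn fun i hi hin hiW => by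
      rw [← QuotientGroup.eq_one_iff, QuotientGroup.mk_pow, hmk] at hiW
      exact absurd (Nat.le_of_dvd hi (orderOf_dvd_of_pow_eq_one hiW)) (not_le.mpr hin)
  refine ⟨y, hy, hyU, ?_⟩
  rw [hg, Subgroup.zpowers_le, ← hmk]
  exact ⟨h, hyh, rfl⟩

variable (hanti : ∀ x y : V, x ≠ 1 → y ≠ 1 → (stab α x).index ∣ (stab α y).index →
    (stab α x).index = (stab α y).index)

include hfree hanti in
/-- A dominated stabiliser is equal. -/
theorem eq_of_dom {x y : V} (hx : x ≠ 1) (hy : y ≠ 1) (hU : stab α x ⊓ S.W ≤ stab α y ⊓ S.W)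
    (hi : S.img (stab α x) ≤ S.img (stab α y)) :
    stab α x ⊓ S.W = stab α y ⊓ S.W ∧ S.img (stab α x) = S.img (stab α y) := by
  have hd : Nat.card (stab α x) ∣ Nat.card (stab α y) := by
    rw [S.card_eq_mul (stab α x), S.card_eq_mul (stab α y)]
    exact mul_dvd_mul (Subgroup.card_dvd_of_le hU) (Subgroup.card_dvd_of_le hi)
  have hidx : (stab α y).index ∣ (stab α x).index := by
    obtain ⟨k, hk⟩ := hd
    have h1 := (stab α x).card_mul_index
    rw [← (stab α y).card_mul_index, hk, mul_assoc] at h1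
    exact ⟨k, by rw [Nat.eq_of_mul_eq_mul_left Nat.card_pos h1]; ring⟩
  have he := hanti y x hy hx hidx
  have hc : Nat.card (stab α x) = Nat.card (stab α y) := by
    have h1 := (stab α x).card_mul_index
    rw [← (stab α y).card_mul_index, he] at h1
    exact Nat.eq_of_mul_eq_mul_right (Nat.pos_of_ne_zero Subgroup.index_ne_zero_of_finite) h1
  rw [S.card_eq_mul (stab α x), S.card_eq_mul (stab α y)] at hc
  have l1 := Subgroup.card_le_of_le hU
  have l2 := Subgroup.card_le_of_le hi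
  have p1 : 0 < Nat.card ↥(stab α x ⊓ S.W) := Nat.card_pos
  have p2 : 0 < Nat.card ↥(S.img (stab α x)) := Nat.card_pos
  refine ⟨Subgroup.eq_of_le_of_card_ge hU ?_, Subgroup.eq_of_le_of_card_ge hi ?_⟩
  · by_contra hlt
    exact (Nat.mul_lt_mul_of_lt_of_le (not_le.mp hlt) l2 Nat.card_pos).ne hc
  · by_contra hlt
    exact (Nat.mul_lt_mul_of_le_of_lt l1 (not_le.mp hlt) Nat.card_pos).ne hc

include hfree hanti in
theorem inter_eq_of_le {x y : V} (hx : x ≠ 1) (hy : y ≠ 1)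
    (h : stab α x ⊓ S.W ≤ stab α y ⊓ S.W) : stab α x ⊓ S.W = stab α y ⊓ S.W := by
  obtain ⟨z, hz, hzU, hzi⟩ := S.exists_dom hfree (U := stab α y ⊓ S.W)
    (le_inf inf_le_right (S.stab_inf_le hfree hy)) hy inf_le_left
    (I := stab α x) fun a ha haW => h ⟨ha, haW⟩
  have hz' : stab α y ⊓ S.W ≤ stab α z ⊓ S.W := le_inf hzU inf_le_right
  exact le_antisymm h (hz'.trans (S.eq_of_dom hfree hanti hx hz (h.trans hz') hzi).1.ge)

include hfree hanti in
/-- All stabilisers meet `W` in the same subgroup. -/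
theorem inter_eq {x y : V} (hx : x ≠ 1) (hy : y ≠ 1) :
    stab α x ⊓ S.W = stab α y ⊓ S.W := by
  classical
  set U := stab α x ⊓ S.W
  set U' := stab α y ⊓ S.W
  let Fx : V → Prop := fun z => U ≤ stab α z
  let Fy : V → Prop := fun z => U' ≤ stab α z
  by_cases h : ∃ k, k ≠ 1 ∧ Fx k ∧ Fy k
  · obtain ⟨k, hk, h1, h2⟩ := h
    exact (S.inter_eq_of_le hfree hanti hx hk (le_inf h1 inf_le_right)).trans
      (S.inter_eq_of_le hfree hanti hy hk (le_inf h2 inf_le_right)).symm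
  · push Not at h
    have hxy : x * y ≠ 1 := fun e => h y hy (by
        intro u hu
        have : α u x = x := hu.1
        rw [mem_stab, eq_inv_of_mul_eq_one_right e, map_inv, this]) (fun u hu => hu.1)
    have hle : ∀ s ∈ stab α (x * y) ⊓ S.W, α s x = x ∧ α s y = y := by
      intro s hs
      have e : α s x * α s y = x * y := by rw [← map_mul]; exact hs.1
      have e' : α s x * x⁻¹ = y * (α s y)⁻¹ := by
        rw [eq_mul_inv_iff_mul_eq, mul_right_comm, e, mul_comm x y, mul_inv_cancel_right]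
      have hpres : ∀ (T : Subgroup H), T ≤ S.W → ∀ z, T ≤ stab α z → T ≤ stab α (α s z) := by
        intro T hT z hz t ht
        rw [mem_stab, ← MulAut.mul_apply, ← map_mul, S.commW t (hT ht) s hs.2, map_mul,
          MulAut.mul_apply, hz ht]
      have m1 : Fx (α s x * x⁻¹) := fun u hu => by
        rw [mem_stab, map_mul, map_inv, hu.1, hpres U inf_le_right x inf_le_left hu]
      have m2 : Fy (y * (α s y)⁻¹) := fun u hu => by
        rw [mem_stab, map_mul, map_inv, hu.1, hpres U' inf_le_right y inf_le_left hu]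
      have h1 : α s x * x⁻¹ = 1 := by
        by_contra hne
        exact h _ hne m1 (e' ▸ m2)
      exact ⟨mul_inv_eq_one.mp h1, (mul_inv_eq_one.mp (e'.symm.trans h1)).symm⟩
    exact (S.inter_eq_of_le hfree hanti hxy hx fun s hs => ⟨(hle s hs).1, hs.2⟩).symm.trans
      (S.inter_eq_of_le hfree hanti hxy hy fun s hs => ⟨(hle s hs).2, hs.2⟩)

include hfree in
/-- Every point has an image with stabiliser inside `H0`. -/
theorem exists_norm {x : V} (hx : x ≠ 1) :
    ∃ s ∈ S.R, stab α (α s x) ≤ S.H0 := by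
  obtain ⟨g, hg, hgen⟩ := S.exists_gen (stab α x)
  by_cases hgW : g ∈ S.W
  · refine ⟨1, one_mem _, ?_⟩
    rw [map_one, MulAut.one_apply]
    intro a ha
    refine S.stab_inf_le hfree hx ⟨ha, ?_⟩
    have : (a : H ⧸ S.W) ∈ S.img (stab α x) := ⟨a, ha, rfl⟩
    rw [hgen, (QuotientGroup.eq_one_iff g).mpr hgW, Subgroup.zpowers_one_eq_bot,
      Subgroup.mem_bot] at this
    exact (QuotientGroup.eq_one_iff a).mp this
  obtain ⟨s, hs, hh⟩ := S.exists_conj hgW
  refine ⟨s, hs, fun a ha => ?_⟩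
  have hx' : α s x ≠ 1 := fun e => hx ((α s).map_eq_one_iff.mp e)
  have ha' := mem_stab_apply.mp ha
  have : ((s⁻¹ * a * s : H) : H ⧸ S.W) ∈ S.img (stab α x) := ⟨_, ha', rfl⟩
  rw [hgen, Subgroup.mem_zpowers_iff] at this
  obtain ⟨k, hk⟩ := this
  have hgs : s * g * s⁻¹ ∈ stab α (α s x) := mem_stab_apply.mpr (by simpa [mul_assoc] using hg)
  have hmem : a * ((s * g * s⁻¹) ^ k)⁻¹ ∈ stab α (α s x) ⊓ S.W := by
    refine Subgroup.mem_inf.mpr ⟨mul_mem ha (inv_mem (zpow_mem hgs k)), ?_⟩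
    rw [← QuotientGroup.eq_one_iff]
    rw [QuotientGroup.mk_mul, QuotientGroup.mk_inv, QuotientGroup.mk_zpow, S.mk_conj (S.hRW hs),
      mul_inv_eq_one, hk]
    have := S.mk_conj (S.hRW (inv_mem hs)) a
    rw [inv_inv] at this
    exact this.symm
  have := mul_mem (S.stab_inf_le hfree hx' hmem) (zpow_mem hh k)
  rwa [inv_mul_cancel_right] at this

include hfree hanti in
/-- All stabilisers have the same image in the cyclic quotient. -/
theorem img_eq {x y : V} (hx : x ≠ 1) (hy : y ≠ 1) :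
    S.img (stab α x) = S.img (stab α y) := by
  suffices H' : ∀ x y : V, x ≠ 1 → y ≠ 1 → stab α x ≤ S.H0 → stab α y ≤ S.H0 →
      S.img (stab α x) = S.img (stab α y) by
    have himg : ∀ (z : V) (s : H), s ∈ S.R → S.img (stab α (α s z)) = S.img (stab α z) := by
      intro z s hs
      apply le_antisymm
      · rintro _ ⟨a, ha, rfl⟩
        refine ⟨s⁻¹ * a * s, mem_stab_apply.mp ha, ?_⟩
        have := S.mk_conj (S.hRW (inv_mem hs)) a
        rwa [inv_inv] at this
      · rintro _ ⟨a, ha, rfl⟩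
        exact ⟨s * a * s⁻¹, mem_stab_apply.mpr (by simpa [mul_assoc] using ha),
          S.mk_conj (S.hRW hs) a⟩
    obtain ⟨s, hs, hs0⟩ := S.exists_norm hfree hx
    obtain ⟨t, ht, ht0⟩ := S.exists_norm hfree hy
    rw [← himg x s hs, ← himg y t ht]
    exact H' _ _ (fun e => hx ((α s).map_eq_one_iff.mp e)) (fun e => hy ((α t).map_eq_one_iff.mp e))
      hs0 ht0
  intro x y hx hy hx0 hy0
  set U := stab α x ⊓ S.W with hUdef
  obtain ⟨a, ha, hga⟩ := S.exists_gen (stab α x)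
  obtain ⟨b, hb, hgb⟩ := S.exists_gen (stab α y)
  obtain ⟨g, hg, hgg⟩ := S.exists_gen (Subgroup.zpowers a ⊔ Subgroup.zpowers b)
  have hamem : (a : H ⧸ S.W) ∈ Subgroup.zpowers (g : H ⧸ S.W) :=
    hgg ▸ ⟨a, Subgroup.mem_sup_left (Subgroup.mem_zpowers a), rfl⟩
  have hbmem : (b : H ⧸ S.W) ∈ Subgroup.zpowers (g : H ⧸ S.W) :=
    hgg ▸ ⟨b, Subgroup.mem_sup_right (Subgroup.mem_zpowers b), rfl⟩
  have hab : Commute a b := S.comm0 a (hx0 ha) b (hy0 hb)
  haveI : (Subgroup.zpowers a ⊔ Subgroup.zpowers b).subgroupOf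
      (Subgroup.zpowers a ⊔ Subgroup.zpowers b) |>.Normal := by
    rw [Subgroup.subgroupOf_self]; infer_instance
  obtain ⟨i, j, rfl⟩ : ∃ i j : ℤ, a ^ i * b ^ j = g := by
    have hcl : Subgroup.zpowers a ⊔ Subgroup.zpowers b ≤
        ({ carrier := {h | ∃ i j : ℤ, a ^ i * b ^ j = h}
           one_mem' := ⟨0, 0, by simp⟩
           mul_mem' := by
             rintro _ _ ⟨i, j, rfl⟩ ⟨i', j', rfl⟩
             refine ⟨i + i', j + j', ?_⟩
             rw [zpow_add, zpow_add, mul_assoc, ← mul_assoc (a ^ i') (b ^ j),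
               (hab.zpow_zpow i' j).eq]
             group
           inv_mem' := by
             rintro _ ⟨i, j, rfl⟩
             exact ⟨-i, -j, by rw [mul_inv_rev, ← zpow_neg, ← zpow_neg, (hab.zpow_zpow _ _).eq]⟩ } :
          Subgroup H) := by
      refine sup_le (Subgroup.zpowers_le.mpr ⟨1, 0, by simp⟩)
        (Subgroup.zpowers_le.mpr ⟨0, 1, by simp⟩)
    exact hcl hg
  set g := a ^ i * b ^ j
  have hmul : ∀ {d : H} {z : V}, d ∈ stab α z → (d : H ⧸ S.W) ∈ Subgroup.zpowers (g : H ⧸ S.W) →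
      ∀ m : ℤ, g ^ m ∈ S.W → z ≠ 1 → d ^ m ∈ U := by
    intro d z hd hdm m hm hz
    have hdW : d ^ m ∈ S.W := by
      obtain ⟨k, hk⟩ := Subgroup.mem_zpowers_iff.mp hdm
      rw [← QuotientGroup.eq_one_iff, QuotientGroup.mk_zpow] at hm ⊢
      rw [← hk, ← zpow_mul, mul_comm, zpow_mul, hm, one_zpow]
    rw [hUdef, S.inter_eq hfree hanti hx hz]
    exact ⟨zpow_mem hd m, hdW⟩
  set I := U ⊔ Subgroup.zpowers g with hIdef
  have hIW : ∀ e ∈ I, e ∈ S.W → e ∈ U := by
    intro e he heW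
    have hUn : U.Normal := ⟨fun n hn k => by
      rw [S.central hn.2 (S.stab_inf_le hfree hx hn) k, mul_inv_cancel_right]
      exact hn⟩
    rw [hIdef, ← SetLike.mem_coe, Subgroup.normal_mul, Set.mem_mul] at he
    obtain ⟨u, hu, _, ⟨m, rfl⟩, rfl⟩ := he
    refine mul_mem hu ?_
    have hgm : g ^ m ∈ S.W := by
      have := mul_mem (inv_mem (Subgroup.mem_inf.mp hu).2) heW
      rwa [inv_mul_cancel_left] at this
    show g ^ m ∈ U
    rw [((hab.zpow_zpow i j)).mul_zpow, ← zpow_mul, mul_comm i, zpow_mul, ← zpow_mul b,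
      mul_comm j, zpow_mul]
    exact mul_mem (zpow_mem (hmul ha hamem m hgm hx) i) (zpow_mem (hmul hb hbmem m hgm hy) j)
  obtain ⟨z, hz, hzU, hzi⟩ := S.exists_dom hfree (U := U)
    (le_inf inf_le_right (S.stab_inf_le hfree hx)) hx inf_le_left hIW
  have hgi : Subgroup.zpowers (g : H ⧸ S.W) ≤ S.img (stab α z) := le_trans
    (Subgroup.zpowers_le.mpr (show (g : H ⧸ S.W) ∈ S.img I from
      ⟨g, Subgroup.mem_sup_right (Subgroup.mem_zpowers g), rfl⟩)) hzi
  have hU' : stab α x ⊓ S.W ≤ stab α z ⊓ S.W := le_inf hzU inf_le_right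
  have h1 := (S.eq_of_dom hfree hanti hx hz hU'
    (hga ▸ (Subgroup.zpowers_le.mpr hamem).trans hgi)).2
  have h2 := (S.eq_of_dom hfree hanti hy hz (S.inter_eq hfree hanti hy hz).le
    (hgb ▸ (Subgroup.zpowers_le.mpr hbmem).trans hgi)).2
  exact h1.trans h2.symm

include hfree hanti in
theorem index_eq {x y : V} (hx : x ≠ 1) (hy : y ≠ 1) :
    (stab α x).index = (stab α y).index := by
  have hc : Nat.card (stab α x) = Nat.card (stab α y) := by
    rw [S.card_eq_mul (stab α x), S.card_eq_mul (stab α y), S.inter_eq hfree hanti hx hy, S.img_eq hfree hanti hx hy]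
  have h1 := (stab α x).card_mul_index
  rw [← (stab α y).card_mul_index, hc] at h1
  exact Nat.eq_of_mul_eq_mul_left Nat.card_pos h1

include hfree hanti in
/-- `R` is larger than the square root of the module. -/
theorem card_lt_sq (hV : 1 < Nat.card V)
    (hf : ∀ x : V, x ≠ 1 → ¬ S.W.index ∣ (stab α x).index) :
    Nat.card V < Nat.card S.R ^ 2 := by
  classical
  haveI := Fintype.ofFinite V
  haveI : Nontrivial V := Finite.one_lt_card_iff_nontrivial.mp hV
  obtain ⟨v₀, hv₀⟩ := exists_ne (1 : V)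
  obtain ⟨s₀, hs₀, hs₀0⟩ := S.exists_norm hfree hv₀
  set x₀ := α s₀ v₀
  have hx₀ : x₀ ≠ 1 := fun e => hv₀ ((α s₀).map_eq_one_iff.mp e)
  set U := stab α x₀ ⊓ S.W with hUdef
  obtain ⟨h₀, hh₀, hgen⟩ := S.exists_gen (stab α x₀)
  set n := orderOf (h₀ : H ⧸ S.W) with hn
  set m := U.relIndex S.W with hm
  have hnm : ¬ n ∣ m := by
    intro hd
    apply hf x₀ hx₀
    have h1 := S.card_eq_mul (stab α x₀)
    rw [hgen, Nat.card_zpowers, ← hn] at h1
    have h2 := (stab α x₀).card_mul_index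
    rw [h1, ← S.W.card_mul_index] at h2
    have h3 : Nat.card U * m = Nat.card S.W := by
      rw [hm, Subgroup.relIndex, ← Nat.card_congr (Subgroup.subgroupOfEquivOfLe
        (inf_le_right : U ≤ S.W)).toEquiv]
      exact Subgroup.card_mul_index _
    rw [← h3, mul_assoc, mul_assoc] at h2
    have h4 := Nat.eq_of_mul_eq_mul_left Nat.card_pos h2
    obtain ⟨k, hk⟩ := hd
    rw [hk, mul_assoc] at h4
    exact ⟨k, by rw [Nat.eq_of_mul_eq_mul_left (orderOf_pos _) h4]; ring⟩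
  set d := Nat.gcd n m with hd
  have hdn : d ∣ n := Nat.gcd_dvd_left n m
  obtain ⟨k, hk⟩ := hdn
  have hk1 : k ≠ 1 := fun e => hnm (by rw [hk, e, mul_one]; exact Nat.gcd_dvd_right n m)
  obtain ⟨r, hr, hrk⟩ := Nat.exists_prime_and_dvd hk1
  set e := n / r with he
  have hrn : r ∣ n := hk ▸ hrk.trans (dvd_mul_left _ _)
  have hde : d ∣ e := by
    obtain ⟨k', rfl⟩ := hrk
    rw [he, hk, mul_left_comm, Nat.mul_div_cancel_left _ hr.pos]
    exact dvd_mul_right _ _
  set hs := h₀ ^ e with hsdef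
  have hs0 : hs ∈ S.H0 := pow_mem (hs₀0 hh₀) e
  have hsW : hs ∉ S.W := fun h => by
    rw [← QuotientGroup.eq_one_iff, QuotientGroup.mk_pow] at h
    have h1 := Nat.le_of_dvd (Nat.div_pos (Nat.le_of_dvd (orderOf_pos _) hrn) hr.pos)
      (orderOf_dvd_of_pow_eq_one h)
    have h2 := Nat.div_lt_self (orderOf_pos (h₀ : H ⧸ S.W)) hr.one_lt
    omega
  let F : Subgroup V :=
    { carrier := {v | α hs v = v}
      one_mem' := map_one _
      mul_mem' := fun {a b} ha hb => by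
        show α hs (a * b) = a * b
        rw [map_mul, show α hs a = a from ha, show α hs b = b from hb]
      inv_mem' := fun {a} ha => by
        show α hs a⁻¹ = a⁻¹
        rw [map_inv, show α hs a = a from ha] }
  have hcover : ∀ v : V, v ≠ 1 → ∃ s ∈ S.R, α s v ∈ F := by
    intro v hv
    obtain ⟨s, hs', hsv⟩ := S.exists_norm hfree hv
    refine ⟨s, hs', ?_⟩
    set x := α s v
    have hx : x ≠ 1 := fun e => hv ((α s).map_eq_one_iff.mp e)
    obtain ⟨h, hh, hmk⟩ : (h₀ : H ⧸ S.W) ∈ S.img (stab α x) :=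
      S.img_eq hfree hanti hx₀ hx ▸ ⟨h₀, hh₀, rfl⟩
    change (h : H ⧸ S.W) = (h₀ : H ⧸ S.W) at hmk
    have hUx : U = stab α x ⊓ S.W := S.inter_eq hfree hanti hx₀ hx
    have hcm : Commute h₀ h⁻¹ := (show Commute h₀ h from S.comm0 _ (hs₀0 hh₀) _ (hsv hh)).inv_right
    set z := h₀ * h⁻¹ with hz
    have hzW : z ∈ S.W := by
      rw [← QuotientGroup.eq_one_iff, QuotientGroup.mk_mul, QuotientGroup.mk_inv, hmk, mul_inv_cancel]
    have hzn : z ^ n ∈ U := by
      rw [hz, hcm.mul_pow, inv_pow]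
      have hn0 : h₀ ^ n ∈ U := Subgroup.mem_inf.mpr ⟨pow_mem hh₀ n, by
        rw [← QuotientGroup.eq_one_iff, QuotientGroup.mk_pow]; exact pow_orderOf_eq_one _⟩
      have hn1 : h ^ n ∈ U := hUx ▸ Subgroup.mem_inf.mpr ⟨pow_mem hh n, by
        rw [← QuotientGroup.eq_one_iff, QuotientGroup.mk_pow, hmk]; exact pow_orderOf_eq_one _⟩
      exact mul_mem hn0 (inv_mem hn1)
    haveI : (U.subgroupOf S.W).Normal := ⟨fun a ha b => by
      rw [Subgroup.mem_subgroupOf] at ha ⊢
      push_cast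
      rw [S.commW b b.2 a a.2, mul_inv_cancel_right]
      exact ha⟩
    have hze : z ^ e ∈ U := by
      have h1 : orderOf ((⟨z, hzW⟩ : S.W) : S.W ⧸ U.subgroupOf S.W) ∣ n :=
        orderOf_dvd_of_pow_eq_one (by
          rw [← QuotientGroup.mk_pow, QuotientGroup.eq_one_iff]
          exact Subgroup.mem_subgroupOf.mpr hzn)
      have h2 : orderOf ((⟨z, hzW⟩ : S.W) : S.W ⧸ U.subgroupOf S.W) ∣ m := orderOf_dvd_natCard _
      have h3 := orderOf_dvd_iff_pow_eq_one.mp ((Nat.dvd_gcd h1 h2).trans hde)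
      rw [← QuotientGroup.mk_pow, QuotientGroup.eq_one_iff] at h3
      exact Subgroup.mem_subgroupOf.mp h3
    show α hs x = x
    have e1 : hs = z ^ e * h ^ e := by
      rw [hsdef, hz, hcm.mul_pow, inv_pow, inv_mul_cancel_right]
    rw [e1, map_mul, MulAut.mul_apply, show α (h ^ e) x = x from pow_mem hh e]
    exact (hUx ▸ hze : z ^ e ∈ stab α x ⊓ S.W).1
  have hsurj : Function.Surjective (fun x : S.R × {f : F // f ≠ 1} =>
      (⟨α (x.1 : H) (x.2.1 : V),
        fun h => x.2.2 (Subtype.ext ((α _).map_eq_one_iff.mp h))⟩ : {v : V // v ≠ 1})) := by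
    rintro ⟨v, hv⟩
    obtain ⟨s, hs', hsv⟩ := hcover v hv
    refine ⟨(⟨s⁻¹, inv_mem hs'⟩, ⟨⟨α s v, hsv⟩, fun e => hv ?_⟩), Subtype.ext ?_⟩
    · exact (α _).map_eq_one_iff.mp (congrArg Subtype.val e)
    · show α s⁻¹ (α s v) = v
      rw [← MulAut.mul_apply, ← map_mul, inv_mul_cancel, map_one]; rfl
  haveI : Fintype F := Fintype.ofFinite _
  haveI : Fintype S.R := Fintype.ofFinite _
  have hle := Nat.card_le_card_of_surjective _ hsurj
  have hne1 : ∀ (X : Type v) [Group X] [Fintype X] [DecidableEq X],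
      Nat.card {x : X // x ≠ 1} = Nat.card X - 1 := fun X _ _ _ => by
    rw [Nat.card_eq_fintype_card, Nat.card_eq_fintype_card, Fintype.card_subtype_compl,
      Fintype.card_subtype_eq]
  rw [Nat.card_prod, hne1, hne1] at hle
  obtain ⟨y, hy, hy1⟩ : ∃ r ∈ S.R, r ≠ 1 := by
    by_contra hc
    push Not at hc
    exact S.ne_bot ((Subgroup.eq_bot_iff_forall _).mpr hc)
  have hinj : Function.Injective (fun x : F × F => (x.1 : V) * α y x.2) := by
    intro x x' h
    set f1 : F := x'.1⁻¹ * x.1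
    set f2 : F := x'.2 * x.2⁻¹
    have h' : (f1 : V) = α y f2 := by
      have hx : (x.1 : V) * α y x.2 = x'.1 * α y x'.2 := h
      simp only [f1, f2, Subgroup.coe_mul, InvMemClass.coe_inv, map_mul, map_inv]
      rw [inv_mul_eq_iff_eq_mul, ← mul_assoc, eq_mul_inv_iff_mul_eq, hx]
    have hf2 : (f2 : V) = 1 := by
      by_contra hne
      have h1 : α hs (α y f2) = α y f2 := by rw [← h']; exact f1.2
      rw [← MulAut.mul_apply, ← map_mul, show hs * y = hs * y * hs⁻¹ * hs by group, map_mul,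
        MulAut.mul_apply, show α hs f2 = (f2 : V) from f2.2] at h1
      have h2 : α (y⁻¹ * (hs * y * hs⁻¹)) (f2 : V) = f2 := by
        rw [map_mul, MulAut.mul_apply, h1, ← MulAut.mul_apply, ← map_mul, inv_mul_cancel, map_one,
          MulAut.one_apply]
      refine hne (S.free_R hfree (mul_mem (inv_mem hy) (S.conjR _ hs0 _ hy)) (fun e => hy1 ?_) h2)
      exact S.fpf _ hs0 hsW _ hy (inv_mul_eq_one.mp e).symm
    have hf1 : (f1 : V) = 1 := by rw [h', hf2, map_one]
    exact Prod.ext (inv_mul_eq_one.mp (Subtype.ext hf1 : f1 = 1)).symm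
      (mul_inv_eq_one.mp (Subtype.ext hf2 : f2 = 1)).symm
  have hF := Nat.card_le_card_of_injective _ hinj
  rw [Nat.card_prod] at hF
  have hR2 : 2 ≤ Nat.card S.R := (Subgroup.one_lt_card_iff_ne_bot _).mpr S.ne_bot
  by_contra hlt
  rw [not_lt, sq] at hlt
  generalize Nat.card S.R = a at *
  generalize Nat.card F = b at *
  rcases b with _ | b
  · simp only [Nat.zero_sub, Nat.mul_zero] at hle; omega
  · simp only [Nat.add_sub_cancel] at hle
    have h2 := two_mul_le_add_sq a (b + 1)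
    rw [sq, sq] at h2
    generalize Nat.card V = v at *
    have hle' : v ≤ a * b + 1 := by omega
    nlinarith

end Action

end Sys

end CfsgLib.NDDeg
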