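import Cfsg.Agent.Lib.NDDeg.Vanish
import Cfsg.Agent.Lib.Char.Kernel
import Cfsg.Agent.Lib.Char.Central
import Cfsg.Agent.S0022

/-!
# Scalar normal subgroups, fixed cosets and fixed point free endomorphisms
-/

set_option autoImplicit false
set_option linter.style.haveILetI false
set_option linter.unusedSectionVars false

namespace CfsgLib.NDDeg

open Cfsg CfsgLib.Char Representation
open scoped ComplexConjugate CfsgLib.Char commutatorElement

universe u

variable {K : Type u} [Group K] [Finite K]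

/-- A subgroup whose commutators with the group are in the kernel acts by scalars. -/
theorem exists_scalar_hom (N : Subgroup K) (ψ : IrrCharacter K)
    (h : ∀ n ∈ N, ∀ g : K, (ψ : K → ℂ) ⁅g, n⁆ = (ψ : K → ℂ) 1) :
    ∃ μ : N →* ℂˣ, ∀ (n : N) (g : K), (ψ : K → ℂ) ((n : K) * g) = (μ n : ℂ) * (ψ : K → ℂ) g := by
  obtain ⟨d, ρ, hρ, he⟩ := ψ.2
  have hd : 0 < Module.finrank ℂ (Fin d → ℂ) := finrank_pos_of_irreducible ρ
  haveI : Nontrivial (Fin d → ℂ) := Module.finrank_pos_iff.mp hd
  have hscal : ∀ n : N, ∃ c : ℂ, ρ (n : K) = c • LinearMap.id := by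
    intro n
    have hcomm : ∀ g : K, ρ (n : K) ∘ₗ ρ g = ρ g ∘ₗ ρ (n : K) := by
      intro g
      have h1 := h n n.2 g
      rw [← he, Representation.char_one, character_eq_finrank_iff] at h1
      show ρ (n : K) * ρ g = ρ g * ρ (n : K)
      rw [← map_mul, ← map_mul, show g * (n : K) = ⁅g, (n : K)⁆ * ((n : K) * g) by
        simp [commutatorElement_def, mul_assoc], map_mul _ ⁅g, (n : K)⁆, h1, ← Module.End.one_eq_id, one_mul]
    let T : IntertwiningMap ρ ρ := ⟨ρ (n : K), fun g => hcomm g⟩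
    obtain ⟨c, hc⟩ :=
      (IsIrreducible.algebraMap_intertwiningMap_bijective_of_isAlgClosed (ρ := ρ)).2 T
    refine ⟨c, ?_⟩
    rw [show ρ (n : K) = T.toLinearMap from rfl, ← hc, Algebra.algebraMap_eq_smul_one]
    rfl
  choose c hc using hscal
  have hval : ∀ (n : N) (g : K), (ψ : K → ℂ) ((n : K) * g) = c n * (ψ : K → ℂ) g := fun n g => by
    rw [← he]
    show LinearMap.trace ℂ _ (ρ ((n : K) * g)) = c n * LinearMap.trace ℂ _ (ρ g)
    rw [map_mul, hc n, ← Module.End.one_eq_id, smul_mul_assoc, one_mul, map_smul, smul_eq_mul]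
  have hmul : ∀ a b : N, c (a * b) = c a * c b := fun a b => by
    have h1 := hval (a * b) 1
    rw [Subgroup.coe_mul, mul_assoc, hval a, hval b, ← mul_assoc] at h1
    exact (mul_right_cancel₀ (irr_degree_ne_zero ψ.2) h1).symm
  have hone : c 1 = 1 := by
    have h1 := hval 1 1
    rw [Subgroup.coe_one, one_mul] at h1
    exact (mul_eq_right₀ (irr_degree_ne_zero ψ.2)).mp h1.symm
  exact ⟨MonoidHom.toHomUnits { toFun := c, map_one' := hone, map_mul' := hmul }, hval⟩

/-- A coset fixed by a coprime automorphism contains a fixed point. -/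
theorem exists_fixed_mem_coset (σ : MulAut K) {f : ℕ} (hf : σ ^ f = 1)
    (hcop : f.Coprime (Nat.card K)) (N : Subgroup K) [hN : N.Normal]
    (hσN : ∀ n ∈ N, σ n ∈ N) (k : K) (hk : k⁻¹ * σ k ∈ N) :
    ∃ c, σ c = c ∧ k⁻¹ * c ∈ N := by
  let H := Subgroup.zpowers σ
  let Γ := SemidirectProduct K H H.subtype
  haveI : Finite (MulAut K) := Finite.of_injective MulEquiv.toEquiv fun a b e =>
    MulEquiv.ext fun x => Equiv.congr_fun e x
  haveI : Finite Γ := Finite.of_equiv _ SemidirectProduct.equivProd.symm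
  set inl : K →* Γ := SemidirectProduct.inl with hinl
  set inr : H →* Γ := SemidirectProduct.inr with hinr
  have hpow : ∀ n ∈ N, ∀ a : H, (a : MulAut K) n ∈ N := by
    intro n hn a
    obtain ⟨j, hj⟩ := (mem_powers_iff_mem_zpowers (x := σ)).mpr a.2
    rw [← hj]
    clear hj
    induction j with
    | zero => simpa using hn
    | succ j ih =>
      show (σ ^ (j + 1)) n ∈ N
      rw [pow_succ', MulAut.mul_apply]
      exact hσN _ ih
  have hconj : ∀ (a : H) (x : K), inr a * inl x * (inr a)⁻¹ = inl ((a : MulAut K) x) := fun a x => by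
    rw [hinl, hinr, ← map_inv]
    exact (SemidirectProduct.inl_aut (φ := H.subtype) a x).symm
  have hcoset : ∀ a : H, k⁻¹ * (a : MulAut K) k ∈ N := by
    intro a
    obtain ⟨j, hj⟩ := (mem_powers_iff_mem_zpowers (x := σ)).mpr a.2
    rw [← hj]
    clear hj
    induction j with
    | zero => simp
    | succ j ih =>
      show k⁻¹ * (σ ^ (j + 1)) k ∈ N
      rw [pow_succ', MulAut.mul_apply, show k⁻¹ * σ ((σ ^ j) k) =
        (k⁻¹ * σ k) * σ (k⁻¹ * (σ ^ j) k) by rw [map_mul, map_inv]; group]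
      exact mul_mem hk (hσN _ ih)
  have hAK : inr.range ≤ Subgroup.normalizer (inl.range : Set Γ) := by
    rintro _ ⟨a, rfl⟩
    rw [Subgroup.mem_normalizer_iff]
    intro x
    constructor
    · rintro ⟨y, rfl⟩
      exact ⟨_, (hconj a y).symm⟩
    · rintro ⟨y, hy⟩
      refine ⟨(a : MulAut K)⁻¹ y, ?_⟩
      have e := hconj a⁻¹ y
      rw [Subgroup.coe_inv] at e
      rw [← e, hy]
      simp [mul_assoc]
      exact mul_inv_cancel (G := Γ) _
  have hcop' : (Nat.card inr.range).Coprime (Nat.card inl.range) := by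
    rw [← Nat.card_congr (MonoidHom.ofInjective SemidirectProduct.inr_injective).toEquiv,
      ← Nat.card_congr (MonoidHom.ofInjective SemidirectProduct.inl_injective).toEquiv]
    exact Nat.Coprime.coprime_dvd_left (Nat.card_zpowers σ ▸ orderOf_dvd_of_pow_eq_one hf) hcop
  have hsolv : Group.IsSolvable inr.range ∨ Group.IsSolvable inl.range := by
    left
    haveI : IsMulCommutative H := inferInstance
    exact Group.isSolvable_of_comm (G := ↥inr.range) fun x y => by
      obtain ⟨_, a, rfl⟩ := x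
      obtain ⟨_, b, rfl⟩ := y
      exact Subtype.ext (by simp only [Subgroup.coe_mul, ← map_mul, mul_comm' a b])
  have hNn : inl.range ≤ Subgroup.normalizer ((N.map inl : Subgroup Γ) : Set Γ) := by
    rintro _ ⟨y, rfl⟩
    rw [Subgroup.mem_normalizer_iff]
    intro x
    constructor
    · rintro ⟨n, hn, rfl⟩
      exact ⟨_, hN.conj_mem n hn y, by simp⟩
    · rintro ⟨n, hn, e⟩
      refine ⟨y⁻¹ * n * y, by simpa using hN.conj_mem n hn y⁻¹, ?_⟩
      rw [map_mul, map_mul, e, map_inv]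
      group
  have hNA : inr.range ≤ Subgroup.normalizer ((N.map inl : Subgroup Γ) : Set Γ) := by
    rintro _ ⟨a, rfl⟩
    rw [Subgroup.mem_normalizer_iff]
    intro x
    constructor
    · rintro ⟨n, hn, rfl⟩
      exact ⟨_, hpow n hn a, (hconj a n).symm⟩
    · rintro ⟨n, hn, e⟩
      refine ⟨(a⁻¹ : H).1 n, hpow n hn a⁻¹, ?_⟩
      rw [← hconj, e]
      simp [mul_assoc]
      exact mul_inv_cancel (G := Γ) _
  have hfix : ∀ a ∈ inr.range, a * inl k * a⁻¹ * (inl k)⁻¹ ∈ N.map inl := by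
    rintro _ ⟨a, rfl⟩
    refine ⟨(a : MulAut K) k * k⁻¹, ?_, by rw [map_mul, map_inv, hconj]⟩
    have := hN.conj_mem _ (hcoset a) k
    rwa [mul_inv_cancel_left] at this
  obtain ⟨d, hd, hdk⟩ := Cfsg.Agent.S0022.result inr.range inl.range hAK hcop' hsolv
    (N.map inl) (Subgroup.map_le_range _ _) hNn hNA (inl k) ⟨k, rfl⟩ hfix
  obtain ⟨⟨c, rfl⟩, hcen⟩ := Subgroup.mem_inf.mp hd
  refine ⟨c, ?_, ?_⟩
  · have h1 := hcen (inr ⟨σ, Subgroup.mem_zpowers σ⟩) ⟨_, rfl⟩
    have h2 := hconj ⟨σ, Subgroup.mem_zpowers σ⟩ c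
    rw [h1, mul_inv_cancel_right] at h2
    exact SemidirectProduct.inl_injective h2.symm
  · rw [← map_inv, ← map_mul] at hdk
    exact (Subgroup.mem_map_iff_mem SemidirectProduct.inl_injective).mp hdk

/-- An endomorphism fixing no nontrivial linear character fixes no nontrivial point. -/
theorem eq_one_of_dual_fpf {A : Type*} [CommGroup A] [Finite A] (e : A →* A)
    (h : ∀ μ : A →* ℂˣ, (∀ x, μ (e x) = μ x) → μ = 1) {x : A} (hx : e x = x) : x = 1 := by
  let d : A →* A := e * (MonoidHom.id A)⁻¹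
  have hsurj : d.range = ⊤ := by
    by_contra hne
    obtain ⟨y, -, hy⟩ := SetLike.exists_of_lt (lt_top_iff_ne_top.mpr hne)
    have hne' : (y : A ⧸ d.range) ≠ 1 := fun e => hy ((QuotientGroup.eq_one_iff y).mp e)
    obtain ⟨φ, hφ⟩ := CommGroup.exists_apply_ne_one_of_hasEnoughRootsOfUnity _ ℂ hne'
    have := h (φ.comp (QuotientGroup.mk' d.range)) fun z => by
      have hz : e z * z⁻¹ ∈ d.range := ⟨z, rfl⟩
      have h1 : φ.comp (QuotientGroup.mk' d.range) (e z * z⁻¹) = 1 := by
        rw [MonoidHom.comp_apply, QuotientGroup.mk'_apply, (QuotientGroup.eq_one_iff _).mpr hz,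
          map_one]
      rwa [map_mul, map_inv, mul_inv_eq_one] at h1
    exact hφ (DFunLike.congr_fun this y)
  have hinj : Function.Injective d :=
    Finite.injective_iff_surjective.mpr (MonoidHom.range_eq_top.mp hsurj)
  refine hinj ?_
  rw [map_one]
  show e x * x⁻¹ = 1
  rw [hx, mul_inv_cancel]

end CfsgLib.NDDeg
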