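import Cfsg.Agent.Lib.NDDeg.Layers

/-!
# Uniform periods and the vanishing on the second layer
-/

set_option autoImplicit false
set_option linter.style.haveILetI false
set_option linter.unusedSectionVars false

namespace CfsgLib.NDDeg

open Cfsg CfsgLib.Char CfsgLib.NDTwoComp CfsgLib.Higman Function
open scoped ComplexConjugate CfsgLib.Char commutatorElement

universe u

variable {P : Type u} [Group P] [Finite P]

namespace QOp

variable {q : ℕ} [Fact q.Prime] (S : QOp P q)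

theorem sQ_comp (i a b : ℕ) (x : Q P i) : S.sQ i a (S.sQ i b x) = S.sQ i (a + b) x := by
  obtain ⟨g, rfl⟩ := QuotientGroup.mk_surjective x
  rw [sQ_mk, sQ_mk, sQ_mk]
  congr 1
  exact Subtype.ext (show (S.D.σ ^ a) ((S.D.σ ^ b) (g : P)) = (S.D.σ ^ (a + b)) (g : P) by
    rw [pow_add, MulAut.mul_apply])

theorem sQ_eq_self {i j : ℕ} (h : S.D.σ ^ j = 1) (x : Q P i) : S.sQ i j x = x := by
  obtain ⟨g, rfl⟩ := QuotientGroup.mk_surjective x
  rw [sQ_mk]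
  congr 1
  exact Subtype.ext (show (S.D.σ ^ j) (g : P) = g by rw [h, MulAut.one_apply])

/-- The period of a linear character of a factor. -/
noncomputable def per (i : ℕ) (ν : Q P i →* ℂˣ) : ℕ :=
  minimalPeriod (fun μ : Q P i →* ℂˣ => μ.comp (S.sQ i 1)) ν

theorem iterate_comp (i j : ℕ) (ν : Q P i →* ℂˣ) :
    (fun μ : Q P i →* ℂˣ => μ.comp (S.sQ i 1))^[j] ν = ν.comp (S.sQ i j) := by
  induction j with
  | zero => exact MonoidHom.ext fun x => by simp [S.sQ_eq_self (pow_zero _)]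
  | succ j ih =>
    rw [iterate_succ_apply', ih]
    exact MonoidHom.ext fun x => by simp [sQ_comp]

theorem per_dvd_iff {i : ℕ} (ν : Q P i →* ℂˣ) (j : ℕ) : S.per i ν ∣ j ↔ S.Fix i ν j := by
  rw [per, ← isPeriodicPt_iff_minimalPeriod_dvd, IsPeriodicPt, IsFixedPt, iterate_comp,
    MonoidHom.ext_iff]
  rfl

theorem per_pos {i : ℕ} (ν : Q P i →* ℂˣ) : 0 < S.per i ν := by
  refine Nat.pos_of_dvd_of_pos ((S.per_dvd_iff ν S.D.f).mpr fun x => ?_) S.D.f_pos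
  rw [S.sQ_eq_self S.hper]

/-- The precomposition on the linear characters of a factor. -/
noncomputable def dualAut (i : ℕ) : MulAut (Q P i →* ℂˣ) where
  toFun μ := μ.comp (S.sQ i 1)
  invFun μ := μ.comp (S.sQ i (S.D.f - 1))
  left_inv μ := MonoidHom.ext fun x => by
    have := S.D.f_pos
    simp [sQ_comp, show 1 + (S.D.f - 1) = S.D.f by omega, S.sQ_eq_self S.hper]
  right_inv μ := MonoidHom.ext fun x => by
    have := S.D.f_pos
    simp [sQ_comp, show S.D.f - 1 + 1 = S.D.f by omega, S.sQ_eq_self S.hper]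
  map_mul' a b := MonoidHom.ext fun x => rfl

theorem dualAut_pow (i j : ℕ) (μ : Q P i →* ℂˣ) : (S.dualAut i ^ j) μ = μ.comp (S.sQ i j) := by
  induction j with
  | zero => exact MonoidHom.ext fun x => by simp [S.sQ_eq_self (pow_zero _)]
  | succ j ih =>
    rw [pow_succ', MulAut.mul_apply, ih]
    exact MonoidHom.ext fun x => by
      show μ (S.sQ i j (S.sQ i 1 x)) = μ (S.sQ i (j + 1) x)
      rw [sQ_comp]

theorem per_uniform {i : ℕ}
    (hanti : ∀ a b : Q P i →* ℂˣ, a ≠ 1 → b ≠ 1 → S.per i a ∣ S.per i b → S.per i a = S.per i b)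
    {a b : Q P i →* ℂˣ} (ha : a ≠ 1) (hb : b ≠ 1) : S.per i a = S.per i b :=
  period_uniform (S.dualAut i) (S.per i) (fun a j => by
    rw [per_dvd_iff, dualAut_pow, MonoidHom.ext_iff]; rfl) hanti ha hb

theorem eq_one_of_val {i : ℕ} {ν : Q P i →* ℂˣ} (h : ∀ g ∈ gam P i, val ν g = 1) : ν = 1 :=
  MonoidHom.ext fun x => by
    obtain ⟨g, rfl⟩ := QuotientGroup.mk_surjective x
    rw [MonoidHom.one_apply, ← val_of_mem ν g.2]
    exact h g g.2

include S in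
theorem exists_ne_one {i : ℕ} (h : gam P i ≠ ⊥) : ∃ ν : Q P i →* ℂˣ, ν ≠ 1 := by
  obtain ⟨g, hg, hg'⟩ := Set.not_subset.mp (S.gam_succ_lt h)
  by_contra hall
  push Not at hall
  exact hg' (mem_succ_of_val hg fun ν => by rw [hall ν, val_of_mem _ hg, MonoidHom.one_apply])

/-- A character supported on a subgroup on which the moved part of its restriction is `ν`. -/
theorem os_eq_per {i : ℕ} (N : Subgroup P) (hle : gam P i ≤ N) (hσN : ∀ n ∈ N, S.D.σ n ∈ N)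
    (hdec : ∀ n ∈ N, ∃ c, S.D.σ c = c ∧ ∃ w ∈ gam P i, n = c * w)
    (ψ : IrrCharacter P) {d : ℕ} (hd : (ψ : P → ℂ) 1 = d)
    (hvan : ∀ g, g ∉ N → (ψ : P → ℂ) g = 0)
    (hker : ∀ n ∈ N, ∀ g : P, (ψ : P → ℂ) ⁅g, n⁆ = (ψ : P → ℂ) 1)
    (ν : Q P i →* ℂˣ) (hval : ∀ g ∈ gam P i, (ψ : P → ℂ) g = (val ν g : ℂ) * d) :
    d * d = N.index ∧ os S.D.σ (ψ : P → ℂ) = S.per i ν := by
  obtain ⟨μ, hμ⟩ := exists_scalar_hom N ψ hker
  obtain ⟨h1, h2⟩ := S.D.supported N hσN ψ hd hvan μ hμ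
  have hd0 : (d : ℂ) ≠ 0 := hd ▸ irr_degree_ne_zero ψ.2
  have hμν : ∀ w (hw : w ∈ gam P i), μ ⟨w, hle hw⟩ = val ν w := fun w hw => by
    have := hμ ⟨w, hle hw⟩ 1
    rw [mul_one, hd, hval w hw] at this
    exact Units.ext (mul_right_cancel₀ hd0 this).symm
  refine ⟨h1, ?_⟩
  have key : ∀ j, os S.D.σ (ψ : P → ℂ) ∣ j ↔ S.Fix i ν j := by
    intro j
    rw [h2]
    constructor
    · intro h
      refine S.fix_of_val fun g hg => ?_
      rw [← hμν g hg, ← hμν _ (S.apply_gam hg j)]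
      exact h ⟨g, hle hg⟩
    · intro h n
      obtain ⟨c, hc, w, hw, hn⟩ := hdec n n.2
      have hcN : c ∈ N := by
        have := mul_mem n.2 (inv_mem (hle hw))
        rwa [hn, mul_inv_cancel_right] at this
      have e1 : n = (⟨c, hcN⟩ : N) * ⟨w, hle hw⟩ := Subtype.ext hn
      have e2 : (⟨(S.D.σ ^ j) n, S.D.pow_mem_of_apply_mem hσN j n n.2⟩ : N) =
          (⟨c, hcN⟩ : N) * ⟨(S.D.σ ^ j) w, hle (S.apply_gam hw j)⟩ := Subtype.ext (by
        show (S.D.σ ^ j) (n : P) = c * (S.D.σ ^ j) w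
        rw [hn, map_mul, S.fixed_pow hc])
      rw [e2, e1, map_mul, map_mul, hμν w hw, hμν _ (S.apply_gam hw j), h.val_eq S hw]
  exact Nat.dvd_antisymm ((key _).mpr ((S.per_dvd_iff ν _).mp dvd_rfl))
    ((S.per_dvd_iff ν _).mpr ((key _).mp dvd_rfl))

theorem comm_gam' {i : ℕ} {g : P} (hg : g ∈ gam P i) (x : P) : ⁅g, x⁆ ∈ gam P (i + 1) := by
  rw [← commutatorElement_inv]; exact inv_mem (comm_gam hg x)

theorem comm_mul_left' (a b z : P) : ⁅a * b, z⁆ = a * ⁅b, z⁆ * a⁻¹ * ⁅a, z⁆ := by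
  simp [commutatorElement_def, mul_assoc]

theorem comm_mul_right' (a b z : P) : ⁅a, b * z⁆ = ⁅a, b⁆ * (b * ⁅a, z⁆ * b⁻¹) := by
  simp [commutatorElement_def, mul_assoc]

theorem conj_mem_gam {i : ℕ} {g : P} (hg : g ∈ gam P i) (x : P) : x * g * x⁻¹ ∈ gam P i :=
  (Subgroup.lowerCentralSeries_normal ⊤ i).conj_mem _ hg x

theorem val_comm_Z0 (ν : Q P 1 →* ℂˣ)
    (hν : ∀ z ∈ S.D.Z0, ∀ z' ∈ S.D.Z0, val ν ⁅z, z'⁆ = 1) (x : P) {z : P} (hz : z ∈ S.D.Z0) :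
    val ν ⁅x, z⁆ = 1 := by
  obtain ⟨r, hr, c, hc, w, hw, rfl⟩ := S.exists_decomp x
  rw [mul_assoc, comm_mul_left',
    val_mul ν (conj_mem_gam (comm_gam_one _ _) r) (comm_gam_one _ _),
    val_conj ν (comm_gam_one _ _),
    hν _ (mul_mem (S.fixed_mem_Z0 hc) (S.gam_le_Z0 le_rfl hw)) z hz,
    val_succ ν (S.comm_Rm_Z0 hr hz), one_mul]

theorem comm_fixed_gam_two {c : P} (hc : S.D.σ c = c) {u : P} (hu : u ∈ gam P 1) :
    ⁅c, u⁆ ∈ gam P 3 := by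
  obtain ⟨a, ha, haZ⟩ := S.exists_Rm_notMem
  obtain ⟨r, hr, he⟩ := S.exists_comm_Rm ha haZ hu
  have hz : ∀ r ∈ S.Rm, br P (el 0 c) (el 0 r) = 0 := fun r hr => by
    rw [br_el_el (Subgroup.mem_top c) (Subgroup.mem_top r)]
    refine el_of_mem_succ ?_
    rw [← commutatorElement_inv]
    exact inv_mem (S.comm_Rm_Z0 hr (S.fixed_mem_Z0 hc))
  have h1 := br_leibniz (el 0 c) (el 0 r) (el 0 a)
  rw [hz r hr, hz a ha, map_zero, AddMonoidHom.zero_apply, map_zero, add_zero,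
    br_el_el (Subgroup.mem_top r) (Subgroup.mem_top a), show el (0 + 0 + 1) ⁅r, a⁆ = el 1 u from he,
    br_el_el (Subgroup.mem_top c) hu] at h1
  have hm := comm_gam hu c
  exact (el_eq_zero_iff hm).mp h1

theorem eq_one_of_fix_two {ν : Q P 2 →* ℂˣ} {j : ℕ} (hν : S.Fix 2 ν j) (hj : ¬ S.D.f ∣ j)
    (hu : ∀ u ∈ gam P 1, u⁻¹ * (S.D.σ ^ j) u ∈ gam P 2) : ν = 1 := by
  have key : ∀ (x : P), ∀ u ∈ gam P 1, val ν ⁅u, x⁆ = 1 := by
    intro x u hum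
    obtain ⟨r, hr, c, hc, w, hw, rfl⟩ := S.exists_decomp x
    have hg : ∀ y : P, ⁅y, u⁆ ∈ gam P 2 := fun y => comm_gam hum y
    have h3 : ⁅w, u⁆ ∈ gam P (2 + 1) := comm_mem (i := 1) (j := 1) hw hum
    have h4 : ⁅c, u⁆ ∈ gam P (2 + 1) := S.comm_fixed_gam_two hc hum
    have h5 : val ν ⁅r, u⁆ = 1 :=
      S.val_comm_eq_one (i := 2) hν hj hg (fun y => comm_gam (hu u hum) y) hr
    rw [← commutatorElement_inv, val_inv ν (hg (r * c * w)), inv_eq_one, mul_assoc r c w,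
      comm_mul_left', val_mul ν (conj_mem_gam (hg (c * w)) r) (hg r), val_conj ν (hg (c * w)), h5,
      mul_one, comm_mul_left', val_mul ν (conj_mem_gam (hg w) c) (hg c), val_conj ν (hg w),
      val_succ ν h4, val_succ ν h3, one_mul]
  refine eq_one_of_val fun g hg => ?_
  let T : Subgroup P :=
    { carrier := {g | g ∈ gam P 2 ∧ val ν g = 1}
      one_mem' := ⟨one_mem _, val_one ν⟩
      mul_mem' := fun {a b} ha hb => ⟨mul_mem ha.1 hb.1, by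
        rw [val_mul ν ha.1 hb.1, ha.2, hb.2, one_mul]⟩
      inv_mem' := fun {a} ha => ⟨inv_mem ha.1, by rw [val_inv ν ha.1, ha.2, inv_one]⟩ }
  have hle : gam P 2 ≤ T := by
    rw [gam_succ 1, Subgroup.commutator_le]
    exact fun u hu x _ => ⟨comm_gam' hu x, key x u hu⟩
  exact (hle hg).2

theorem pow_congr {j : ℕ} (hu : ∀ u ∈ gam P 1, u⁻¹ * S.D.σ u ∈ gam P 2) :
    ∀ u ∈ gam P 1, u⁻¹ * (S.D.σ ^ j) u ∈ gam P 2 := by
  induction j with
  | zero => exact fun u _ => by simp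
  | succ j ih =>
    intro u hum
    rw [pow_succ', MulAut.mul_apply, show u⁻¹ * S.D.σ ((S.D.σ ^ j) u) =
      (u⁻¹ * (S.D.σ ^ j) u) * (((S.D.σ ^ j) u)⁻¹ * S.D.σ ((S.D.σ ^ j) u)) by group]
    exact mul_mem (ih u hum) (hu _ (S.apply_gam hum j))

/-- All commutators of elements of `Z0` lie in the third term. -/
def Zc : Prop := ∀ z ∈ S.D.Z0, ∀ z' ∈ S.D.Z0, ⁅z, z'⁆ ∈ gam P 2

/-- A character over a linear character of the second layer killing `⁅Z0, Z0⁆`. -/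
theorem exists_low {ν : Q P 1 →* ℂˣ} (hν : ν ≠ 1)
    (hZ : ∀ z ∈ S.D.Z0, ∀ z' ∈ S.D.Z0, val ν ⁅z, z'⁆ = 1) :
    ∃ (ψ : IrrCharacter P) (d : ℕ), (ψ : P → ℂ) 1 = d ∧ d ≠ 1 ∧ d * d = S.D.Z0.index ∧
      os S.D.σ (ψ : P → ℂ) = S.per 1 ν ∧ ∀ g ∈ gam P 1, (ψ : P → ℂ) g = (val ν g : ℂ) * d := by
  obtain ⟨ψ, d, hd, hd1, hval, -⟩ := S.exists_above le_rfl hν
  have hne : (ψ : P → ℂ) 1 ≠ 1 := fun h => hd1 (by exact_mod_cast hd.symm.trans h)
  obtain ⟨h1, h2⟩ := S.os_eq_per S.D.Z0 (S.gam_le_Z0 le_rfl) (fun n hn => S.D.apply_mem_Z0 hn)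
    (fun n hn => S.exists_decomp_Z0 hn) ψ hd (fun g hg => S.D.vanish ψ hne hg)
    (fun n hn g => by
      rw [hval _ (comm_gam_one g n), S.val_comm_Z0 ν hZ g hn, Units.val_one, one_mul, hd])
    ν hval
  exact ⟨ψ, d, hd, hd1, h1, h2, hval⟩

theorem dvd_of_sq {a b : ℕ} (h : a * a ∣ b * b) : a ∣ b := by
  rw [← pow_two, ← pow_two] at h
  exact (Nat.pow_dvd_pow_iff two_ne_zero).mp h

/-- If the degree is the smallest possible, the commutators with `Z0` are in the kernel. -/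
theorem comm_kernel (ψ : IrrCharacter P) {d : ℕ} (hd : (ψ : P → ℂ) 1 = d) (hd1 : d ≠ 1)
    (hsq : d * d = S.D.Z0.index) (x : P) {z : P} (hz : z ∈ S.D.Z0) :
    (ψ : P → ℂ) ⁅x, z⁆ = (ψ : P → ℂ) 1 := by
  classical
  haveI := Fintype.ofFinite P
  haveI := Fintype.ofFinite S.D.Z0
  obtain ⟨θ, o, a, ha, hθ, hinv, he⟩ := S.D.degree_sq ψ hd hd1
  have hi : 0 < S.D.Z0.index := Nat.pos_of_ne_zero Subgroup.index_ne_zero_of_finite
  have he' : o * (a * a) = 1 := by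
    rw [hsq, mul_assoc] at he
    exact (Nat.mul_eq_left hi.ne').mp he.symm
  have ho : o = 1 := Nat.eq_one_of_mul_eq_one_right he'
  have ha1 : a = 1 := Nat.eq_one_of_mul_eq_one_right (Nat.eq_one_of_mul_eq_one_left he')
  have hres := clifford_invariant S.D.Z0 ψ.2 θ.2 (hinv ho) hθ
  have hm : x * z * x⁻¹ ∈ S.D.Z0 := (inferInstance : S.D.Z0.Normal).conj_mem z hz x
  set lam := linearHom (isCharacter_of_isIrr θ.2) (by rw [ha, ha1, Nat.cast_one])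
  have hc : ⁅x, z⁆ ∈ S.D.Z0 := S.gam_le_Z0 le_rfl (comm_gam_one x z)
  have e : lam ⟨⁅x, z⁆, hc⟩ = 1 := by
    rw [show (⟨⁅x, z⁆, hc⟩ : S.D.Z0) = ⟨x * z * x⁻¹, hm⟩ * (⟨z, hz⟩ : S.D.Z0)⁻¹ from
      Subtype.ext (by simp [commutatorElement_def]), map_mul, map_inv, mul_inv_eq_one]
    refine Units.ext ?_
    rw [linearHom_apply, linearHom_apply]
    exact congrFun (hinv ho x) ⟨z, hz⟩
  have h1 := congrFun hres ⟨⁅x, z⁆, hc⟩
  have h2 := congrFun hres 1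
  simp only [Pi.smul_apply, smul_eq_mul, OneMemClass.coe_one] at h1 h2
  rw [h1, h2, show (θ : S.D.Z0 → ℂ) ⟨⁅x, z⁆, hc⟩ = 1 by
    rw [← linearHom_apply (isCharacter_of_isIrr θ.2) (by rw [ha, ha1, Nat.cast_one]) _]
    exact congrArg Units.val e, ha, ha1, Nat.cast_one]

theorem el_comm_fixed {z z' c c' : P} {w w' : P} (hw : w ∈ gam P 1) (hw' : w' ∈ gam P 1)
    (hz : z = c * w) (hz' : z' = c' * w') : el 1 ⁅z, z'⁆ = el 1 ⁅c, c'⁆ := by
  subst hz hz'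
  have h0 : ∀ y : P, y ∈ gam P 0 := fun y => Subgroup.mem_top y
  have e1 := el_comm_mul_left (i := 0) (j := 0) (h0 c) (h0 w) (h0 (c' * w'))
  have e2 := el_comm_mul_right (i := 0) (j := 0) (h0 c) (h0 c') (h0 w')
  have e3 := el_comm_eq_zero (i := 0) (j := 0) (h0 w) (h0 (c' * w')) (Or.inl hw)
  have e4 := el_comm_eq_zero (i := 0) (j := 0) (h0 c) (h0 w') (Or.inr hw')
  simp only [Nat.zero_add] at e1 e2 e3 e4
  rw [e1, e3, add_zero, e2, e4, add_zero]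

theorem val_eq_of_el {i : ℕ} (ν : Q P i →* ℂˣ) {g h : P} (hg : g ∈ gam P i) (hh : h ∈ gam P i)
    (e : el i g = el i h) : val ν g = val ν h := by
  have hm : g⁻¹ * h ∈ gam P (i + 1) := (el_eq_zero_iff (mul_mem (inv_mem hg) hh)).mp (by
    rw [el_mul (inv_mem hg) hh, el_inv hg, e, neg_add_cancel])
  have := val_succ ν hm
  rw [val_mul ν (inv_mem hg) hh, val_inv ν hg, inv_mul_eq_one] at this
  exact this

/-- Otherwise the group has class two and `σ` centralises `Z0`. -/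
theorem of_not_Zc (hZ : ¬ S.Zc) : gam P 2 = ⊥ ∧ ∀ z ∈ S.D.Z0, S.D.σ z = z := by
  simp only [Zc] at hZ
  push Not at hZ
  obtain ⟨z, hz, z', hz', hne⟩ := hZ
  obtain ⟨c, hc, w, hw, hzc⟩ := S.exists_decomp_Z0 hz
  obtain ⟨c', hc', w', hw', hzc'⟩ := S.exists_decomp_Z0 hz'
  have hw0 : ⁅c, c'⁆ ∈ gam P 1 := comm_gam_one c c'
  have hw0' : ⁅c, c'⁆ ∉ gam P 2 := fun h => hne ((el_eq_zero_iff (comm_gam_one z z')).mp (by
    rw [el_comm_fixed hw hw' hzc hzc', el_of_mem_succ h]))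
  obtain ⟨ν1, hν1⟩ : ∃ ν : Q P 1 →* ℂˣ, val ν ⁅c, c'⁆ ≠ 1 := by
    by_contra h
    push Not at h
    exact hw0' (mem_succ_of_val hw0 h)
  -- a fixed character seeing the commutator
  set ν0 : Q P 1 →* ℂˣ := ∏ j ∈ Finset.range S.D.f, ν1.comp (S.sQ 1 j) with hν0
  have hν0fix : S.Fix 1 ν0 1 := fun x => by
    rw [hν0]
    simp only [MonoidHom.finsetProd_apply, MonoidHom.comp_apply, sQ_comp]
    have h1 := Finset.prod_range_succ' (fun j => ν1 (S.sQ 1 j x)) S.D.f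
    rw [Finset.prod_range_succ, S.sQ_eq_self S.hper, S.sQ_eq_self (pow_zero _)] at h1
    exact (mul_right_cancel h1).symm
  have hν0w : val ν0 ⁅c, c'⁆ ≠ 1 := by
    rw [val_of_mem ν0 hw0, hν0, MonoidHom.finsetProd_apply]
    simp only [MonoidHom.comp_apply, sQ_mk]
    rw [Finset.prod_congr rfl (g := fun _ => val ν1 ⁅c, c'⁆) (fun j _ => by
      rw [val_of_mem ν1 hw0]
      congr 2
      exact Subtype.ext (by
        show (S.D.σ ^ j) ⁅c, c'⁆ = ⁅c, c'⁆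
        rw [map_commutatorElement, S.fixed_pow hc, S.fixed_pow hc'])),
      Finset.prod_const, Finset.card_range]
    intro h
    have hq : val ν1 ⁅c, c'⁆ ^ q = 1 := by
      have e : el 1 (⁅c, c'⁆ ^ q) = 0 := by rw [el_pow hw0, S.nsmul_el (i := 0) hw0]
      have := val_succ ν1 ((el_eq_zero_iff (pow_mem hw0 q)).mp e)
      rw [val_of_mem ν1 (pow_mem hw0 q)] at this
      rw [val_of_mem ν1 hw0, ← map_pow, ← QuotientGroup.mk_pow]
      exact this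
    have hg := Nat.dvd_gcd (orderOf_dvd_of_pow_eq_one h) (orderOf_dvd_of_pow_eq_one hq)
    rw [Nat.gcd_comm, ((Nat.Prime.coprime_iff_not_dvd Fact.out).mpr S.not_dvd_f).gcd_eq_one] at hg
    exact hν1 (orderOf_eq_one_iff.mp (Nat.dvd_one.mp hg))
  have hall : ∀ ν : Q P 1 →* ℂˣ, S.Fix 1 ν 1 := by
    by_contra hc2
    push Not at hc2
    obtain ⟨ν, hν⟩ := hc2
    set ν' := ν.comp (S.sQ 1 1) * ν⁻¹ with hν'
    have hν'1 : ν' ≠ 1 := fun h => hν fun x => mul_inv_eq_one.mp (DFunLike.congr_fun h x)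
    have hν'fixed : ∀ g ∈ gam P 1, S.D.σ g = g → val ν' g = 1 := fun g hg hgσ => by
      rw [val_of_mem ν' hg]
      show ν (S.sQ 1 1 _) * (ν _)⁻¹ = 1
      rw [sQ_mk, mul_inv_eq_one]
      congr 2
      exact Subtype.ext (show (S.D.σ ^ 1) g = g by rw [pow_one]; exact hgσ)
    have hZ' : ∀ a ∈ S.D.Z0, ∀ b ∈ S.D.Z0, val ν' ⁅a, b⁆ = 1 := by
      intro a ha b hb
      obtain ⟨ca, hca, wa, hwa, hea⟩ := S.exists_decomp_Z0 ha
      obtain ⟨cb, hcb, wb, hwb, heb⟩ := S.exists_decomp_Z0 hb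
      rw [val_eq_of_el ν' (comm_gam_one a b) (comm_gam_one ca cb) (el_comm_fixed hwa hwb hea heb)]
      exact hν'fixed _ (comm_gam_one ca cb) (by rw [map_commutatorElement, hca, hcb])
    obtain ⟨ψ', d', hd', hd'1, hd'sq, hos', -⟩ := S.exists_low hν'1 hZ'
    have hmul : val (ν' * ν0) ⁅c, c'⁆ = val ν0 ⁅c, c'⁆ := by
      have hσw : S.D.σ ⁅c, c'⁆ = ⁅c, c'⁆ := by rw [map_commutatorElement, hc, hc']
      have h1 := hν'fixed _ hw0 hσw
      rw [val_of_mem _ hw0] at h1 ⊢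
      rw [MonoidHom.mul_apply, h1, one_mul, val_of_mem _ hw0]
    obtain ⟨ψ'', d'', hd'', hd''1, hval'', hfix''⟩ :=
      S.exists_above le_rfl (ν := ν' * ν0) (fun h => hν0w (by
        rw [← hmul, h, val_of_mem _ hw0, MonoidHom.one_apply]))
    have hper : os S.D.σ (ψ' : P → ℂ) ∣ os S.D.σ (ψ'' : P → ℂ) := by
      rw [hos', per_dvd_iff]
      intro x
      have := hfix'' _ dvd_rfl x
      rw [MonoidHom.mul_apply, MonoidHom.mul_apply] at this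
      have h0 : ν0 (S.sQ 1 (os S.D.σ (ψ'' : P → ℂ)) x) = ν0 x :=
        (S.per_dvd_iff ν0 _).mp (((S.per_dvd_iff ν0 1).mpr hν0fix).trans (one_dvd _)) x
      rw [h0] at this
      exact mul_right_cancel this
    have hdd : d' ∣ d'' := dvd_of_sq (hd'sq ▸ S.D.index_dvd_sq ψ'' hd'' hd''1)
    have hpos : 0 < os S.D.σ (ψ' : P → ℂ) := S.D.os_pos (isClassFunction_irr ψ')
    have hd'0 : 0 < d' := Nat.pos_of_ne_zero fun h => irr_degree_ne_zero ψ'.2 (by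
      rw [hd', h, Nat.cast_zero])
    have heq := S.D.nd ψ' ψ'' d' d'' hd' hd''
      (fun h => hd'1 (Nat.eq_one_of_mul_eq_one_left h))
      (fun h => hd''1 (Nat.eq_one_of_mul_eq_one_left h)) (Nat.mul_dvd_mul hper hdd)
    have hd''eq : d'' = d' := by
      obtain ⟨m, hm⟩ := hdd
      obtain ⟨l, hl⟩ := hper
      rw [hl, hm] at heq
      have : (os S.D.σ (ψ' : P → ℂ) * d') * (l * m) = (os S.D.σ (ψ' : P → ℂ) * d') * 1 := by
        rw [mul_one]; conv_rhs => rw [heq]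
        ring
      rw [hm, Nat.eq_one_of_mul_eq_one_left (Nat.eq_of_mul_eq_mul_left (Nat.mul_pos hpos hd'0) this),
        mul_one]
    have hk := S.comm_kernel ψ'' hd'' hd''1 (by rw [hd''eq, hd'sq]) c (S.fixed_mem_Z0 hc')
    rw [hval'' _ hw0, hd'', hmul] at hk
    exact hν0w (Units.ext ((mul_eq_right₀ (hd'' ▸ irr_degree_ne_zero ψ''.2)).mp hk))
  have hU : ∀ u ∈ gam P 1, u⁻¹ * S.D.σ u ∈ gam P 2 := fun u hu =>
    mem_succ_of_val (mul_mem (inv_mem hu) (apply_mem_gam _ hu)) fun ν => by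
      rw [val_mul ν (inv_mem hu) (apply_mem_gam _ hu), val_inv ν hu, inv_mul_eq_one,
        ← (hall ν).val_eq S hu, pow_one]
  have h2 : gam P 2 = ⊥ := by
    by_contra hne2
    obtain ⟨ν, hν⟩ := S.exists_ne_one hne2
    obtain ⟨ψ, d, hd, hd1, -, hfix⟩ := S.exists_above (by omega) hν
    exact hν (S.eq_one_of_fix_two (hfix _ dvd_rfl) (S.D.not_f_dvd_os ψ hd hd1) (S.pow_congr hU))
  refine ⟨h2, fun z hz => ?_⟩
  obtain ⟨c₁, hc₁, u, hu, rfl⟩ := S.exists_decomp_Z0 hz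
  have := hU u hu
  rw [h2, Subgroup.mem_bot, inv_mul_eq_one] at this
  rw [map_mul, hc₁, ← this]

section Zc

variable (hZ : S.Zc)

include hZ in
theorem val_Zc (ν : Q P 1 →* ℂˣ) : ∀ z ∈ S.D.Z0, ∀ z' ∈ S.D.Z0, val ν ⁅z, z'⁆ = 1 :=
  fun z hz z' hz' => val_succ ν (hZ z hz z' hz')

include hZ in
theorem comm_Z0 (x : P) {z : P} (hz : z ∈ S.D.Z0) : ⁅x, z⁆ ∈ gam P 2 :=
  mem_succ_of_val (comm_gam_one x z) fun ν => S.val_comm_Z0 ν (S.val_Zc hZ ν) x hz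

include hZ in
theorem per_one_eq {a b : Q P 1 →* ℂˣ} (ha : a ≠ 1) (hb : b ≠ 1) : S.per 1 a = S.per 1 b := by
  refine S.per_uniform (fun a b ha hb hab => ?_) ha hb
  obtain ⟨ψa, da, hda, hda1, hsa, hoa, -⟩ := S.exists_low ha (S.val_Zc hZ a)
  obtain ⟨ψb, db, hdb, hdb1, hsb, hob, -⟩ := S.exists_low hb (S.val_Zc hZ b)
  have hdd : da = db := Nat.mul_self_inj.mp (hsa.trans hsb.symm)
  have hpos : 0 < da := Nat.pos_of_ne_zero fun h => irr_degree_ne_zero ψa.2 (by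
    rw [hda, h, Nat.cast_zero])
  have heq := S.D.nd ψa ψb da db hda hdb (fun h => hda1 (Nat.eq_one_of_mul_eq_one_left h))
    (fun h => hdb1 (Nat.eq_one_of_mul_eq_one_left h))
    (by rw [hoa, hob, hdd]; exact Nat.mul_dvd_mul_right hab _)
  rw [hoa, hob, ← hdd] at heq
  exact Nat.eq_of_mul_eq_mul_right hpos heq

include S in
theorem exists_ne_one_one : ∃ ν : Q P 1 →* ℂˣ, ν ≠ 1 := S.exists_ne_one (i := 1) S.hne

/-- The common period on the second layer. -/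
noncomputable def t1 : ℕ := S.per 1 S.exists_ne_one_one.choose

include hZ in
theorem per_one {ν : Q P 1 →* ℂˣ} (hν : ν ≠ 1) : S.per 1 ν = S.t1 :=
  S.per_one_eq hZ hν S.exists_ne_one_one.choose_spec

include hZ in
theorem t1_dvd_of_fix {ν : Q P 1 →* ℂˣ} (hν : ν ≠ 1) {j : ℕ} (h : S.Fix 1 ν j) : S.t1 ∣ j :=
  S.per_one hZ hν ▸ (S.per_dvd_iff ν j).mpr h

include hZ in
theorem exists_t1 : ∃ (ψ : IrrCharacter P) (d : ℕ), (ψ : P → ℂ) 1 = d ∧ d ≠ 1 ∧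
    d * d = S.D.Z0.index ∧ os S.D.σ (ψ : P → ℂ) = S.t1 := by
  obtain ⟨ν, hν⟩ := S.exists_ne_one_one
  obtain ⟨ψ, d, hd, hd1, hsq, hos, -⟩ := S.exists_low hν (S.val_Zc hZ ν)
  exact ⟨ψ, d, hd, hd1, hsq, hos.trans (S.per_one hZ hν)⟩

include hZ in
theorem not_f_dvd_t1 : ¬ S.D.f ∣ S.t1 := by
  obtain ⟨ψ, d, hd, hd1, -, hos⟩ := S.exists_t1 hZ
  exact hos ▸ S.D.not_f_dvd_os ψ hd hd1

include hZ in
theorem congr_t1 {j : ℕ} (hj : S.t1 ∣ j) : ∀ u ∈ gam P 1, u⁻¹ * (S.D.σ ^ j) u ∈ gam P 2 := by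
  intro u hu
  refine mem_succ_of_val (mul_mem (inv_mem hu) (S.apply_gam hu j)) fun ν => ?_
  rw [val_mul ν (inv_mem hu) (S.apply_gam hu j), val_inv ν hu, inv_mul_eq_one]
  by_cases hν : ν = 1
  · subst hν; rw [val_of_mem _ hu, val_of_mem _ (S.apply_gam hu j)]; rfl
  · exact (((S.per_dvd_iff ν j).mp ((S.per_one hZ hν).symm ▸ hj)).val_eq S hu).symm

include hZ in
/-- A character nontrivial on the third term. -/
theorem not_t1_dvd (ψ : IrrCharacter P) (hψ : ∃ g ∈ gam P 2, (ψ : P → ℂ) g ≠ (ψ : P → ℂ) 1) :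
    ¬ S.t1 ∣ os S.D.σ (ψ : P → ℂ) := by
  intro ht
  obtain ⟨g, hg, hne⟩ := hψ
  obtain ⟨d, -, hd⟩ := exists_nat_degree_irr ψ.2
  have hd1 : d ≠ 1 := fun h => by
    have hle : commutator P ≤ (linearHom (isCharacter_of_isIrr ψ.2) (by rw [hd, h, Nat.cast_one])).ker :=
      Abelianization.commutator_subset_ker _
    have := congrArg Units.val (MonoidHom.mem_ker.mp (hle (gam_anti (i := 1) (by omega) hg)))
    rw [linearHom_apply] at this
    exact hne (by rw [this, hd, h, Nat.cast_one]; rfl)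
  obtain ⟨ψ₀, d₀, hd₀, hd₀1, hsq, hos⟩ := S.exists_t1 hZ
  have hdd : d₀ ∣ d := dvd_of_sq (hsq ▸ S.D.index_dvd_sq ψ hd hd1)
  have heq := S.D.nd ψ₀ ψ d₀ d hd₀ hd (fun h => hd₀1 (Nat.eq_one_of_mul_eq_one_left h))
    (fun h => hd1 (Nat.eq_one_of_mul_eq_one_left h)) (Nat.mul_dvd_mul (hos ▸ ht) hdd)
  have hd' : d = d₀ := by
    have hpos := S.D.os_pos (isClassFunction_irr ψ₀)
    have hpos' : 0 < d₀ := Nat.pos_of_ne_zero fun h => irr_degree_ne_zero ψ₀.2 (by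
      rw [hd₀, h, Nat.cast_zero])
    obtain ⟨m, hm⟩ := hdd
    obtain ⟨l, hl⟩ := hos ▸ ht
    rw [hl, hm, mul_mul_mul_comm] at heq
    have := Nat.eq_one_of_mul_eq_one_left ((Nat.mul_eq_left (Nat.mul_pos hpos hpos').ne').mp heq.symm)
    rw [hm, this, mul_one]
  obtain ⟨N, -, hN, -⟩ := exists_kernel (isCharacter_of_isIrr ψ.2)
  have hle : gam P 2 ≤ N := by
    rw [gam_succ 1, Subgroup.commutator_le]
    intro u hu x _
    rw [← commutatorElement_inv]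
    exact N.inv_mem ((hN _).mpr (S.comm_kernel ψ hd hd1 (hd' ▸ hsq) x (S.gam_le_Z0 le_rfl hu)))
  exact hne ((hN g).mp (hle hg))

include hZ in
theorem exists_nontrivial {ν : Q P 2 →* ℂˣ} (hν : ν ≠ 1) :
    ∃ (ψ : IrrCharacter P) (d : ℕ), (ψ : P → ℂ) 1 = d ∧ d ≠ 1 ∧
      (∀ g ∈ gam P 2, (ψ : P → ℂ) g = (val ν g : ℂ) * d) ∧
      (∀ j, os S.D.σ (ψ : P → ℂ) ∣ j → S.Fix 2 ν j) ∧
      ∃ g ∈ gam P 2, (ψ : P → ℂ) g ≠ (ψ : P → ℂ) 1 := by
  obtain ⟨ψ, d, hd, hd1, hval, hfix⟩ := S.exists_above (by omega) hν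
  refine ⟨ψ, d, hd, hd1, hval, hfix, ?_⟩
  by_contra h
  push Not at h
  refine hν (eq_one_of_val fun g hg => ?_)
  have := h g hg
  rw [hval g hg, hd] at this
  exact Units.ext ((mul_eq_right₀ (hd ▸ irr_degree_ne_zero ψ.2)).mp this)

include hZ in
theorem t1_ne_one (h2 : gam P 2 ≠ ⊥) : S.t1 ≠ 1 := by
  intro h
  obtain ⟨ν, hν⟩ := S.exists_ne_one h2
  obtain ⟨ψ, d, -, -, -, -, hnt⟩ := S.exists_nontrivial hZ hν
  exact S.not_t1_dvd hZ ψ hnt (h ▸ one_dvd _)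

include hZ in
theorem eq_one_of_fix_two' {ν : Q P 2 →* ℂˣ} {j : ℕ} (hν : S.Fix 2 ν j) (hj : ¬ S.D.f ∣ j)
    (ht : S.t1 ∣ j) : ν = 1 := S.eq_one_of_fix_two hν hj (S.congr_t1 hZ ht)

include hZ in
theorem fixed_mem_gam_two (h2 : gam P 2 ≠ ⊥) {c : P} (hc : S.D.σ c = c) (hc1 : c ∈ gam P 1) :
    c ∈ gam P 2 := by
  have : (QuotientGroup.mk ⟨c, hc1⟩ : Q P 1) = 1 :=
    eq_one_of_dual_fpf (S.sQ 1 1) (fun μ hμ => by
      by_contra hμ1
      exact S.t1_ne_one hZ h2 (Nat.dvd_one.mp (S.t1_dvd_of_fix hZ hμ1 hμ)))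
      (by rw [sQ_mk]; congr 1; exact Subtype.ext (show (S.D.σ ^ 1) c = c by rw [pow_one]; exact hc))
  exact Subgroup.mem_subgroupOf.mp ((QuotientGroup.eq_one_iff _).mp this)

include hZ in
theorem fixed_mem_gam_three {c : P} (hc : S.D.σ c = c) (hc2 : c ∈ gam P 2) : c ∈ gam P 3 := by
  have : (QuotientGroup.mk ⟨c, hc2⟩ : Q P 2) = 1 :=
    eq_one_of_dual_fpf (S.sQ 2 S.t1) (fun μ hμ =>
      S.eq_one_of_fix_two' hZ hμ (S.not_f_dvd_t1 hZ) dvd_rfl)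
      (by rw [sQ_mk]; congr 1; exact Subtype.ext (S.fixed_pow hc _))
  exact Subgroup.mem_subgroupOf.mp ((QuotientGroup.eq_one_iff _).mp this)

include hZ in
theorem comm_fixed_three (x : P) {c : P} (hc : S.D.σ c = c) : ⁅x, c⁆ ∈ gam P 3 := by
  obtain ⟨r, hr, c', hc', w, hw, rfl⟩ := S.exists_decomp x
  rw [mul_assoc, comm_mul_left', comm_mul_left']
  refine mul_mem (conj_mem_gam (mul_mem (conj_mem_gam ?_ _) ?_) r) ?_
  · rw [← commutatorElement_inv]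
    exact inv_mem (S.comm_fixed_gam_two hc hw)
  · exact S.fixed_mem_gam_three hZ (by rw [map_commutatorElement, hc', hc])
      (S.comm_Z0 hZ c' (S.fixed_mem_Z0 hc))
  · exact S.comm_fixed (by omega) hc (fun y => S.comm_Z0 hZ y (S.fixed_mem_Z0 hc)) hr

/-- The fixed points of `σ`. -/
def fixed : Subgroup P where
  carrier := {c | S.D.σ c = c}
  one_mem' := map_one _
  mul_mem' := fun {a b} (ha : S.D.σ a = a) (hb : S.D.σ b = b) => by
    show S.D.σ (a * b) = a * b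
    rw [map_mul, ha, hb]
  inv_mem' := fun {a} (ha : S.D.σ a = a) => by
    show S.D.σ a⁻¹ = a⁻¹
    rw [map_inv, ha]

/-- The fixed points times the third term. -/
def W3 : Subgroup P := S.fixed ⊔ gam P 2

theorem mem_W3 {g : P} (hg : g ∈ S.W3) : ∃ c, S.D.σ c = c ∧ ∃ v ∈ gam P 2, g = c * v := by
  haveI : (gam P 2).Normal := Subgroup.lowerCentralSeries_normal ⊤ 2
  obtain ⟨c, hc, v, hv, rfl⟩ := Subgroup.mem_sup_of_normal_right.mp hg
  exact ⟨c, hc, v, hv, rfl⟩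

theorem W3_le : S.W3 ≤ S.D.Z0 :=
  sup_le (fun _ hc => S.fixed_mem_Z0 hc) (S.gam_le_Z0 (by omega))

theorem apply_W3 {n : P} (hn : n ∈ S.W3) : S.D.σ n ∈ S.W3 := by
  obtain ⟨c, hc, v, hv, rfl⟩ := S.mem_W3 hn
  rw [map_mul, hc]
  exact mul_mem (Subgroup.mem_sup_left hc) (Subgroup.mem_sup_right (apply_mem_gam _ hv))

include hZ in
theorem notMem_W3 (h2 : gam P 2 ≠ ⊥) {u : P} (hu : u ∈ gam P 1) (hu2 : u ∉ gam P 2) :
    u ∉ S.W3 := fun h => by
  obtain ⟨c, hc, v, hv, rfl⟩ := S.mem_W3 h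
  refine hu2 (mul_mem (S.fixed_mem_gam_two hZ h2 hc ?_) hv)
  have := mul_mem hu (inv_mem (gam_anti (i := 1) (by omega) hv))
  rwa [mul_inv_cancel_right] at this

include hZ in
/-- The characters nontrivial on the third term vanish off `W3`. -/
theorem vanish_W3 (ψ : IrrCharacter P) (hψ : ∃ g ∈ gam P 2, (ψ : P → ℂ) g ≠ (ψ : P → ℂ) 1)
    {x : P} (hx : x ∉ S.W3) : (ψ : P → ℂ) x = 0 := by
  classical
  obtain ⟨g₀, hg₀, hne₀⟩ := hψ
  have hψ1 : (ψ : P → ℂ) 1 ≠ 1 := fun h => by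
    have hle : commutator P ≤ (linearHom (isCharacter_of_isIrr ψ.2) h).ker :=
      Abelianization.commutator_subset_ker _
    have := congrArg Units.val (MonoidHom.mem_ker.mp (hle (gam_anti (i := 1) (by omega) hg₀)))
    rw [linearHom_apply] at this
    exact hne₀ (by rw [this, h]; rfl)
  by_cases hxZ : x ∈ S.D.Z0
  swap
  · exact S.D.vanish ψ hψ1 hxZ
  let Γ : Subgroup (S.D.Z0 →* ℂˣ) :=
    { carrier := {μ | ∀ k : S.D.Z0, (k : P) ∈ S.W3 → μ k = 1}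
      one_mem' := fun _ _ => rfl
      mul_mem' := fun {a b} ha hb k hk => by rw [MonoidHom.mul_apply, ha k hk, hb k hk, one_mul]
      inv_mem' := fun {a} ha k hk => by rw [MonoidHom.inv_apply, ha k hk, inv_one] }
  have hcommW : ∀ (g : P) (n : P), n ∈ S.D.Z0 → ⁅g, n⁆ ∈ S.W3 := fun g n hn =>
    Subgroup.mem_sup_right (S.comm_Z0 hZ g hn)
  have hinv : ∀ μ ∈ Γ, ∀ (g : P) (n : S.D.Z0) (h : g * n * g⁻¹ ∈ S.D.Z0), μ ⟨_, h⟩ = μ n := by
    intro μ hμ g n h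
    have hm : ⁅g, (n : P)⁆ ∈ S.D.Z0 := S.W3_le (hcommW g n n.2)
    rw [show (⟨g * n * g⁻¹, h⟩ : S.D.Z0) = ⟨_, hm⟩ * n from
      Subtype.ext (by simp [commutatorElement_def, mul_assoc]), map_mul,
      hμ ⟨_, hm⟩ (hcommW g n n.2), one_mul]
  obtain ⟨ψ₀, d₀, hd₀, hd₀1, -, hos₀⟩ := S.exists_t1 hZ
  have key := S.D.twist_cover S.D.Z0 (fun n hn => S.D.apply_mem_Z0 hn) Γ hinv
    (fun μ hμ ν hν k hk => (hν k).trans (hμ _ (S.apply_W3 hk)))
    (hos₀ ▸ S.D.os_dvd (isClassFunction_irr ψ₀) : S.t1 ∣ S.D.f)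
    (fun j hj μ hμ hfix => by
      -- the restriction to the derived subgroup
      let ν : Q P 1 →* ℂˣ := QuotientGroup.lift _
        (μ.comp (Subgroup.inclusion (S.gam_le_Z0 le_rfl))) fun g hg => by
          rw [MonoidHom.mem_ker, MonoidHom.comp_apply]
          exact hμ _ (Subgroup.mem_sup_right (Subgroup.mem_subgroupOf.mp hg))
      have hν : ν = 1 := by
        by_contra hν
        refine hj (S.t1_dvd_of_fix hZ hν fun y => ?_)
        obtain ⟨g, rfl⟩ := QuotientGroup.mk_surjective y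
        exact hfix ⟨g, S.gam_le_Z0 le_rfl g.2⟩
      refine MonoidHom.ext fun k => ?_
      obtain ⟨c, hc, w, hw, hk⟩ := S.exists_decomp_Z0 k.2
      have hwZ := S.gam_le_Z0 le_rfl hw
      rw [show k = (⟨c, S.fixed_mem_Z0 hc⟩ : S.D.Z0) * ⟨w, hwZ⟩ from Subtype.ext hk, map_mul,
        hμ ⟨c, _⟩ (Subgroup.mem_sup_left hc), one_mul, MonoidHom.one_apply]
      exact DFunLike.congr_fun hν (QuotientGroup.mk ⟨w, hw⟩)) ψ
    (fun ψ' ⟨μ, hμΓ, hμ⟩ => by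
      refine S.not_t1_dvd hZ ψ' ⟨g₀, hg₀, fun h => hne₀ ?_⟩
      have e := hμ ⟨g₀, S.gam_le_Z0 (by omega) hg₀⟩
      rw [hμΓ ⟨g₀, _⟩ (Subgroup.mem_sup_right hg₀), Units.val_one, one_mul,
        show (ψ' : P → ℂ) ((⟨g₀, S.gam_le_Z0 (by omega) hg₀⟩ : S.D.Z0) : P) =
          (ψ' : P → ℂ) 1 from h, mul_comm] at e
      exact (mul_right_cancel₀ (irr_degree_ne_zero ψ'.2) e).symm)
  -- separate
  set W' : Subgroup S.D.Z0 := S.W3.subgroupOf S.D.Z0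
  haveI : W'.Normal := Subgroup.Normal.of_commutator_le (G := S.D.Z0) (h := by
    rw [commutator_def, Subgroup.commutator_le]
    exact fun a _ b _ => hcommW a b b.2)
  have hcm : ∀ a b : S.D.Z0 ⧸ W', a * b = b * a := fun a b => by
    obtain ⟨a, rfl⟩ := QuotientGroup.mk_surjective a
    obtain ⟨b, rfl⟩ := QuotientGroup.mk_surjective b
    rw [← QuotientGroup.mk_mul, ← QuotientGroup.mk_mul, QuotientGroup.eq,
      show (a * b)⁻¹ * (b * a) = ⁅b⁻¹, a⁻¹⁆ by simp [commutatorElement_def, mul_assoc],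
      Subgroup.mem_subgroupOf]
    exact hcommW _ _ (a⁻¹).2
  letI : CommGroup (S.D.Z0 ⧸ W') := { mul_comm := hcm }
  have hne : ((⟨x, hxZ⟩ : S.D.Z0) : S.D.Z0 ⧸ W') ≠ 1 := fun e =>
    hx (Subgroup.mem_subgroupOf.mp ((QuotientGroup.eq_one_iff _).mp e))
  obtain ⟨φ, hφ⟩ := CommGroup.exists_apply_ne_one_of_hasEnoughRootsOfUnity (S.D.Z0 ⧸ W') ℂ hne
  have := key (φ.comp (QuotientGroup.mk' W')) (fun k hk => by
    rw [MonoidHom.comp_apply, QuotientGroup.mk'_apply,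
      (QuotientGroup.eq_one_iff k).mpr (Subgroup.mem_subgroupOf.mpr hk), map_one]) ⟨x, hxZ⟩
  by_contra h0
  exact hφ (Units.ext (mul_eq_right₀ h0 |>.mp this))

include hZ in
/-- The commutators with an element of the second layer fill the third term. -/
theorem exists_comm_two {u : P} (hu : u ∉ S.W3) {w : P} (hw : w ∈ gam P 2) :
    ∃ s : P, ⁅s, u⁆ = w := by
  have hwu : w * u ∉ S.W3 := fun h => hu (by
    have := mul_mem (inv_mem (Subgroup.mem_sup_right hw : w ∈ S.W3)) h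
    rwa [inv_mul_cancel_left] at this)
  obtain ⟨s, hs⟩ := isConj_iff.mp ((isConj_iff_irr_agree u (w * u)).mpr fun χ => by
    by_cases hχ : ∃ g ∈ gam P 2, (χ : P → ℂ) g ≠ (χ : P → ℂ) 1
    · rw [S.vanish_W3 hZ χ hχ hu, S.vanish_W3 hZ χ hχ hwu]
    · push Not at hχ
      obtain ⟨N, -, hN, hN'⟩ := exists_kernel (isCharacter_of_isIrr χ.2)
      exact (hN' w ((hN w).mpr (hχ w hw)) u).symm)
  exact ⟨s, by rw [commutatorElement_def, hs, mul_inv_cancel_right]⟩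

include hZ in
/-- A character over a linear character of the third layer. -/
theorem exists_mid {ν : Q P 2 →* ℂˣ} (hν : ν ≠ 1) :
    ∃ (ψ : IrrCharacter P) (d : ℕ), (ψ : P → ℂ) 1 = d ∧ d ≠ 1 ∧ d * d = S.W3.index ∧
      os S.D.σ (ψ : P → ℂ) = S.per 2 ν := by
  obtain ⟨ψ, d, hd, hd1, hval, -, hnt⟩ := S.exists_nontrivial hZ hν
  obtain ⟨h1, h2⟩ := S.os_eq_per S.W3 le_sup_right (fun n hn => S.apply_W3 hn)
    (fun n hn => S.mem_W3 hn) ψ hd (fun g hg => S.vanish_W3 hZ ψ hnt hg)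
    (fun n hn g => by
      obtain ⟨c, hc, v, hv, rfl⟩ := S.mem_W3 hn
      have hm : ⁅g, c * v⁆ ∈ gam P 3 := by
        rw [comm_mul_right']
        exact mul_mem (S.comm_fixed_three hZ g hc) (conj_mem_gam (comm_gam hv g) c)
      rw [hval _ (gam_anti (by omega) hm), val_succ ν hm, Units.val_one, one_mul, hd]) ν hval
  exact ⟨ψ, d, hd, hd1, h1, h2⟩

include hZ in
theorem per_two_eq {a b : Q P 2 →* ℂˣ} (ha : a ≠ 1) (hb : b ≠ 1) : S.per 2 a = S.per 2 b := by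
  refine S.per_uniform (fun a b ha hb hab => ?_) ha hb
  obtain ⟨ψa, da, hda, hda1, hsa, hoa⟩ := S.exists_mid hZ ha
  obtain ⟨ψb, db, hdb, hdb1, hsb, hob⟩ := S.exists_mid hZ hb
  have hdd : da = db := Nat.mul_self_inj.mp (hsa.trans hsb.symm)
  have hpos : 0 < da := Nat.pos_of_ne_zero fun h => irr_degree_ne_zero ψa.2 (by
    rw [hda, h, Nat.cast_zero])
  have heq := S.D.nd ψa ψb da db hda hdb (fun h => hda1 (Nat.eq_one_of_mul_eq_one_left h))
    (fun h => hdb1 (Nat.eq_one_of_mul_eq_one_left h))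
    (by rw [hoa, hob, hdd]; exact Nat.mul_dvd_mul_right hab _)
  rw [hoa, hob, ← hdd] at heq
  exact Nat.eq_of_mul_eq_mul_right hpos heq

end Zc

end QOp

end CfsgLib.NDDeg
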